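import Groth.Agent.Lib.SurfNef

/-!
Small consequences of adjunction and duality on smooth surfaces.
-/

set_option autoImplicit false
set_option linter.style.haveILetI false
set_option linter.unusedSectionVars false
set_option backward.isDefEq.respectTransparency false
set_option backward.isDefEq.respectTransparency.types false

universe u

open CategoryTheory CategoryTheory.Limits AlgebraicGeometry TopologicalSpace Opposite
open Groth.Agent.H23 Groth.Agent.H23.TrivBasic

noncomputable section

namespace Groth.Agent.SurfRows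

attribute [local instance] PicMul.clMonoid

variable (k : Type u) [Field k] {X : Scheme.{u}} [X.Over (Spec (CommRingCat.of k))]
  [IsProper (X ↘ Spec (CommRingCat.of k))] [Smooth (X ↘ Spec (CommRingCat.of k))] [IsIntegral X]

theorem topologicalKrullDim_subscheme {C : X.IdealSheafData} :
    topologicalKrullDim C.subscheme = topologicalKrullDim (C.support : Set X) :=
  IsHomeomorph.topologicalKrullDim_eq _
    ((C.subschemeι.isEmbedding.toHomeomorph).trans (Homeomorph.setCongr C.range_subschemeι)).isHomeomorph

/-- Adjunction with the genus: a rational curve. -/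
theorem adjunction_h1 [IsAlgClosed k] (hdim : topologicalKrullDim X = 2) {W : X.Modules}
    (hW : ExtPow.IsExtPow 2 (Omega.sheaf (X ↘ Spec (CommRingCat.of k))) W) {C : X.IdealSheafData}
    (hC : IsIntegral C.subscheme) (hC1 : topologicalKrullDim (C.support : Set X) = 1) :
    letI : C.subscheme.Over (Spec (CommRingCat.of k)) := ⟨C.subschemeι ≫ (X ↘ (Spec (CommRingCat.of k)))⟩
    2 - 2 * (Module.finrank k (Coh.HH C.subscheme (Coh.structureModule C.subscheme) 1) : ℤ) =
      SurfPairing.pair k (PicF.cl (ClSub.idealMod C)) (PicF.cl W) -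
        SurfPairing.pair k (PicF.cl (ClSub.idealMod C)) (PicF.cl (ClSub.idealMod C)) := by
  letI : C.subscheme.Over (Spec (CommRingCat.of k)) := ⟨C.subschemeι ≫ (X ↘ (Spec (CommRingCat.of k)))⟩
  haveI : IsProper (C.subscheme ↘ Spec (CommRingCat.of k)) :=
    inferInstanceAs (IsProper (C.subschemeι ≫ (X ↘ (Spec (CommRingCat.of k)))))
  have h := (SurfAdj.adjunction k hdim hW hC1).2
  rw [SurfAdj.euler_curve_eq k C.subscheme (topologicalKrullDim_subscheme.trans hC1).le] at h
  linarith

/-- No geometric genus: the second cohomology of an effective class vanishes. -/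
theorem h2_subsingleton (hdim : topologicalKrullDim X = 2) {W : X.Modules}
    (hW : ExtPow.IsExtPow 2 (Omega.sheaf (X ↘ Spec (CommRingCat.of k))) W)
    (hpg : Subsingleton (Coh.HH X W 0)) {L : X.Modules} (hL : PicF.IsInvertible L)
    (h0 : Nontrivial (Coh.HH X L 0)) : Subsingleton (Coh.HH X L 2) := by
  haveI := CurveCohLib.isNoetherian_of_proper (k := k) (X := X)
  haveI := CurveCohLib.finite_HH (k := k) (AmpleVan.isCoh_invertible hL) 2
  obtain ⟨H, hH⟩ := SurfAdj.exists_ample k hdim
  haveI := CurveFin.smoothOfRelativeDimension_of_dim (f := X ↘ Spec (CommRingCat.of k)) (d := 2) hdim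
  obtain ⟨n, ι, hi, hι⟩ := AmpleEmbed.exists_closedImmersion (X ↘ Spec (CommRingCat.of k)) hH
  haveI := hi
  obtain ⟨L', hL', e⟩ := PicInv.exists_inverse hL
  have h : PicF.cl L * PicF.cl L' = 1 := by
    rw [← PicMul.cl_tensor, PicMul.one_def]
    exact PicMul.cl_eq_iff.2 e
  have hWi := SurfAdj.isInvertible_W k hdim hW
  by_contra hns
  rw [not_subsingleton_iff_nontrivial] at hns
  let P := CohB1.tensorMod L' W
  have hpos : 0 < Module.finrank k (Coh.HH X P 0) := by
    rw [SmoothDuality.finrank_dual ι hι hW hL h 2 le_rfl]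
    exact Module.finrank_pos
  obtain ⟨t, ht⟩ := CurveAmple.exists_section_ne_zero (M := P) (Module.nontrivial_of_finrank_pos (R := k) hpos)
  obtain ⟨s, hs⟩ := CurveAmple.exists_section_ne_zero h0
  have hPi : PicF.IsInvertible P := PicMul.isInvertible_tensor hL' hWi
  haveI := CurveOnSurf.isEquivalence_tensor hPi
  haveI := CurveAmple.mono_ofSect hL hs
  haveI : Mono (CurveAmple.mulBy P s) := by
    haveI : Mono ((DCoh.tensorBi.obj P).map (InvX.ofSect s)) := inferInstance
    exact mono_comp _ _
  obtain ⟨e'⟩ : Nonempty (CohB1.tensorMod P L ≅ W) := PicMul.cl_eq_iff.1 (by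
    rw [PicMul.cl_tensor, PicMul.cl_tensor, mul_comm (PicF.cl L') (PicF.cl W), mul_assoc,
      mul_comm (PicF.cl L') (PicF.cl L), h, mul_one])
  have hle := CurveAmple.finrank_h0_le (k := k) (CurveAmple.mulBy P s ≫ e'.hom) (AmpleVan.isCoh_invertible hWi)
  rw [Module.finrank_zero_of_subsingleton (M := Coh.HH X W 0)] at hle
  omega

end Groth.Agent.SurfRows
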