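import Groth.Agent.Lib.SurfCone
import Groth.Agent.Lib.SurfNef

/-!
Numerical triviality on a surface through the intersection pairing.
-/

set_option autoImplicit false
set_option linter.style.haveILetI false
set_option linter.unusedSectionVars false
set_option backward.isDefEq.respectTransparency false
set_option backward.isDefEq.respectTransparency.types false
set_option maxHeartbeats 800000

universe u

open CategoryTheory CategoryTheory.Limits AlgebraicGeometry TopologicalSpace Opposite
open Groth.Agent.H23

noncomputable section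

namespace Groth.Agent.SurfRows

open Groth.Agent

attribute [local instance] PicMul.clMonoid

variable {k : Type u} [Field k] {X : Scheme.{u}} [X.Over (Spec (CommRingCat.of k))]
  [IsProper (X ↘ Spec (CommRingCat.of k))] [Smooth (X ↘ Spec (CommRingCat.of k))] [IsIntegral X]

/-- The degree of the restriction to an integral curve, in both normalisations. -/
theorem curveDeg_eq {Y : Scheme.{u}} [Y.Over (Spec (CommRingCat.of k))] [IsProper (Y ↘ Spec (CommRingCat.of k))]
    [IsIntegral Y] (hd : topologicalKrullDim Y ≤ 1) (M : Y.Modules) (hM : PicF.IsInvertible M) :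
    Pic13.curveDeg k (Y ↘ Spec (CommRingCat.of k)) M = Curv2.deg k Y M 1 := by
  have h : ∀ N : Y.Modules, Coh.IsQCoh N → FGA.eulerCharLE k Y N 1 = Curv2.euler k Y N := fun N hN =>
    (Euler.euler_eq_sum k N 2 fun i hi => by
      obtain ⟨n, rfl⟩ := Nat.exists_eq_add_of_le hi
      rw [add_comm]
      exact CurveVanish.subsingleton_HH_curve k hd hN n).symm
  haveI := CurveCohLib.isNoetherian_of_proper (k := k) (X := Y)
  show FGA.eulerCharLE k Y M 1 - FGA.eulerCharLE k Y (Coh.structureModule Y) 1 = _
  rw [h M (AmpleVan.isCoh_invertible hM).1, h _ QCoh.isQCoh_structureModule]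
  unfold Curv2.deg
  push_cast
  ring

/-- Numerically trivial means orthogonal to every invertible module. -/
theorem numEquiv_iff (hdim : topologicalKrullDim X = 2) {L : X.Modules} (hL : PicF.IsInvertible L) :
    Pic13.IsNumEquivZero k X L ↔
      ∀ M : X.Modules, PicF.IsInvertible M → SurfPairing.pair k (PicF.cl L) (PicF.cl M) = 0 := by
  constructor
  · intro hnum M hM
    obtain ⟨L', hL', e⟩ := PicInv.exists_inverse hL
    have hc : PicF.cl L * PicF.cl L' = 1 := by
      rw [← PicMul.cl_tensor, PicMul.one_def]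
      exact PicMul.cl_eq_iff.2 e
    have hcurve : ∀ C : X.IdealSheafData, IsIntegral C.subscheme → topologicalKrullDim (C.support : Set X) = 1 →
        SurfPairing.pair k (PicF.cl (ClSub.idealMod C)) (PicF.cl L) = 0 := by
      intro C hC hd
      haveI := hC
      let i := C.subschemeι
      letI : C.subscheme.Over (Spec (CommRingCat.of k)) := ⟨i ≫ (X ↘ (Spec (CommRingCat.of k)))⟩
      haveI : IsProper (C.subscheme ↘ Spec (CommRingCat.of k)) :=
        show IsProper (i ≫ (X ↘ Spec (CommRingCat.of k))) from inferInstance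
      have hd' : topologicalKrullDim C.subscheme = 1 := by
        rw [IsHomeomorph.topologicalKrullDim_eq _
          ((i.isEmbedding.toHomeomorph).trans (Homeomorph.setCongr C.range_subschemeι)).isHomeomorph, hd]
      have h := hnum C.subscheme i inferInstance hd'
      have h' := (curveDeg_eq (k := k) hd'.le _ (PicClLib.isInvertible_pullback i hL)).symm.trans h
      have hp := CurveOnSurf.pair_ideal (k := k) i hL
        (by rw [Scheme.IdealSheafData.ker_subschemeι]; exact SurfNef.invertible_ideal k hdim hC hd)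
      rw [Scheme.IdealSheafData.ker_subschemeι] at hp
      rw [hp, h', neg_zero]
    have hn : SurfNef.Nef k L := fun C hC hd => (hcurve C hC hd).le
    have hn' : SurfNef.Nef k L' := fun C hC hd => by
      rw [SurfPairing.pair_inv k hdim.le (SurfNef.invertible_ideal k hdim hC hd) hL hL' hc, hcurve C hC hd, neg_zero]
    have key : ∀ M : X.Modules, PicF.IsInvertible M → ∀ H : X.Modules, CohB1.IsAmple H →
        0 < SurfPairing.pair k (PicF.cl M) (PicF.cl M) → 0 < SurfPairing.pair k (PicF.cl M) (PicF.cl H) →
        SurfPairing.pair k (PicF.cl L) (PicF.cl M) = 0 := fun M hM H hH h1 h2 => by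
      have a := SurfNef.nef_big k hdim hL hn hH hM h1 h2
      have b := SurfNef.nef_big k hdim hL' hn' hH hM h1 h2
      rw [SurfPairing.pair_comm k (PicF.cl L') (PicF.cl M), SurfPairing.pair_inv k hdim.le hM hL hL' hc,
        SurfPairing.pair_comm k (PicF.cl M) (PicF.cl L)] at b
      linarith
    obtain ⟨H, hH⟩ := SurfAdj.exists_ample k hdim
    have hhh := SurfNef.ample_self_pos k hdim hH
    set a := SurfPairing.pair k (PicF.cl M) (PicF.cl M)
    set b := SurfPairing.pair k (PicF.cl M) (PicF.cl H)
    set c := SurfPairing.pair k (PicF.cl H) (PicF.cl H) with hc'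
    let n : ℕ := a.natAbs + 2 * b.natAbs + 1
    let Hn := CohB1.tensorPow H n
    have hHn : PicF.IsInvertible Hn := PicMul.isInvertible_tensorPow hH.1 n
    have hN := PicMul.isInvertible_tensor hM hHn
    have hpow : ∀ {A : X.Modules}, PicF.IsInvertible A →
        SurfPairing.pair k (PicF.cl A) (PicF.cl Hn) = n * SurfPairing.pair k (PicF.cl A) (PicF.cl H) :=
      fun hA => SurfAmple.pair_pow hdim.le hA hH.1 n
    have e1 : SurfPairing.pair k (PicF.cl (CohB1.tensorMod M Hn)) (PicF.cl H) = b + n * c := by
      rw [SurfPairing.pair_comm, PicMul.cl_tensor, SurfPairing.pair_mul k hdim.le hH.1 hM hHn, hpow hH.1,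
        SurfPairing.pair_comm]
    have e2 : SurfPairing.pair k (PicF.cl (CohB1.tensorMod M Hn)) (PicF.cl (CohB1.tensorMod M Hn)) =
        a + 2 * n * b + n * n * c := by
      have x1 := SurfPairing.pair_mul k hdim.le hN hM hHn
      have x2 := hpow hN
      have x3 := SurfPairing.pair_mul k hdim.le hM hM hHn
      rw [← PicMul.cl_tensor] at x1 x3
      rw [x1, x2, e1, SurfPairing.pair_comm k (PicF.cl (CohB1.tensorMod M Hn)) (PicF.cl M), x3, hpow hM]
      ring
    have hn1 : (n : ℤ) = a.natAbs + 2 * b.natAbs + 1 := by simp only [n]; push_cast; ring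
    have ha : -a ≤ (a.natAbs : ℤ) := by omega
    have hb : -b ≤ (b.natAbs : ℤ) := by omega
    have hb' : b ≤ (b.natAbs : ℤ) := by omega
    have h0 := key _ hH.1 H hH hhh hhh
    have hc1 : 1 ≤ c := hhh
    have hA : (0 : ℤ) ≤ a.natAbs := Int.natCast_nonneg _
    have hB : (0 : ℤ) ≤ b.natAbs := Int.natCast_nonneg _
    have hn0 : (0 : ℤ) ≤ n := Int.natCast_nonneg _
    have hbig1 : 0 < b + n * c := by nlinarith [mul_nonneg hn0 (sub_nonneg.2 hc1)]
    have hbig2 : 0 < a + 2 * n * b + n * n * c := by
      nlinarith [mul_nonneg (mul_nonneg hn0 hn0) (sub_nonneg.2 hc1), mul_nonneg hn0 (sub_nonneg.2 hb),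
        mul_nonneg hA hA, mul_nonneg hA hB, mul_nonneg hB hB]
    have h := key _ hN H hH (by rw [e2]; exact hbig2) (by rw [e1]; exact hbig1)
    rw [PicMul.cl_tensor, SurfPairing.pair_mul k hdim.le hL hM hHn, hpow hL, h0, mul_zero, add_zero] at h
    exact h
  · intro hall Y i hi hY hYd
    haveI := hY
    letI : Y.Over (Spec (CommRingCat.of k)) := ⟨i ≫ (X ↘ (Spec (CommRingCat.of k)))⟩
    haveI : IsProper (Y ↘ Spec (CommRingCat.of k)) :=
      show IsProper (i ≫ (X ↘ Spec (CommRingCat.of k))) from inferInstance
    have hI := CurveOnSurf.isInvertible_ideal (X ↘ Spec (CommRingCat.of k)) hdim (SurfHodge.regular k) i hYd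
    have h := hall _ hI
    rw [SurfPairing.pair_comm, CurveOnSurf.pair_ideal (k := k) i hL hI] at h
    exact (curveDeg_eq (k := k) hYd.le _ (PicClLib.isInvertible_pullback i hL)).trans (neg_eq_zero.1 h)

/-- The classes divided out are those orthogonal to every invertible module. -/
theorem mem_subCl_iff [PicGrp.Law X] (hdim : topologicalKrullDim X = 2) (c : PicLoc.PicSet X) :
    c ∈ PicGrp.subCl (Y := X) (Pic13.IsNumEquivZero k X) ↔
      ∀ M : X.Modules, PicF.IsInvertible M → SurfPairing.pair k c.1 (PicF.cl M) = 0 := by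
  constructor
  · intro hc
    induction hc using Subgroup.closure_induction with
    | mem x hx =>
      obtain ⟨L, hL, hnum, rfl⟩ := hx
      exact (numEquiv_iff hdim hL).1 hnum
    | one =>
      intro M hM
      rw [PicGrp.one_val, ← PicMul.one_def, SurfPairing.pair_comm, SurfPairing.pair_one]
    | mul x y _ _ hx hy =>
      intro M hM
      obtain ⟨A, hA, rfl⟩ := PicGrp.exists_eq_cls x
      obtain ⟨B, hB, rfl⟩ := PicGrp.exists_eq_cls y
      have hx' := hx M hM
      have hy' := hy M hM
      rw [PicGrp.cls_val, SurfPairing.pair_comm] at hx' hy'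
      rw [PicGrp.cls_mul_cls_val, PicMul.cl_tensor, SurfPairing.pair_comm, SurfPairing.pair_mul k hdim.le hM hA hB,
        hx', hy', add_zero]
    | inv x _ hx =>
      intro M hM
      obtain ⟨A, hA, rfl⟩ := PicGrp.exists_eq_cls x
      obtain ⟨B, hB, e⟩ := PicInv.exists_inverse hA
      have hc' : PicF.cl A * PicF.cl B = 1 := by
        rw [← PicMul.cl_tensor, PicMul.one_def]
        exact PicMul.cl_eq_iff.2 e
      have hx' := hx M hM
      rw [PicGrp.cls_val, SurfPairing.pair_comm] at hx'
      rw [PicGrp.cls_inv_eq_cls hA hB e, PicGrp.cls_val, SurfPairing.pair_comm,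
        SurfPairing.pair_inv k hdim.le hM hA hB hc', hx', neg_zero]
  · intro h
    obtain ⟨L, hL, rfl⟩ := PicGrp.exists_eq_cls c
    exact PicGrp.cls_mem_subCl hL ((numEquiv_iff hdim hL).2 h)

end Groth.Agent.SurfRows

end
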