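import Groth.Agent.SurfRows.FibreZero
import Groth.Agent.SurfRows.Basic
import Groth.Agent.SurfRows.NumEquiv
import Groth.Agent.CurveCover.FamilyH0
import Groth.Agent.CohPullX.FpExchange
import Groth.Agent.KFlatLib.Scheme.FibreEuler
import Groth.Agent.Lib.LerayOneDegree
import Groth.Agent.CurveCohLib.Nonspecial
import Groth.Agent.H28.BlowHH
import Groth.Agent.S2385
import Groth.Agent.S0023
import Groth.Agent.S10829
import Groth.Agent.H23.PnChart
import Groth.Agent.CurveEmbed.Points
import Groth.Agent.Lib.CurveSection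

/-!
Surfaces with projective lines as closed fibres over a curve.
-/

set_option autoImplicit false
set_option linter.style.haveILetI false
set_option linter.unusedSectionVars false
set_option backward.isDefEq.respectTransparency false
set_option backward.isDefEq.respectTransparency.types false
set_option maxHeartbeats 1000000

universe u

open CategoryTheory CategoryTheory.Limits AlgebraicGeometry TopologicalSpace Opposite
open Groth.Agent.H23

noncomputable section

namespace Groth.Agent.SurfRows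

open Groth.Agent

attribute [local instance] PicMul.clMonoid

variable (k : Type u) [Field k] [IsAlgClosed k]

/-- Invertible modules are finite locally free. -/
theorem locFree {X : Scheme.{u}} {M : X.Modules} (hM : PicF.IsInvertible M) : FlatMod.IsFinLocFree M :=
  fun x => by
    obtain ⟨U, hx, ⟨e⟩⟩ := hM x
    exact ⟨U, 1, hx, ⟨e ≪≫ (coproductUniqueIso fun _ : Fin 1 => Coh.structureModule (U : Scheme.{u})).symm⟩⟩

/-- The residue field of a closed point is the ground field. -/
theorem exists_residue_iso {C : Scheme.{u}} (q : C ⟶ Spec (CommRingCat.of k)) [LocallyOfFiniteType q]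
    (y : C) (hy : IsClosed ({y} : Set C)) :
    ∃ φ : k →+* C.residueField y, Function.Bijective φ ∧
      C.fromSpecResidueField y ≫ q = Spec.map (CommRingCat.ofHom φ) := by
  let φ := Spec.preimage (C.fromSpecResidueField y ≫ q)
  refine ⟨φ.hom, ⟨φ.hom.injective, fun b => ?_⟩, (Spec.map_preimage _).symm⟩
  let s := (pointEquivClosedPoint q).symm ⟨y, hy⟩
  have hs : s.1 (IsLocalRing.closedPoint k) = y :=
    congrArg Subtype.val ((pointEquivClosedPoint q).apply_symm_apply ⟨y, hy⟩)
  haveI : IsClosedImmersion (C.fromSpecResidueField y) :=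
    IsClosedImmersion.of_isPreimmersion _ (by rw [Scheme.range_fromSpecResidueField]; exact hy)
  obtain ⟨g, hg⟩ := H23.RedSub.exists_lift_closed s.1 (C.fromSpecResidueField y) (by
    rintro _ ⟨t, rfl⟩
    haveI : Subsingleton (Spec (CommRingCat.of k)) := inferInstanceAs (Subsingleton (PrimeSpectrum k))
    rw [Scheme.range_fromSpecResidueField, Subsingleton.elim t (IsLocalRing.closedPoint k)]
    exact hs)
  let ψ := Spec.preimage g
  have h1 : φ ≫ ψ = 𝟙 _ := by
    refine Spec.map_injective ?_
    rw [Spec.map_comp, Spec.map_preimage, Spec.map_preimage, Spec.map_id, ← Category.assoc, hg]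
    exact s.2
  refine ⟨ψ.hom b, ψ.hom.injective ?_⟩
  exact congr($h1 (ψ.hom b))

/-- Dimensions over the residue field of a closed point are dimensions over the ground field. -/
theorem finrank_fibre {X C : Scheme.{u}} (f : X ⟶ C) (q : C ⟶ Spec (CommRingCat.of k)) [LocallyOfFiniteType q]
    (y : C) (hy : IsClosed ({y} : Set C)) (M : (f.fiber y).Modules) (p : ℕ) :
    Models.hRank ↥(C.residueField y) (f.fiber y) (f.fiberToSpecResidueField y) M p =
      Models.hRank k (f.fiber y) (f.fiberι y ≫ f ≫ q) M p := by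
  obtain ⟨φ, hφ, e⟩ := exists_residue_iso k q y hy
  have h : f.fiberToSpecResidueField y ≫ Spec.map (CommRingCat.ofHom φ) = f.fiberι y ≫ f ≫ q := by
    rw [← e]
    exact (pullback.condition_assoc q).symm
  have hglob : ∀ c : k, Coh.toGlobal (f.fiberι y ≫ f ≫ q) c =
      Coh.toGlobal (A := ↥(C.residueField y)) (f.fiberToSpecResidueField y) (φ c) := fun c => by
    rw [← h]
    show ((Scheme.ΓSpecIso (CommRingCat.of k)).inv ≫
      (f.fiberToSpecResidueField y ≫ Spec.map (CommRingCat.ofHom φ)).appTop) c = _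
    rw [Scheme.Hom.comp_appTop, ← Scheme.ΓSpecIso_inv_naturality_assoc]
    rfl
  unfold Models.hRank
  letI mk : Module k (Coh.HH (f.fiber y) M p) :=
    Module.compHom _ (Coh.toGlobal (f.fiberι y ≫ f ≫ q))
  letI mκ : Module (C.residueField y) (Coh.HH (f.fiber y) M p) :=
    Module.compHom _ (Coh.toGlobal (A := ↥(C.residueField y)) (f.fiberToSpecResidueField y))
  exact (congrArg Cardinal.toNat (rank_eq_of_equiv_equiv φ (AddEquiv.refl _) hφ fun c x => by
    show Coh.toGlobal (f.fiberι y ≫ f ≫ q) c • x =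
      Coh.toGlobal (A := ↥(C.residueField y)) (f.fiberToSpecResidueField y) (φ c) • x
    rw [hglob])).symm

variable {X : Scheme.{u}} [X.Over (Spec (CommRingCat.of k))] [IsProper (X ↘ Spec (CommRingCat.of k))]
  [Smooth (X ↘ Spec (CommRingCat.of k))] [IsIntegral X]
  {C : Scheme.{u}} [C.Over (Spec (CommRingCat.of k))] [IsProper (C ↘ Spec (CommRingCat.of k))]
  [Smooth (C ↘ Spec (CommRingCat.of k))] [IsIntegral C]
  (π : X ⟶ C) [π.IsOver (Spec (CommRingCat.of k))] [Surjective π]

/-- Degrees do not depend on how the structure morphism is presented. -/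
theorem deg_over {C' X' : Scheme.{u}} [o : C'.Over (Spec (CommRingCat.of k))] [X'.Over (Spec (CommRingCat.of k))]
    (σ : C' ⟶ X') (hover : σ ≫ (X' ↘ Spec (CommRingCat.of k)) = C' ↘ Spec (CommRingCat.of k))
    (M : C'.Modules) (d : ℕ) :
    (letI : C'.Over (Spec (CommRingCat.of k)) := ⟨σ ≫ (X' ↘ Spec (CommRingCat.of k))⟩; Curv2.deg k C' M d) =
      Curv2.deg k C' M d := by
  obtain ⟨q⟩ := o
  change σ ≫ (X' ↘ Spec (CommRingCat.of k)) = q at hover
  subst hover
  rfl

include k in
/-- The morphism is proper, flat and of finite presentation. -/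
theorem fibred_morphism (hdimC : topologicalKrullDim C = 1) :
    IsProper π ∧ Flat π ∧ LocallyOfFinitePresentation π ∧ IsLocallyNoetherian C := by
  have hπ := comp_over π (Spec (CommRingCat.of k))
  haveI : IsProper (π ≫ (C ↘ Spec (CommRingCat.of k))) := by rw [hπ]; infer_instance
  haveI : IsProper π := IsProper.of_comp π (C ↘ Spec (CommRingCat.of k))
  haveI := CurveCohLib.isNoetherian_of_proper (k := k) (X := C)
  have hgen : π (genericPoint X) = genericPoint C := by
    obtain ⟨z, hz⟩ := π.surjective (genericPoint C)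
    have h : π (genericPoint X) ⤳ genericPoint C := hz ▸ (genericPoint_specializes z).map π.continuous
    exact (h.antisymm (genericPoint_specializes _)).eq
  exact ⟨inferInstance, H23.CurveCorr.flat_of_dominant (C ↘ Spec (CommRingCat.of k)) hdimC.le π hgen,
    inferInstance, inferInstance⟩

include k in
/-- Every point of the curve has a closed specialization. -/
theorem exists_closed_spec (y : C) : ∃ c, y ⤳ c ∧ IsClosed ({c} : Set C) :=
  VarDim.exists_closed_specialization (C ↘ Spec (CommRingCat.of k)) y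

/-- A closed fibre which is a projective line. -/
theorem line_fibre (hdimC : topologicalKrullDim C = 1) (y : C) (hy : IsClosed ({y} : Set C))
    (e : π.fiber y ≅ CohB1.ProjSpace 1 k) :
    letI : (π.fiber y).Over (Spec (CommRingCat.of k)) := ⟨π.fiberι y ≫ (X ↘ Spec (CommRingCat.of k))⟩
    IsProper (π.fiber y ↘ Spec (CommRingCat.of k)) ∧ IsIntegral (π.fiber y) ∧
      topologicalKrullDim (π.fiber y) = 1 ∧ IsClosedImmersion (π.fiberι y) ∧
      (π.fiberι y).ker = (Scheme.IdealSheafData.vanishingIdeal ⟨{y}, hy⟩).comap π ∧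
      Module.finrank k (Coh.HH (π.fiber y) (Coh.structureModule (π.fiber y)) 0) = 1 ∧
      Curv2.genus k (π.fiber y) = 0 := by
  letI : (π.fiber y).Over (Spec (CommRingCat.of k)) := ⟨π.fiberι y ≫ (X ↘ Spec (CommRingCat.of k))⟩
  haveI : IsClosedImmersion (C.fromSpecResidueField y) :=
    IsClosedImmersion.of_isPreimmersion _ (by rw [Scheme.range_fromSpecResidueField]; exact hy)
  haveI hcl : IsClosedImmersion (π.fiberι y) := MorphismProperty.pullback_fst _ _ inferInstance
  haveI : IsProper (π.fiber y ↘ Spec (CommRingCat.of k)) :=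
    show IsProper (π.fiberι y ≫ (X ↘ Spec (CommRingCat.of k))) from inferInstance
  haveI := H23.PnChart.isIntegral_projSpace (k := k) (n := 1)
  haveI : Nonempty (π.fiber y) := ⟨e.inv (genericPoint _)⟩
  haveI hint : IsIntegral (π.fiber y) := isIntegral_of_isOpenImmersion e.hom
  have hdim : topologicalKrullDim (π.fiber y) = 1 := by
    rw [IsHomeomorph.topologicalKrullDim_eq _ e.hom.homeomorph.isHomeomorph, S10829.result k 1]
    rfl
  haveI h1 : Subsingleton (Coh.HH (π.fiber y) (Coh.structureModule (π.fiber y)) 1) := by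
    obtain ⟨u⟩ := PicClLib.nonempty_pullback_structureModule e.inv
    exact H28.BlowHH.hh_iso e.inv QCoh.isQCoh_structureModule 1
      (QCoh.subsingleton_HH_of_iso u.symm 1 (S0023.result 1 k 1 one_pos))
  refine ⟨inferInstance, hint, hdim, hcl, ?_, SurfAdj.finrank_h0 k (π.fiber y), Module.finrank_zero_of_subsingleton⟩
  haveI := CurveCohLib.isNoetherian_of_proper (k := k) (X := C)
  have hk : (C.fromSpecResidueField y).ker = Scheme.IdealSheafData.vanishingIdeal ⟨{y}, hy⟩ :=
    S7837.ker_fromSpecResidueField C y hy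
  rw [← hk]
  exact Scheme.IdealSheafData.ker_fst_of_isClosedImmersion (C.fromSpecResidueField y) π

/-- The degree on a closed fibre through the intersection pairing. -/
theorem line_deg (hdim : topologicalKrullDim X = 2) (hdimC : topologicalKrullDim C = 1) (y : C)
    (hy : IsClosed ({y} : Set C)) (e : π.fiber y ≅ CohB1.ProjSpace 1 k) {L : X.Modules} (hL : PicF.IsInvertible L) :
    letI : (π.fiber y).Over (Spec (CommRingCat.of k)) := ⟨π.fiberι y ≫ (X ↘ Spec (CommRingCat.of k))⟩
    PicF.IsInvertible (ClSub.idealMod ((Scheme.IdealSheafData.vanishingIdeal ⟨{y}, hy⟩).comap π)) ∧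
    Curv2.deg k (π.fiber y) ((Scheme.Modules.pullback (π.fiberι y)).obj L) 1 =
      - FGA.intNum k X 2 ![L, ClSub.idealMod ((Scheme.IdealSheafData.vanishingIdeal ⟨{y}, hy⟩).comap π)]
        (Coh.structureModule X) := by
  letI : (π.fiber y).Over (Spec (CommRingCat.of k)) := ⟨π.fiberι y ≫ (X ↘ Spec (CommRingCat.of k))⟩
  obtain ⟨hpr, hint, hd, hcl, hker, -, -⟩ := line_fibre k π hdimC y hy e
  haveI := hpr; haveI := hint; haveI := hcl
  have hI := (S8914.result _).2 (fibre_facts k hdim hdimC π y hy).1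
  refine ⟨hI, ?_⟩
  have h := CurveOnSurf.pair_ideal (k := k) (π.fiberι y) hL (by rw [hker]; exact hI)
  rw [hker] at h
  rw [SurfPairing.intNum_eq_pair k hdim.le hL hI, SurfPairing.pair_comm k, h, neg_neg]

/-- Cohomology of a module of non-negative degree on a closed fibre. -/
theorem line_cohom (hdimC : topologicalKrullDim C = 1) (y : C) (hy : IsClosed ({y} : Set C))
    (e : π.fiber y ≅ CohB1.ProjSpace 1 k) {M : (π.fiber y).Modules} (hM : PicF.IsInvertible M) (d : ℤ)
    (hd : 0 ≤ d) :
    letI : (π.fiber y).Over (Spec (CommRingCat.of k)) := ⟨π.fiberι y ≫ (X ↘ Spec (CommRingCat.of k))⟩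
    Curv2.deg k (π.fiber y) M 1 = d →
      Subsingleton (Coh.HH (π.fiber y) M 1) ∧ (Module.finrank k (Coh.HH (π.fiber y) M 0) : ℤ) = d + 1 := by
  letI : (π.fiber y).Over (Spec (CommRingCat.of k)) := ⟨π.fiberι y ≫ (X ↘ Spec (CommRingCat.of k))⟩
  intro hdeg
  obtain ⟨hpr, hint, hdimF, -, -, h0, hg⟩ := line_fibre k π hdimC y hy e
  haveI := hpr; haveI := hint
  haveI := CurveCohLib.isNoetherian_of_proper (k := k) (X := π.fiber y)
  have hMc := CurveDeg.isCoh_of_isInvertible hM
  have hO := CurveCohLib.Nonspecial.euler_structure k hdimF h0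
  unfold Curv2.deg at hdeg
  haveI h1 := CurveCohLib.Nonspecial.h1_of_euler k hdimF hMc
    (fun φ hφ => CurveCohLib.Nonspecial.section_of_sub k hMc hM (𝟙 M) φ hφ) (by push_cast at hdeg; omega)
  have hh := CurveRR.euler_eq_h0_sub_h1 k hdimF.le hMc.1
  rw [Module.finrank_zero_of_subsingleton (M := Coh.HH (π.fiber y) M 1)] at hh
  exact ⟨h1, by push_cast at hdeg hh ⊢; omega⟩

variable (hfib : ∀ y : C, IsClosed ({y} : Set C) → Nonempty (π.fiber y ≅ CohB1.ProjSpace 1 k))

include hfib in
/-- Non-negative degrees on the fibres: fibre cohomology at closed points. -/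
theorem ruled_closed (hdim : topologicalKrullDim X = 2) (hdimC : topologicalKrullDim C = 1)
    {L : X.Modules} (hL : PicF.IsInvertible L) (y : C) (hy : IsClosed ({y} : Set C))
    (hdeg : FGA.intNum k X 2 ![L, (ClSub.idealMod ((Scheme.IdealSheafData.vanishingIdeal ⟨{y}, hy⟩).comap π))]
      (Coh.structureModule X) ≤ 0) :
    (∀ p : ℕ, 1 ≤ p → Subsingleton (CohIII.fiberH π L y p)) ∧
      (CohIII.fiberRank π L 0 y : ℤ) = 1 - FGA.intNum k X 2
        ![L, (ClSub.idealMod ((Scheme.IdealSheafData.vanishingIdeal ⟨{y}, hy⟩).comap π))] (Coh.structureModule X) := by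
  obtain ⟨e⟩ := hfib y hy
  letI ok : (π.fiber y).Over (Spec (CommRingCat.of k)) := ⟨π.fiberι y ≫ (X ↘ Spec (CommRingCat.of k))⟩
  obtain ⟨hpr, hfl, hlfp, hln⟩ := fibred_morphism k π hdimC
  haveI := hpr; haveI := hfl; haveI := hlfp; haveI := hln
  obtain ⟨-, -, hd, -⟩ := line_fibre k π hdimC y hy e
  obtain ⟨-, hdg⟩ := line_deg k π hdim hdimC y hy e hL
  obtain ⟨h1, h0⟩ := line_cohom k π hdimC y hy e (PicClLib.isInvertible_pullback (π.fiberι y) hL) _
    (by linarith) hdg
  refine ⟨fun p hp => ?_, ?_⟩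
  · rcases hp.eq_or_lt with rfl | hp
    · exact h1
    · exact CohPullX.subsingleton_fiberH_of_dim y 1 (by exact_mod_cast hd.le) p hp
  · have h := finrank_fibre k π (C ↘ Spec (CommRingCat.of k)) y hy (CohIII.fiberMod π L y) 0
    have e1 : π.fiberι y ≫ π ≫ (C ↘ Spec (CommRingCat.of k)) = π.fiberι y ≫ (X ↘ Spec (CommRingCat.of k)) := by
      rw [comp_over π]
    rw [e1] at h
    rw [show CohIII.fiberRank π L 0 y = _ from h]
    exact h0.trans (by ring)

include hfib in
/-- Non-negative degrees on the fibres: higher cohomology vanishes on all fibres. -/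
theorem ruled_fibre_vanish (hdim : topologicalKrullDim X = 2) (hdimC : topologicalKrullDim C = 1)
    {L : X.Modules} (hL : PicF.IsInvertible L)
    (hdeg : ∀ (y : C) (hy : IsClosed ({y} : Set C)),
      FGA.intNum k X 2 ![L, (ClSub.idealMod ((Scheme.IdealSheafData.vanishingIdeal ⟨{y}, hy⟩).comap π))]
        (Coh.structureModule X) ≤ 0) (y : C) (p : ℕ) (hp : 1 ≤ p) : Subsingleton (CohIII.fiberH π L y p) := by
  obtain ⟨hpr, hfl, hlfp, hln⟩ := fibred_morphism k π hdimC
  haveI := hpr; haveI := hfl; haveI := hlfp; haveI := hln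
  haveI : HasInjectiveResolutions X.Modules := KFlatLib.hasInjectiveResolutions_modules
  obtain ⟨c, hyc, hc⟩ := exists_closed_spec k y
  haveI := (ruled_closed k π hfib hdim hdimC hL c hc (hdeg c hc)).1 p hp
  have hopen := KFlatLib.FibreEuler.isOpen_fiberRank_lt (f := π) (QCoh.isFP_of_isFinLocFree
    (locFree hL)) (H28.FlatPr.isFlatOver_of_isFinLocFree π
      (locFree hL)) p 1
  have hy1 : CohIII.fiberRank π L p y < 1 :=
    hyc.mem_open hopen (show CohIII.fiberRank π L p c < 1 by
      rw [show CohIII.fiberRank π L p c = 0 from Module.finrank_zero_of_subsingleton]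
      exact one_pos)
  haveI : IsProper (π.fiberToSpecResidueField y) := MorphismProperty.pullback_snd _ _ inferInstance
  letI : (π.fiber y).Over (Spec (CommRingCat.of ↥(C.residueField y))) := ⟨π.fiberToSpecResidueField y⟩
  haveI : IsProper (π.fiber y ↘ Spec (CommRingCat.of ↥(C.residueField y))) :=
    ‹IsProper (π.fiberToSpecResidueField y)›
  haveI : IsLocallyNoetherian (π.fiber y) :=
    LocallyOfFiniteType.isLocallyNoetherian (π.fiberToSpecResidueField y)
  haveI : Module.Finite (C.residueField y) (CohIII.fiberH π L y p) :=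
    CurveCohLib.finite_HH (k := ↥(C.residueField y))
      (CurveDeg.isCoh_of_isInvertible (PicClLib.isInvertible_pullback (π.fiberι y) hL)) p
  exact Module.finrank_zero_iff.1 (Nat.lt_one_iff.1 hy1)

include hfib in
/-- Non-negative degrees on the fibres: the higher direct images vanish. -/
theorem ruled_Rpush (hdim : topologicalKrullDim X = 2) (hdimC : topologicalKrullDim C = 1)
    [HasInjectiveResolutions X.Modules] {L : X.Modules} (hL : PicF.IsInvertible L)
    (hdeg : ∀ (y : C) (hy : IsClosed ({y} : Set C)),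
      FGA.intNum k X 2 ![L, (ClSub.idealMod ((Scheme.IdealSheafData.vanishingIdeal ⟨{y}, hy⟩).comap π))]
        (Coh.structureModule X) ≤ 0) (p : ℕ) (hp : 0 < p) : IsZero ((Coh.Rpush π p).obj L) := by
  obtain ⟨hpr, hfl, hlfp, hln⟩ := fibred_morphism k π hdimC
  haveI := hpr; haveI := hfl; haveI := hlfp; haveI := hln
  haveI := CurveCohLib.isNoetherian_of_proper (k := k) (X := X)
  refine H28.PBAtlas.isZero_of_restrict _ fun y => ?_
  obtain ⟨U, hyU, hU⟩ := S2385.result π L (CurveDeg.isCoh_of_isInvertible hL) (H28.FlatPr.isFlatOver_of_isFinLocFree π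
    (locFree hL)) y p (ruled_fibre_vanish k π hfib hdim hdimC hL hdeg y p hp)
  exact ⟨U, hyU, hU.of_iso ((Scheme.Modules.restrictFunctorIsoPullback U.ι).app _).symm⟩

include hfib in
/-- Constant non-negative degree on the fibres: the direct image is locally free. -/
theorem ruled_push_rank (hdim : topologicalKrullDim X = 2) (hdimC : topologicalKrullDim C = 1)
    [HasInjectiveResolutions X.Modules] (n : ℕ) {L : X.Modules} (hL : PicF.IsInvertible L)
    (hdeg : ∀ (y : C) (hy : IsClosed ({y} : Set C)),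
      FGA.intNum k X 2 ![L, (ClSub.idealMod ((Scheme.IdealSheafData.vanishingIdeal ⟨{y}, hy⟩).comap π))]
        (Coh.structureModule X) = -(n : ℤ)) :
    FlatMod.IsFinLocFreeOfRank (n + 1) ((Coh.push π).obj L) := by
  obtain ⟨hpr, hfl, hlfp, hln⟩ := fibred_morphism k π hdimC
  haveI := hpr; haveI := hfl; haveI := hlfp; haveI := hln
  intro y
  obtain ⟨c, hyc, hc⟩ := exists_closed_spec k y
  obtain ⟨h1, h0⟩ := ruled_closed k π hfib hdim hdimC hL c hc (by rw [hdeg c hc]; omega)
  obtain ⟨U, hcU, ⟨i⟩⟩ := CohPullX.exists_free_of_neighbours (f := π) (QCoh.isFP_of_isFinLocFree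
    (locFree hL)) (H28.FlatPr.isFlatOver_of_isFinLocFree π
      (locFree hL)) c 0 (h1 1 le_rfl) (fun j hj => absurd hj (by omega))
  have hr : CohIII.fiberRank π L 0 c = n + 1 := by rw [hdeg c hc] at h0; omega
  rw [hr] at i
  haveI := SpObjSS.enoughInjectives_of_hasInjectiveResolutions (C := X.Modules)
  haveI := QCoh.preservesFiniteLimits_push π
  exact ⟨U, hyc.mem_open U.2 hcU, ⟨(Scheme.Modules.restrictFunctor U.ι).mapIso
    ((Scheme.Modules.pushforward π).rightDerivedZeroIsoSelf.app L).symm ≪≫ i⟩⟩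

include hfib in
/-- Constant functions on the closed fibres. -/
theorem line_h0 (hdimC : topologicalKrullDim C = 1) (y : C) (hy : IsClosed ({y} : Set C)) :
    Models.hRank ↥(C.residueField y) (π.fiber y) (π.fiberToSpecResidueField y)
      (Coh.structureModule (π.fiber y)) 0 = 1 := by
  obtain ⟨e⟩ := hfib y hy
  have h := finrank_fibre k π (C ↘ Spec (CommRingCat.of k)) y hy (Coh.structureModule (π.fiber y)) 0
  have e1 : π.fiberι y ≫ π ≫ (C ↘ Spec (CommRingCat.of k)) =
      π.fiberι y ≫ (X ↘ Spec (CommRingCat.of k)) := by rw [comp_over π]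
  rw [e1] at h
  obtain ⟨-, -, -, -, -, h0, -⟩ := line_fibre k π hdimC y hy e
  exact h.trans h0

include hfib in
/-- The functions of the surface are those of the curve. -/
theorem ruled_push_structure (hdimC : topologicalKrullDim C = 1) (U : C.Opens) :
    Function.Bijective (π.app U).hom := by
  obtain ⟨hpr, hfl, hlfp, hln⟩ := fibred_morphism k π hdimC
  haveI := hpr; haveI := hfl; haveI := hlfp; haveI := hln
  have hex : ∀ c : {c : C // IsClosed ({c} : Set C)}, ∃ (W : C.Opens) (hW : IsAffineOpen W), c.1 ∈ W ∧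
      ∀ (B : Type u) [CommRing B] (φ : Γ(C, W) →+* B) (X' : Scheme.{u}) (g : X' ⟶ X)
        (pB : X' ⟶ Spec (CommRingCat.of B)), IsPullback g pB π (Spec.map (CommRingCat.ofHom φ) ≫ hW.fromSpec) →
          Function.Bijective (Coh.toGlobal pB) := fun c => by
    obtain ⟨y, hy⟩ := c
    refine H26.FibModel.exists_functions π y ?_
    exact line_h0 k π hfib hdimC y hy
  choose V hV hy hg using hex
  let B : Set C.Opens := {W | IsAffineOpen W ∧ ∃ c, W ≤ V c}
  have hB : Opens.IsBasis B := Opens.isBasis_iff_nbhd.2 fun {U x} hx => by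
    obtain ⟨c, hxc, hc⟩ := exists_closed_spec k x
    obtain ⟨_, ⟨W, hW, rfl⟩, hxW, hWU⟩ := C.isBasis_affineOpens.exists_subset_of_mem_open
      (show x ∈ ((U ⊓ V ⟨c, hc⟩ : C.Opens) : Set C) from ⟨hx, hxc.mem_open (V ⟨c, hc⟩).2 (hy ⟨c, hc⟩)⟩)
      (U ⊓ V ⟨c, hc⟩).2
    exact ⟨W, ⟨hW, ⟨c, hc⟩, fun z hz => (hWU hz).2⟩, hxW, fun z hz => (hWU hz).1⟩
  haveI : IsIso (ClSub.unitToPush π) := QCoh.isIso_of_isBasis _ hB fun W hW => by
    obtain ⟨hW, s, hs⟩ := hW
    exact H26.FibModel.bijective_app_of_functions (hg s)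
      (IsPullback.of_horiz_isIso ⟨by simp⟩ : IsPullback (𝟙 X) π π (𝟙 C)) hW (by simpa using hs)
  exact ConcreteCategory.bijective_of_isIso ((ClSub.unitToPush π).app U)

/-- Cohomology through the direct image. -/
theorem leray_linear {L : X.Modules} [HasInjectiveResolutions X.Modules]
    (hR : ∀ p : ℕ, 0 < p → IsZero ((Coh.Rpush π p).obj L)) (i : ℕ) :
    Nonempty (Coh.HH X L i ≃ₗ[k] Coh.HH C ((Coh.push π).obj L) i) := by
  haveI := SpObjSS.enoughInjectives_of_hasInjectiveResolutions (C := X.Modules)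
  haveI := QCoh.preservesFiniteLimits_push π
  obtain ⟨e⟩ := LerayOneDegree.nonempty_HH (A := k) (Coh.toGlobal (C ↘ Spec (CommRingCat.of k))) π (M := L) 0 i
    fun n hn => hR n (Nat.pos_of_ne_zero hn)
  have hring : π.appTop.hom.comp (Coh.toGlobal (C ↘ Spec (CommRingCat.of k))) =
      Coh.toGlobal (X ↘ Spec (CommRingCat.of k)) := by
    rw [← comp_over π (Spec (CommRingCat.of k))]
    rfl
  let e' := QCoh.HHcongr (Coh.toGlobal (C ↘ Spec (CommRingCat.of k)))
    ((Scheme.Modules.pushforward π).rightDerivedZeroIsoSelf.app L).symm i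
  rw [hring, Nat.zero_add] at e
  exact ⟨(e'.trans e).symm⟩

include k in
/-- A section of a separated morphism is a closed immersion. -/
theorem section_closedImmersion (σ : C ⟶ X) (hσ : σ ≫ π = 𝟙 C) : IsClosedImmersion σ := by
  have hπ := comp_over π (Spec (CommRingCat.of k))
  haveI : IsSeparated (π ≫ (C ↘ Spec (CommRingCat.of k))) := by rw [hπ]; infer_instance
  haveI : IsSeparated π := IsSeparated.of_comp π (C ↘ Spec (CommRingCat.of k))
  haveI : IsClosedImmersion (σ ≫ π) := by rw [hσ]; infer_instance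
  exact IsClosedImmersion.of_comp σ π

/-- A section meets a fibre once. -/
theorem section_ideal (σ : C ⟶ X) [IsClosedImmersion σ] (hσ : σ ≫ π = 𝟙 C) (hdim : topologicalKrullDim X = 2)
    (hdimC : topologicalKrullDim C = 1) (y : C) (hy : IsClosed ({y} : Set C)) :
    PicF.IsInvertible (ClSub.idealMod σ.ker) ∧
      SurfPairing.pair k (PicF.cl (ClSub.idealMod σ.ker))
        (PicF.cl (ClSub.idealMod ((Scheme.IdealSheafData.vanishingIdeal ⟨{y}, hy⟩).comap π))) = 1 := by
  have hI : PicF.IsInvertible (ClSub.idealMod σ.ker) :=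
    CurveOnSurf.isInvertible_ideal (X ↘ Spec (CommRingCat.of k)) hdim (SurfHodge.regular k) σ hdimC
  refine ⟨hI, ?_⟩
  haveI := CurveCohLib.isNoetherian_of_proper (k := k) (X := C)
  have hn : IsIntegrallyClosed (C.presheaf.stalk y) := by
    haveI := GrpSchLib.isRegularLocalRing_stalk_of_smooth (C ↘ Spec (CommRingCat.of k)) y
    exact RegLoc6.isIntegrallyClosed_of_isRegularLocalRing _
  have hIy := CurveEmbed.isEffCartier_point k hdimC hy hn
  have hIF := (fibre_facts k hdim hdimC π y hy).1
  obtain ⟨e⟩ := H26.InterDiv.nonempty_pullback_idealMod π _ hIy hIF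
  have hp := CurveOnSurf.pair_ideal (k := k) σ ((S8914.result _).2 hIF) hI
  have hover : σ ≫ (X ↘ Spec (CommRingCat.of k)) = C ↘ Spec (CommRingCat.of k) := by
    rw [← comp_over π (Spec (CommRingCat.of k)), ← Category.assoc, hσ, Category.id_comp]
  let E : (Scheme.Modules.pullback σ).obj
      (ClSub.idealMod ((Scheme.IdealSheafData.vanishingIdeal ⟨{y}, hy⟩).comap π)) ≅ CurvePoint.ptMod y hy :=
    (Scheme.Modules.pullback σ).mapIso e.symm ≪≫ (Scheme.Modules.pullbackComp σ π).app _ ≪≫
      (Scheme.Modules.pullbackCongr hσ).app _ ≪≫ (Scheme.Modules.pullbackId C).app _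
  rw [hp, deg_over k σ hover]
  show -Curv2.deg k C _ 1 = 1
  rw [CurveRR.deg_congr k E, CurveEmbed.deg_point k hy]
  letI := Curv2.resAlgebra k C y
  rw [← (LinearEquiv.ofBijective (Algebra.linearMap k (C.residueField y))
    ⟨(Curv2.resMap k C y).injective, CurveSection.surjective_resMap k hy⟩).finrank_eq, Module.finrank_self]
  norm_num

/-- A fibre isomorphic to a line has self-intersection zero. -/
theorem fibre_self (hdim : topologicalKrullDim X = 2) (hdimC : topologicalKrullDim C = 1) (y : C)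
    (hy : IsClosed ({y} : Set C)) (e : π.fiber y ≅ CohB1.ProjSpace 1 k) :
    SurfPairing.pair k (PicF.cl (ClSub.idealMod ((Scheme.IdealSheafData.vanishingIdeal ⟨{y}, hy⟩).comap π)))
      (PicF.cl (ClSub.idealMod ((Scheme.IdealSheafData.vanishingIdeal ⟨{y}, hy⟩).comap π))) = 0 := by
  obtain ⟨-, hint, hd, hcl, hker, -, -⟩ := line_fibre k π hdimC y hy e
  haveI := hint; haveI := hcl
  obtain ⟨-, hsupp, horth⟩ := fibre_facts k hdim hdimC π y hy
  refine horth _ ?_ ?_ hsupp.le
  · rw [← hker]
    haveI : Nonempty (π.fiberι y).ker.subscheme := ⟨(π.fiberι y).toImage (genericPoint (π.fiber y))⟩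
    exact isIntegral_of_isOpenImmersion (inv (π.fiberι y).toImage)
  · rw [← SurfRows.topologicalKrullDim_subscheme, ← hker, ← hd]
    exact IsHomeomorph.topologicalKrullDim_eq _ (inv (π.fiberι y).toImage).homeomorph.isHomeomorph

end Groth.Agent.SurfRows
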