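import Groth.Agent.SurfRows.LineBundles
import Groth.Agent.SurfRows.Basic
import Groth.Agent.Lib.SurfNef
import Groth.Agent.Lib.GenLocusGG
import Groth.Agent.InvX.GenEpi
import Groth.Agent.Nakai.ChainGrowth
import Groth.Agent.CurveEmbed.DegOne
import Groth.Agent.GGDesc7.Main
import Groth.Agent.AmpleX.Generated
import Groth.Agent.H28.PBField
import Groth.Agent.H28.BlowHH
import Groth.Agent.Pic13Lib.IntNum
import Groth.Agent.Lib.SurfAdj
import Groth.Agent.S0023
import Groth.Agent.NormalLib.Finite

/-!
Global sections of invertible modules: generation, products, and sections meeting a given subscheme.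
-/

set_option autoImplicit false
set_option linter.style.haveILetI false
set_option linter.unusedSectionVars false
set_option backward.isDefEq.respectTransparency false
set_option backward.isDefEq.respectTransparency.types false
set_option maxHeartbeats 1000000

universe u

open CategoryTheory CategoryTheory.Limits AlgebraicGeometry TopologicalSpace Opposite
open Groth.Agent.H23 Groth.Agent.H23.TrivBasic

noncomputable section

namespace Groth.Agent.SurfRows

open Groth.Agent

attribute [local instance] PicMul.clMonoid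

/-- Sections generating everywhere give global generation. -/
theorem gg_of_locus {X : Scheme.{u}} {L : X.Modules} (h : ∀ x : X, ∃ t : Γ(L, ⊤), x ∈ locus t) :
    Curv2.IsGloballyGenerated L := by
  choose t ht using h
  exact InvX.isGloballyGenerated_of_generated (AVAmple.generatedBy_of_locus t fun x => ⟨x, ht x⟩)

/-- Products of generated invertible modules are generated. -/
theorem gg_tensor {X : Scheme.{u}} {A B : X.Modules} (hA : PicF.IsInvertible A) (hB : PicF.IsInvertible B)
    (gA : Curv2.IsGloballyGenerated A) (gB : Curv2.IsGloballyGenerated B) :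
    Curv2.IsGloballyGenerated (CohB1.tensorMod A B) := by
  refine gg_of_locus fun x => ?_
  obtain ⟨t, ht⟩ := GenLocusGG.exists_mem_locus hA gA x
  obtain ⟨s, hs⟩ := GenLocusGG.exists_mem_locus hB gB x
  exact ⟨_, (NefTriv.locus_mulBy hA hB s t).ge ⟨ht, hs⟩⟩

/-- The structure module is generated. -/
theorem gg_structure {X : Scheme.{u}} : Curv2.IsGloballyGenerated (Coh.structureModule X) := by
  obtain ⟨e, he⟩ := (show Triv (Coh.structureModule X) from ⟨Iso.refl _⟩).exists_frame
  exact gg_of_locus fun x => ⟨e, by rw [locus_eq_top_iff.2 he]; trivial⟩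

/-- Powers of generated invertible modules are generated. -/
theorem gg_pow {X : Scheme.{u}} {A : X.Modules} (hA : PicF.IsInvertible A) (gA : Curv2.IsGloballyGenerated A) :
    ∀ n : ℕ, Curv2.IsGloballyGenerated (CohB1.tensorPow A n)
  | 0 => gg_structure
  | n + 1 => by
    have h : Curv2.IsGloballyGenerated (CohB1.tensorMod (CohB1.tensorPow A n) A) :=
      gg_tensor (PicMul.isInvertible_tensorPow hA n) hA (gg_pow hA gA n) gA
    obtain ⟨e⟩ : Nonempty (CohB1.tensorMod (CohB1.tensorPow A n) A ≅ CohB1.tensorPow A (n + 1)) :=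
      PicMul.cl_eq_iff.1 (by rw [PicMul.cl_tensor, PicMul.cl_tensorPow, PicMul.cl_tensorPow, pow_succ])
    exact AmpleX.isGloballyGenerated_of_iso e h

/-- A section which generates somewhere is not zero. -/
theorem ne_zero_of_mem_locus {X : Scheme.{u}} {L : X.Modules} (hL : PicF.IsInvertible L) {t : Γ(L, ⊤)} {x : X}
    (hx : x ∈ locus t) : t ≠ 0 := by
  rintro rfl
  obtain ⟨U, hxU, e, he⟩ := InvX.exists_frame hL x
  have h := locus_eq_basicOpen (s := (0 : Γ(L, ⊤))) he (g := (0 : Γ(X, U))) (by rw [map_zero, zero_smul])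
  rw [Scheme.basicOpen_zero] at h
  exact (h.le ⟨hx, hxU⟩).elim

/-- The product of two nonzero sections on an integral scheme is nonzero. -/
theorem nontrivial_tensor {X : Scheme.{u}} [IsIntegral X] {A B : X.Modules} (hA : PicF.IsInvertible A)
    (hB : PicF.IsInvertible B) {t : Γ(A, ⊤)} {s : Γ(B, ⊤)} (ht : t ≠ 0) (hs : s ≠ 0) :
    ∃ p : Γ(CohB1.tensorMod A B, ⊤), p ≠ 0 := by
  obtain ⟨a, ha⟩ := (Opens.ne_bot_iff_nonempty _).1 (locus_ne_bot hA ht)
  obtain ⟨b, hb⟩ := (Opens.ne_bot_iff_nonempty _).1 (locus_ne_bot hB hs)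
  have hg : genericPoint X ∈ locus t ⊓ locus s :=
    ⟨(genericPoint_specializes a).mem_open (locus t).isOpen ha, (genericPoint_specializes b).mem_open (locus s).isOpen hb⟩
  exact ⟨_, ne_zero_of_mem_locus (PicMul.isInvertible_tensor hA hB) ((NefTriv.locus_mulBy hA hB s t).ge hg)⟩

variable {k : Type u} [Field k] {X : Scheme.{u}} [X.Over (Spec (CommRingCat.of k))]
  [IsProper (X ↘ Spec (CommRingCat.of k))]

/-- More sections than vanish on a reduced subscheme: one of them generates at a point of it. -/
theorem exists_section_meeting (K : X.IdealSheafData) [IsReduced K.subscheme] {L : X.Modules}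
    (hL : PicF.IsInvertible L)
    (hlt : Module.finrank k (Coh.HH X (CohB1.tensorMod L (ClSub.idealMod K)) 0) < Module.finrank k (Coh.HH X L 0)) :
    ∃ (s : Γ(L, ⊤)) (x : X), x ∈ K.support ∧ x ∈ locus s := by
  by_contra hno
  push_neg at hno
  haveI := CurveCohLib.isNoetherian_of_proper (k := k) (X := X)
  let f := DivisorExt.mulIdeal K L
  have hsurj : ∀ s : Γ(L, ⊤), ∃ t : Γ(CohB1.tensorMod L (ClSub.idealMod K), ⊤), f.app ⊤ t = s := by
    intro s
    haveI := CurveOnSurf.isEquivalence_tensor hL
    haveI : Mono (ClSub.idealModι K) := inferInstanceAs (Mono (kernel.ι _))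
    haveI : Mono ((DCoh.tensorBi.obj L).map (ClSub.idealModι K)) := inferInstance
    haveI : Mono (DivisorExt.mulIdeal K L) := mono_comp _ _
    have hz : (cokernel.π f).app ⊤ s = 0 := by
      refine AModX.eq_of_locally _ _ fun x _ => ?_
      obtain ⟨U₀, hxU₀, ε₀, hε₀⟩ := InvX.exists_frame hL x
      obtain ⟨U, hU, hxU, hUU₀⟩ := exists_isAffineOpen_mem_and_subset (x := x) (U := U₀) hxU₀
      replace hUU₀ : U ≤ U₀ := hUU₀
      refine ⟨U, le_top, hxU, ?_⟩
      have hε := hε₀.res hUU₀
      obtain ⟨g, hg⟩ := hε.exists_coord le_rfl (AModX.res L (le_top : U ≤ ⊤) s)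
      rw [AModX.res_self] at hg
      have hgK : K.subschemeι.app U g = 0 := by
        refine eq_zero_of_basicOpen_eq_bot _ (le_bot_iff.1 fun z hz => ?_)
        rw [← Scheme.preimage_basicOpen] at hz
        have h1 : K.subschemeι z ∈ K.support := by
          have : K.subschemeι z ∈ Set.range K.subschemeι := ⟨z, rfl⟩
          rwa [Scheme.IdealSheafData.range_subschemeι] at this
        exact hno s _ h1 ((locus_eq_basicOpen hε hg).ge hz).1
      obtain ⟨c, hc⟩ := OmegaLib.exists_idealSect_eq K U g hgK
      rw [← AModX.app_res, hg, map_zero]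
      rw [← hc, ← DivisorExt.mulIdeal_tmS K L]
      exact ConcreteCategory.congr_hom (congrArg (fun q => Scheme.Modules.Hom.app q U) (cokernel.condition f)) _
    have hcomp : InvX.ofSect s ≫ cokernel.π f = 0 := by
      refine CurveRR.hom_ext_one ?_
      show (cokernel.π f).app ⊤ ((InvX.ofSect s).app ⊤ (1 : Γ(X, ⊤))) = _
      rw [show (InvX.ofSect s).app ⊤ (1 : Γ(X, ⊤)) = s from InvX.one_ofSect s, hz]
      rfl
    let S := ShortComplex.mk f (cokernel.π f) (cokernel.condition f)
    have hex : S.Exact := ShortComplex.exact_of_g_is_cokernel _ (cokernelIsCokernel f)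
    let φ : Coh.structureModule X ⟶ CohB1.tensorMod L (ClSub.idealMod K) := hex.lift (InvX.ofSect s) hcomp
    refine ⟨InvX.one φ, ?_⟩
    have h := hex.lift_f (InvX.ofSect s) hcomp
    conv_rhs => rw [← InvX.one_ofSect s, ← h]
    rfl
  have hs' : Function.Surjective (PnCoh.Finite.mapLin k f 0) := fun x => by
    obtain ⟨t, ht⟩ := hsurj (Sheaf.H.equiv₀ (Coh.toAb L) isTerminalTop x)
    refine ⟨(Sheaf.H.equiv₀ (Coh.toAb (CohB1.tensorMod L (ClSub.idealMod K))) isTerminalTop).symm t,
      (Sheaf.H.equiv₀ (Coh.toAb L) isTerminalTop).injective ?_⟩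
    refine (Sheaf.H.equiv₀_naturality isTerminalTop ((QCoh.toAbFunctor X).map f) _).symm.trans ?_
    exact (congrArg (fun z => f.app ⊤ z) (AddEquiv.apply_symm_apply
      (Sheaf.H.equiv₀ (Coh.toAb (CohB1.tensorMod L (ClSub.idealMod K))) isTerminalTop) t)).trans ht
  haveI := CurveCohLib.finite_HH (k := k)
    (ParShLib.isCoh_tensorMod (CurveDeg.isCoh_of_isInvertible hL) (NormalLib.isCoh_idealMod K)) 0
  exact absurd hlt (not_lt.2 (LinearMap.finrank_le_finrank_of_surjective hs'))

/-- Monomorphisms are injective on sections. -/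
theorem mapLin_injective {A B : X.Modules} (f : A ⟶ B) [Mono f] :
    Function.Injective (PnCoh.Finite.mapLin k f 0) := by
  let S := ShortComplex.mk f (cokernel.π f) (cokernel.condition f)
  have hS : S.ShortExact := { exact := ShortComplex.exact_of_g_is_cokernel _ (cokernelIsCokernel f) }
  exact CurveCohLib.mapLin_f_zero_injective (A := k) (S := S) hS

omit [IsProper (X ↘ Spec (CommRingCat.of k))] in
/-- Sections in the image of the constants are multiples. -/
theorem eq_smul_of_surjective {L : X.Modules} (t : Γ(L, ⊤))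
    (h : Function.Surjective (PnCoh.Finite.mapLin k (InvX.ofSect t) 0)) (t' : Γ(L, ⊤)) :
    ∃ r : Γ(X, ⊤), t' = r • t := by
  obtain ⟨y, hy⟩ := h ((Sheaf.H.equiv₀ (Coh.toAb L) isTerminalTop).symm t')
  let r : Γ(X, ⊤) := Sheaf.H.equiv₀ (Coh.toAb (Coh.structureModule X)) isTerminalTop y
  have h' : (InvX.ofSect t).app ⊤ r = t' :=
    (Sheaf.H.equiv₀_naturality isTerminalTop ((QCoh.toAbFunctor X).map (InvX.ofSect t)) y).trans
      ((congrArg (Sheaf.H.equiv₀ (Coh.toAb L) isTerminalTop) hy).trans (AddEquiv.apply_symm_apply _ _))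
  refine ⟨r, h'.symm.trans ((InvX.app_eq_smul (InvX.ofSect t) r).trans ?_)⟩
  rw [InvX.one_ofSect, AModX.res_self]

variable [IsAlgClosed k] [IsIntegral X]

/-- A generated module of nonzero degree on a curve has two sections. -/
theorem two_le_h0 (hdim : topologicalKrullDim X = 1) {L : X.Modules} (hL : PicF.IsInvertible L)
    (hg : Curv2.IsGloballyGenerated L) (hdeg : Curv2.deg k X L 1 ≠ 0) :
    2 ≤ Module.finrank k (Coh.HH X L 0) := by
  haveI := CurveCohLib.isNoetherian_of_proper (k := k) (X := X)
  haveI := CurveCohLib.finite_HH (k := k) (CurveDeg.isCoh_of_isInvertible hL) 0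
  haveI := CurveCohLib.finite_HH (k := k) (QCoh.isCoh_structureModule' (X := X)) 0
  obtain ⟨t, ht⟩ := GenLocusGG.exists_mem_locus hL hg (genericPoint X)
  have ht0 := ne_zero_of_mem_locus hL ht
  obtain ⟨p, hp⟩ : ∃ p, p ∉ locus t := by
    by_contra! h
    obtain ⟨φ⟩ := triv_of_frame (locus_eq_top_iff.1 (top_le_iff.1 fun x _ => h x))
    exact hdeg (by rw [CurveRR.deg_congr k φ 1, CurveDeg.deg_structureModule])
  obtain ⟨t', ht'⟩ := GenLocusGG.exists_mem_locus hL hg p
  by_contra hlt
  haveI := CurveAmple.mono_ofSect hL ht0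
  have hinj := mapLin_injective (k := k) (InvX.ofSect t)
  have hrk : Module.finrank k (Coh.HH X (Coh.structureModule X) 0) = Module.finrank k (Coh.HH X L 0) := by
    have h1 := LinearMap.finrank_le_finrank_of_injective hinj
    rw [SurfAdj.finrank_h0 k X] at h1 ⊢
    omega
  obtain ⟨r, hr⟩ := eq_smul_of_surjective (k := k) t
    ((LinearMap.injective_iff_surjective_of_finrank_eq_finrank hrk).1 hinj) t'
  obtain ⟨U, hpU, e, he⟩ := InvX.exists_frame hL p
  obtain ⟨g, hg'⟩ := he.exists_coord le_rfl (AModX.res L (le_top : U ≤ ⊤) t)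
  rw [AModX.res_self] at hg'
  have h' : AModX.res L (le_top : U ≤ ⊤) t' = (AModX.resR (le_top : U ≤ ⊤) r * g) • e := by
    rw [hr, AModX.res_smul, hg', mul_smul]
  have hm := (locus_eq_basicOpen he h').le ⟨ht', hpU⟩
  rw [Scheme.basicOpen_mul] at hm
  exact hp ((locus_eq_basicOpen he hg').ge hm.2).1

omit [IsAlgClosed k] in
/-- An integral curve of a scheme with a generated module of degree one on it is rational. -/
theorem euler_quot_of_deg_one [IsAlgClosed k] (σ : X.IdealSheafData) (hσ : IsIntegral σ.subscheme)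
    (hd : topologicalKrullDim (σ.support : Set X) = 1) {L : X.Modules} (hL : PicF.IsInvertible L)
    (hg : Curv2.IsGloballyGenerated L)
    (hdeg : letI : σ.subscheme.Over (Spec (CommRingCat.of k)) := ⟨σ.subschemeι ≫ (X ↘ (Spec (CommRingCat.of k)))⟩
      Curv2.deg k σ.subscheme ((Scheme.Modules.pullback σ.subschemeι).obj L) 1 = 1) :
    Curv2.euler k X (ClSub.quotMod σ) = 1 := by
  haveI := hσ
  let i := σ.subschemeι
  letI : σ.subscheme.Over (Spec (CommRingCat.of k)) := ⟨i ≫ (X ↘ (Spec (CommRingCat.of k)))⟩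
  haveI : IsProper (σ.subscheme ↘ Spec (CommRingCat.of k)) :=
    show IsProper (i ≫ (X ↘ Spec (CommRingCat.of k))) from inferInstance
  haveI := CurveCohLib.isNoetherian_of_proper (k := k) (X := σ.subscheme)
  have hd' : topologicalKrullDim σ.subscheme = 1 := topologicalKrullDim_subscheme.trans hd
  have hi := PicClLib.isInvertible_pullback i hL
  have h2 := two_le_h0 (k := k) hd' hi (GGDesc7.pullback_gg i hg) (by rw [hdeg]; exact one_ne_zero)
  obtain ⟨e, -⟩ := CurveEmbed.exists_iso_line_of_deg_one k hd' hi hdeg h2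
  haveI h1 : Subsingleton (Coh.HH σ.subscheme (Coh.structureModule σ.subscheme) 1) := by
    obtain ⟨u⟩ := PicClLib.nonempty_pullback_structureModule e.inv
    exact H28.BlowHH.hh_iso e.inv QCoh.isQCoh_structureModule 1
      (QCoh.subsingleton_HH_of_iso u.symm 1 (S0023.result 1 k 1 one_pos))
  have h := Pic13Lib.euler_push (k := k) i rfl (N := Coh.structureModule σ.subscheme) QCoh.isQCoh_structureModule
  refine h.trans ?_
  rw [CurveRR.euler_eq_h0_sub_h1 k hd'.le QCoh.isQCoh_structureModule, SurfAdj.finrank_h0 k σ.subscheme,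
    Module.finrank_zero_of_subsingleton (R := k) (M := Coh.HH σ.subscheme (Coh.structureModule σ.subscheme) 1)]
  norm_num

/-- The twisting modules of non-negative degree on the line are generated. -/
theorem gg_twist_line {F : Type u} [Field F] [IsAlgClosed F] {b : ℤ} (hb : 0 ≤ b) :
    Curv2.IsGloballyGenerated (Twist.twistProjSpace 1 F b) := by
  haveI := CurveCover.isProper_line F
  haveI := CurveCover.isIntegral_line F
  haveI := CurveCover.smooth_line F
  haveI := CurveCohLib.isNoetherian_of_proper (k := F) (X := CohB1.ProjSpace 1 F)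
  have h1 : Curv2.IsGloballyGenerated (Twist.twistProjSpace 1 F 1) := by
    refine InvX.isGloballyGenerated_of_generated
      (s := fun i : ULift.{u} (Fin (1 + 1)) => H28.PBField.co 1 F i.down) fun x => ?_
    rw [show Set.range (fun i : ULift.{u} (Fin (1 + 1)) =>
        ((Twist.twistProjSpace 1 F 1).presheaf.germ ⊤ x trivial).hom (H28.PBField.co 1 F i.down)) =
      Set.range (fun i : Fin (1 + 1) => ((Twist.twistProjSpace 1 F 1).presheaf.germ ⊤ x trivial).hom (H28.PBField.co 1 F i))
      from ULift.down_surjective.range_comp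
        (fun i => ((Twist.twistProjSpace 1 F 1).presheaf.germ ⊤ x trivial).hom (H28.PBField.co 1 F i))]
    exact H28.PBField.generated_co 1 F x
  have hinv := CurveCover.isInvertible_twist F 1
  obtain ⟨n, rfl⟩ := Int.eq_ofNat_of_zero_le hb
  obtain ⟨e⟩ := iso_of_deg_eq F (CurveCover.dim_line F) (CurveCover.genus_line F)
    (PicMul.isInvertible_tensorPow hinv n) (CurveCover.isInvertible_twist F (n : ℤ))
    (by rw [CurveAmple.deg_tensorPow (k := F) (CurveCover.dim_line F) hinv n, deg_twist, deg_twist]; simp)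
  exact AmpleX.isGloballyGenerated_of_iso e (gg_pow hinv h1 n)

end Groth.Agent.SurfRows
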