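import Groth.Agent.S7797
import Groth.Agent.S0844
import Groth.Agent.CurveCover.Line
import Groth.Agent.Lib.CurveDualPrep
import Groth.Agent.Lib.CurveRR
import Groth.Agent.CurveCohLib.Nonspecial
import Groth.Agent.H23.PicMul

/-!
Vector bundles on the projective line: when twisting down keeps the first cohomology.
-/

set_option autoImplicit false
set_option linter.style.haveILetI false
set_option linter.unusedSectionVars false
set_option backward.isDefEq.respectTransparency false
set_option backward.isDefEq.respectTransparency.types false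
set_option maxHeartbeats 1000000

universe u

open CategoryTheory CategoryTheory.Limits AlgebraicGeometry TopologicalSpace Opposite
open Groth.Agent.H23

noncomputable section

namespace Groth.Agent.SurfRows

open Groth.Agent

attribute [local instance] PicMul.clMonoid

/-- On a curve without genus, modules of the same degree are isomorphic. -/
theorem iso_of_deg_eq (k : Type u) [Field k] [IsAlgClosed k] {X : Scheme.{u}} [X.Over (Spec (CommRingCat.of k))]
    [IsProper (X ↘ Spec (CommRingCat.of k))] [Smooth (X ↘ Spec (CommRingCat.of k))] [IsIntegral X]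
    (hdim : topologicalKrullDim X = 1) (hg : Curv2.genus k X = 0) {A B : X.Modules} (hA : PicF.IsInvertible A)
    (hB : PicF.IsInvertible B) (h : Curv2.deg k X A 1 = Curv2.deg k X B 1) : Nonempty (A ≅ B) := by
  haveI := CurveCohLib.isNoetherian_of_proper (k := k) (X := X)
  obtain ⟨B', hB', hdB', ⟨e⟩⟩ := CurveDuality.exists_inverse_deg k hdim hB
  let L := CohB1.tensorMod A B'
  have hL : PicF.IsInvertible L := PicMul.isInvertible_tensor hA hB'
  have hd : Curv2.deg k X L 1 = 0 := by
    have := CurveRR.deg_tensor k hdim hA hB'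
    change Curv2.deg k X L 1 = _ at this
    omega
  have hLc := CurveDeg.isCoh_of_isInvertible hL
  have hO := CurveRR.euler_structureModule k (X := X) hdim.le
  have hχ := CurveRR.euler_eq_h0_sub_h1 k hdim.le hLc.1
  have hd' := hd
  unfold Curv2.deg at hd'
  rw [hO, hg] at hd'
  have hne : Module.finrank k (Coh.HH X L 0) ≠ 0 := by
    intro h0
    rw [h0] at hχ
    push_cast at hχ hd'
    omega
  obtain ⟨s, hs⟩ := CurveRR.exists_hom_ne_zero k hne
  haveI := (CurveDeg.deg_le_and_isIso k hdim.le CurveDeg.isInvertible_structureModule hL s hs).2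
    (by rw [CurveDeg.deg_structureModule, hd])
  exact PicMul.cl_eq_iff.1 (left_inv_eq_right_inv
    (show PicF.cl A * PicF.cl B' = 1 by rw [← PicMul.cl_tensor]; exact PicMul.cl_eq_iff.2 ⟨(asIso s).symm⟩)
    (show PicF.cl B' * PicF.cl B = 1 by rw [mul_comm]; exact PicMul.cl_eq_iff.2 ⟨e⟩))

variable (k : Type u) [Field k] [IsAlgClosed k]

/-- The degree of a twisting module on the line. -/
theorem deg_twist (d : ℤ) : Curv2.deg k (CohB1.ProjSpace 1 k) (Twist.twistProjSpace 1 k d) 1 = d := by
  haveI := CurveCover.isProper_line k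
  haveI := CurveCover.isIntegral_line k
  haveI := CurveCover.smooth_line k
  haveI := CurveCohLib.isNoetherian_of_proper (k := k) (X := CohB1.ProjSpace 1 k)
  have hd1 := CurveCover.deg_twist_one k
  have hstep : ∀ a : ℤ, Curv2.deg k (CohB1.ProjSpace 1 k) (Twist.twistProjSpace 1 k (a + 1)) 1 =
      Curv2.deg k (CohB1.ProjSpace 1 k) (Twist.twistProjSpace 1 k a) 1 + 1 := fun a => by
    obtain ⟨e⟩ := PnCoh.Finite.twist_tensor_iso (ProjRegular.coords k 1) ProjRegular.coords_mem ProjRegular.coords_cover a 1
    have h := CurveRR.deg_tensor k (CurveCover.dim_line k) (CurveCover.isInvertible_twist k a) (CurveCover.isInvertible_twist k 1)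
    rw [CurveRR.deg_congr k (show (DCoh.tensorBi.obj (Twist.twistProjSpace 1 k a)).obj (Twist.twistProjSpace 1 k 1) ≅
      Twist.twistProjSpace 1 k (a + 1) from e), hd1] at h
    exact h
  induction d using Int.induction_on with
  | zero =>
    have h := hstep 0
    rw [zero_add, hd1] at h
    omega
  | succ i ih =>
    rw [hstep, ih]
  | pred i ih =>
    have h := hstep (-(i : ℤ) - 1)
    rw [sub_add_cancel, ih] at h
    omega

/-- First cohomology of the twisting modules. -/
theorem finrank_h1_twist (d : ℤ) :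
    (0 ≤ d → Module.finrank k (Coh.HH (CohB1.ProjSpace 1 k) (Twist.twistProjSpace 1 k (d - 1)) 1) = 0) ∧
      (d < 0 → Module.finrank k (Coh.HH (CohB1.ProjSpace 1 k) (Twist.twistProjSpace 1 k (d - 1)) 1) =
        Module.finrank k (Coh.HH (CohB1.ProjSpace 1 k) (Twist.twistProjSpace 1 k d) 1) + 1) := by
  haveI := CurveCover.isProper_line k
  haveI := CurveCover.isIntegral_line k
  haveI := CurveCover.smooth_line k
  haveI := CurveCohLib.isNoetherian_of_proper (k := k) (X := CohB1.ProjSpace 1 k)
  refine ⟨fun h => ?_, fun h => ?_⟩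
  · haveI := S0844.result k 1 (d - 1) 1 (fun h' => absurd h'.1 one_ne_zero) (fun h' => by omega)
    exact Module.finrank_zero_of_subsingleton
  · have key : ∀ a : ℤ, a < 0 →
        (Module.finrank k (Coh.HH (CohB1.ProjSpace 1 k) (Twist.twistProjSpace 1 k a) 1) : ℤ) =
          -(a + Curv2.euler k (CohB1.ProjSpace 1 k) (Coh.structureModule (CohB1.ProjSpace 1 k))) := fun a ha => by
      haveI := S0844.result k 1 a 0 (fun h' => by omega) (fun h' => by omega)
      have hq := CurveDeg.isCoh_of_isInvertible (CurveCover.isInvertible_twist k a)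
      have hχ := CurveRR.euler_eq_h0_sub_h1 k (CurveCover.dim_line k).le hq.1
      rw [Module.finrank_zero_of_subsingleton (R := k)
        (M := Coh.HH (CohB1.ProjSpace 1 k) (Twist.twistProjSpace 1 k a) 0)] at hχ
      have hd := deg_twist k a
      unfold Curv2.deg at hd
      push_cast at hd hχ
      omega
    have h1 := key d h
    have h2 := key (d - 1) (by omega)
    omega

/-- A bundle keeping its first cohomology after twisting down has none. -/
theorem p1_no_h1 {E : (CohB1.ProjSpace 1 k).Modules} {r : ℕ} (hE : FlatMod.IsFinLocFreeOfRank r E)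
    (h : Module.finrank k (Coh.HH (CohB1.ProjSpace 1 k) (CohB1.tensorMod E (Twist.twistProjSpace 1 k (-1))) 1) ≤
      Module.finrank k (Coh.HH (CohB1.ProjSpace 1 k) E 1)) :
    Module.finrank k (Coh.HH (CohB1.ProjSpace 1 k) E 1) = 0 ∧
      Module.finrank k (Coh.HH (CohB1.ProjSpace 1 k) (CohB1.tensorMod E (Twist.twistProjSpace 1 k (-1))) 1) = 0 := by
  haveI := CurveCover.isProper_line k
  haveI := CurveCover.isIntegral_line k
  haveI := CurveCover.smooth_line k
  haveI := CurveCohLib.isNoetherian_of_proper (k := k) (X := CohB1.ProjSpace 1 k)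
  obtain ⟨d, ⟨-, ⟨e⟩⟩, -⟩ := S7797.result k r E hE
  haveI hfin : ∀ (a : ℤ), Module.Finite k (Coh.HH (CohB1.ProjSpace 1 k) (Twist.twistProjSpace 1 k a) 1) := fun a =>
    CurveCohLib.finite_HH (CurveDeg.isCoh_of_isInvertible (CurveCover.isInvertible_twist k a)) 1
  obtain ⟨e'⟩ := S7797.twist_iso k r d (-1)
  have h1 : Module.finrank k (Coh.HH (CohB1.ProjSpace 1 k) E 1) =
      ∑ j, Module.finrank k (Coh.HH (CohB1.ProjSpace 1 k) (Twist.twistProjSpace 1 k (d j)) 1) :=
    (CurveCohLib.hhEquiv (k := k) e 1).finrank_eq.trans (TwistSum.finrank_HH_sigma _ 1)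
  have h2 : Module.finrank k (Coh.HH (CohB1.ProjSpace 1 k) (CohB1.tensorMod E (Twist.twistProjSpace 1 k (-1))) 1) =
      ∑ j, Module.finrank k (Coh.HH (CohB1.ProjSpace 1 k) (Twist.twistProjSpace 1 k (d j + -1)) 1) := by
    let e₁ : CohB1.tensorMod E (Twist.twistProjSpace 1 k (-1)) ≅
        ∐ fun j => Twist.twistProjSpace 1 k (d j + -1) := (RegEpi.twF (k := k) (n := 1) (-1)).mapIso e ≪≫ e'
    exact (CurveCohLib.hhEquiv (k := k) e₁ 1).finrank_eq.trans (TwistSum.finrank_HH_sigma _ 1)
  have hle : ∀ j ∈ (Finset.univ : Finset (Fin r)),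
      Module.finrank k (Coh.HH (CohB1.ProjSpace 1 k) (Twist.twistProjSpace 1 k (d j)) 1) ≤
        Module.finrank k (Coh.HH (CohB1.ProjSpace 1 k) (Twist.twistProjSpace 1 k (d j + -1)) 1) := fun j _ => by
    rcases lt_or_ge (d j) 0 with hj | hj
    · rw [← sub_eq_add_neg, (finrank_h1_twist k (d j)).2 hj]
      omega
    · haveI := S0844.result k 1 (d j) 1 (fun h' => absurd h'.1 one_ne_zero) (fun h' => by omega)
      rw [Module.finrank_zero_of_subsingleton (R := k)
        (M := Coh.HH (CohB1.ProjSpace 1 k) (Twist.twistProjSpace 1 k (d j)) 1)]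
      exact Nat.zero_le _
  rw [h1, h2] at h
  have heq := (Finset.sum_eq_sum_iff_of_le hle).1 (le_antisymm (Finset.sum_le_sum hle) h)
  have hnn : ∀ j, 0 ≤ d j := fun j => by
    by_contra hj
    have := heq j (Finset.mem_univ j)
    rw [← sub_eq_add_neg, (finrank_h1_twist k (d j)).2 (by omega)] at this
    omega
  have hz : ∀ j, Module.finrank k (Coh.HH (CohB1.ProjSpace 1 k) (Twist.twistProjSpace 1 k (d j + -1)) 1) = 0 := fun j => by
    rw [← sub_eq_add_neg]
    exact (finrank_h1_twist k (d j)).1 (hnn j)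
  rw [h1, h2]
  refine ⟨Finset.sum_eq_zero fun j hj => ?_, Finset.sum_eq_zero fun j _ => hz j⟩
  have := hle j hj
  rw [hz] at this
  omega

end Groth.Agent.SurfRows
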