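import Groth.Agent.Lib.SurfNef
import Groth.Agent.Lib.SurfNegDef
import Mathlib.LinearAlgebra.Matrix.ToLinearEquiv

/-!
A nef and big class orthogonal to exactly a given negative definite family of curves.
-/

set_option autoImplicit false
set_option linter.style.haveILetI false
set_option linter.unusedSectionVars false
set_option backward.isDefEq.respectTransparency false
set_option backward.isDefEq.respectTransparency.types false
set_option maxHeartbeats 800000

universe u

open CategoryTheory CategoryTheory.Limits AlgebraicGeometry TopologicalSpace Opposite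
open Groth.Agent.H23 Groth.Agent.H23.TrivBasic

noncomputable section

namespace Groth.Agent.SurfRows

open Groth.Agent

attribute [local instance] PicMul.clMonoid

/-- An integral solution of a linear system with a negative definite matrix, up to a positive multiple. -/
theorem exists_int_solution {ι : Type*} [Fintype ι] [DecidableEq ι] (G : Matrix ι ι ℤ)
    (hneg : ∀ a : ι → ℤ, a ≠ 0 → ∑ i, ∑ j, a i * a j * G i j < 0) (v : ι → ℤ) :
    ∃ m : ℤ, 0 < m ∧ ∃ s : ι → ℤ, ∀ j, ∑ i, s i * G i j = m * v j := by
  have hdet : G.det ≠ 0 := fun h0 => by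
    obtain ⟨a, ha0, ha⟩ := Matrix.exists_vecMul_eq_zero_iff.2 h0
    refine (hneg a ha0).ne ?_
    rw [Finset.sum_comm]
    refine Finset.sum_eq_zero fun j _ => ?_
    have h := congr_fun ha j
    simp only [Matrix.vecMul, dotProduct, Pi.zero_apply] at h
    calc ∑ i, a i * a j * G i j = a j * ∑ i, a i * G i j := by
          rw [Finset.mul_sum]; exact Finset.sum_congr rfl fun i _ => by ring
      _ = 0 := by rw [h, mul_zero]
  refine ⟨G.det * G.det, mul_self_pos.2 hdet, G.det • Matrix.vecMul v G.adjugate, fun j => ?_⟩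
  have h : Matrix.vecMul (Matrix.vecMul v G.adjugate) G = G.det • v := by
    rw [Matrix.vecMul_vecMul, Matrix.adjugate_mul, Matrix.vecMul_smul, Matrix.vecMul_one]
  have hj := congr_fun h j
  simp only [Matrix.vecMul, dotProduct, Pi.smul_apply, smul_eq_mul] at hj
  calc ∑ i, (G.det • Matrix.vecMul v G.adjugate) i * G i j
      = G.det * ∑ i, Matrix.vecMul v G.adjugate i * G i j := by
        rw [Finset.mul_sum]
        exact Finset.sum_congr rfl fun i _ => by simp only [Pi.smul_apply, smul_eq_mul]; ring
    _ = G.det * G.det * v j := by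
        simp only [Matrix.vecMul, dotProduct]
        rw [hj]; ring

variable (k : Type u) [Field k] [IsAlgClosed k] {X : Scheme.{u}} [X.Over (Spec (CommRingCat.of k))]
  [IsProper (X ↘ Spec (CommRingCat.of k))] [Smooth (X ↘ Spec (CommRingCat.of k))] [IsIntegral X]

/-- An integral combination of invertible classes, as seen by the pairing. -/
theorem exists_pair_sum (hdim : topologicalKrullDim X = 2) {ι : Type*} [DecidableEq ι] (A : ι → X.Modules)
    (hA : ∀ i, PicF.IsInvertible (A i)) (c : ι → ℤ) (t : Finset ι) :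
    ∃ (V : X.Modules) (_ : PicF.IsInvertible V), ∀ {B : X.Modules}, PicF.IsInvertible B →
      SurfPairing.pair k (PicF.cl B) (PicF.cl V) = ∑ i ∈ t, c i * SurfPairing.pair k (PicF.cl B) (PicF.cl (A i)) := by
  induction t using Finset.induction with
  | empty =>
    exact ⟨Coh.structureModule X, InvX.isInvertible_structureModule, fun _ => by
      rw [← PicMul.one_def, SurfPairing.pair_one, Finset.sum_empty]⟩
  | @insert a t ha ih =>
    obtain ⟨V, hV, h⟩ := ih
    obtain ⟨W, hW, h'⟩ := SurfAdj.exists_smul k hdim.le (hA a) (c a)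
    refine ⟨CohB1.tensorMod W V, PicMul.isInvertible_tensor hW hV, fun hB => ?_⟩
    rw [PicMul.cl_tensor, SurfPairing.pair_mul k hdim.le hB hW hV, h' hB, h hB, Finset.sum_insert ha]

include k in
theorem isEffCartier_of_curve (hdim : topologicalKrullDim X = 2) {I : X.IdealSheafData}
    (hint : IsIntegral I.subscheme) (hd : topologicalKrullDim (I.support : Set X) = 1) :
    BlowUp.IsEffCartierIdeal I :=
  (S8914.result I).1 (SurfNef.invertible_ideal k hdim hint hd)

/-- Distinct curves meet nonnegatively. -/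
theorem pair_curves_nonneg (hdim : topologicalKrullDim X = 2) {I J : X.IdealSheafData}
    (hI : IsIntegral I.subscheme) (hId : topologicalKrullDim (I.support : Set X) = 1)
    (hJ : IsIntegral J.subscheme) (hJd : topologicalKrullDim (J.support : Set X) = 1) (hne : I ≠ J) :
    0 ≤ SurfPairing.pair k (PicF.cl (ClSub.idealMod I)) (PicF.cl (ClSub.idealMod J)) := by
  haveI := hI
  haveI := hJ
  exact SurfNegDef.pair_ideal_nonneg (k := k) hdim (SurfHodge.regular k) hId (isEffCartier_of_curve k hdim hJ hJd)
    fun h => hne (SurfNegDef.eq_of_support_subset (k := k) hId hJd h)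

/-- For a negative definite family of curves, a nef class of positive square orthogonal exactly to them. -/
theorem exists_orth_class (hdim : topologicalKrullDim X = 2) {ι : Type*} [Fintype ι] [DecidableEq ι]
    (C : ι → X.IdealSheafData) (hC : Function.Injective C) (hCi : ∀ i, IsIntegral (C i).subscheme)
    (hCd : ∀ i, topologicalKrullDim ((C i).support : Set X) = 1)
    (hneg : ∀ a : ι → ℤ, a ≠ 0 → ∑ i, ∑ j, a i * a j *
      SurfPairing.pair k (PicF.cl (ClSub.idealMod (C i))) (PicF.cl (ClSub.idealMod (C j))) < 0)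
    {H : X.Modules} (hH : CohB1.IsAmple H) :
    ∃ (L : X.Modules) (_ : PicF.IsInvertible L), SurfNef.Nef k L ∧
      0 < SurfPairing.pair k (PicF.cl L) (PicF.cl L) ∧ 0 < SurfPairing.pair k (PicF.cl L) (PicF.cl H) ∧
      ∀ D : X.IdealSheafData, IsIntegral D.subscheme → topologicalKrullDim (D.support : Set X) = 1 →
        (SurfPairing.pair k (PicF.cl (ClSub.idealMod D)) (PicF.cl L) = 0 ↔ ∃ i, D = C i) := by
  have hI := fun i => SurfNef.invertible_ideal k hdim (hCi i) (hCd i)
  have hCH : ∀ i, SurfPairing.pair k (PicF.cl (ClSub.idealMod (C i))) (PicF.cl H) < 0 := fun i => by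
    haveI := hCi i
    exact SurfNegDef.pair_curve_ample_neg (k := k) hdim (SurfHodge.regular k) (hCd i) hH
  set G : Matrix ι ι ℤ := Matrix.of fun i j =>
    SurfPairing.pair k (PicF.cl (ClSub.idealMod (C i))) (PicF.cl (ClSub.idealMod (C j))) with hGdef
  obtain ⟨m, hm, s, hs⟩ := exists_int_solution G hneg
    fun j => -SurfPairing.pair k (PicF.cl (ClSub.idealMod (C j))) (PicF.cl H)
  have hs0 : ∀ i, s i ≤ 0 := SurfNegDef.nonpos_of_mul G
    (fun i j hij => pair_curves_nonneg k hdim (hCi i) (hCd i) (hCi j) (hCd j) fun h => hij (hC h)) hneg s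
    fun j => by
      rw [hs j]
      exact mul_nonneg hm.le (neg_nonneg.2 (hCH j).le)
  obtain ⟨V, hV, hVp⟩ := exists_pair_sum k hdim (fun i => ClSub.idealMod (C i)) hI s Finset.univ
  obtain ⟨H', hH', hH'p⟩ := SurfAdj.exists_smul k hdim.le hH.1 m
  have hL := PicMul.isInvertible_tensor hH' hV
  have hpL : ∀ {B : X.Modules}, PicF.IsInvertible B →
      SurfPairing.pair k (PicF.cl B) (PicF.cl (CohB1.tensorMod H' V)) = m * SurfPairing.pair k (PicF.cl B) (PicF.cl H) +
        ∑ i, s i * SurfPairing.pair k (PicF.cl B) (PicF.cl (ClSub.idealMod (C i))) := fun hB => by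
    rw [PicMul.cl_tensor, SurfPairing.pair_mul k hdim.le hB hH' hV, hH'p hB, hVp hB]
  have hzero : ∀ i, SurfPairing.pair k (PicF.cl (ClSub.idealMod (C i))) (PicF.cl (CohB1.tensorMod H' V)) = 0 := by
    intro j
    rw [hpL (hI j)]
    have h := hs j
    simp only [hGdef, Matrix.of_apply] at h
    rw [Finset.sum_congr rfl fun i _ => by rw [SurfPairing.pair_comm]]
    rw [h]
    ring
  have hlt : ∀ D : X.IdealSheafData, IsIntegral D.subscheme → topologicalKrullDim (D.support : Set X) = 1 →
      (∀ i, D ≠ C i) → SurfPairing.pair k (PicF.cl (ClSub.idealMod D)) (PicF.cl (CohB1.tensorMod H' V)) < 0 := by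
    intro D hD hDd hne
    haveI := hD
    rw [hpL (SurfNef.invertible_ideal k hdim hD hDd)]
    have h1 := SurfNegDef.pair_curve_ample_neg (k := k) hdim (SurfHodge.regular k) hDd hH
    have h2 : ∑ i, s i * SurfPairing.pair k (PicF.cl (ClSub.idealMod D)) (PicF.cl (ClSub.idealMod (C i))) ≤ 0 :=
      Finset.sum_nonpos fun i _ => mul_nonpos_of_nonpos_of_nonneg (hs0 i)
        (pair_curves_nonneg k hdim hD hDd (hCi i) (hCd i) (hne i))
    nlinarith
  have hLH : 0 < SurfPairing.pair k (PicF.cl (CohB1.tensorMod H' V)) (PicF.cl H) := by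
    rw [SurfPairing.pair_comm, hpL hH.1]
    have h1 := SurfNef.ample_self_pos k hdim hH
    have h2 : 0 ≤ ∑ i, s i * SurfPairing.pair k (PicF.cl H) (PicF.cl (ClSub.idealMod (C i))) :=
      Finset.sum_nonneg fun i _ => mul_nonneg_of_nonpos_of_nonpos (hs0 i) (by
        rw [SurfPairing.pair_comm]; exact (hCH i).le)
    nlinarith
  refine ⟨_, hL, fun D hD hDd => ?_, ?_, hLH, fun D hD hDd => ⟨fun h => ?_, ?_⟩⟩
  · by_cases h : ∃ i, D = C i
    · obtain ⟨i, rfl⟩ := h
      exact (hzero i).le
    · push_neg at h
      exact (hlt D hD hDd h).le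
  · rw [hpL hL, Finset.sum_eq_zero fun i _ => by rw [SurfPairing.pair_comm, hzero i, mul_zero], add_zero]
    exact mul_pos hm hLH
  · by_contra hne
    push_neg at hne
    exact (hlt D hD hDd hne).ne h
  · rintro ⟨i, rfl⟩
    exact hzero i

end Groth.Agent.SurfRows
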