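import Groth.Agent.SurfRows.NumConn
import Groth.Agent.SurfRows.OrthClass
import Groth.Agent.ModPairLib.BlowUp
import Groth.Agent.ModPairLib.Quot
import Groth.Agent.S10855

/-!
An effective divisor on an open set determines the curves meeting it, with multiplicities.
-/

set_option autoImplicit false
set_option linter.style.haveILetI false
set_option linter.unusedSectionVars false
set_option backward.isDefEq.respectTransparency false
set_option backward.isDefEq.respectTransparency.types false

universe u

open CategoryTheory CategoryTheory.Limits AlgebraicGeometry TopologicalSpace Opposite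
open Groth.Agent.H23

noncomputable section

namespace Groth.Agent.SurfRows

open Groth.Agent

theorem comap_iota_congr {X : Scheme.{u}} {O : X.Opens} {I J : X.IdealSheafData}
    (h : ∀ W : X.affineOpens, (W : X.Opens) ≤ O → I.ideal W = J.ideal W) : I.comap O.ι = J.comap O.ι := by
  refine Scheme.IdealSheafData.ext (funext fun V => ?_)
  let W : X.affineOpens := ⟨O.ι ''ᵁ V.1, V.2.image_of_isOpenImmersion O.ι⟩
  have hle : V.1 ≤ O.ι ⁻¹ᵁ W.1 := (O.ι.preimage_image_eq V.1).ge
  rw [ModPairLib.ideal_comap I O.ι W V hle, ModPairLib.ideal_comap J O.ι W V hle,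
    h W (O.ι_image_le V.1)]

theorem comap_iota_eq_top {X : Scheme.{u}} {O : X.Opens} {I : X.IdealSheafData}
    (h : ∀ x ∈ O, x ∉ I.support) : I.comap O.ι = ⊤ := by
  refine (Scheme.IdealSheafData.support_eq_bot_iff (I := I.comap O.ι)).1 (eq_bot_iff.2 fun z hz => ?_)
  rw [Scheme.IdealSheafData.support_comap] at hz
  exact absurd hz (h z.1 z.2)

variable (k : Type u) [Field k] [IsAlgClosed k] {X : Scheme.{u}} [X.Over (Spec (CommRingCat.of k))]
  [IsProper (X ↘ Spec (CommRingCat.of k))] [Smooth (X ↘ Spec (CommRingCat.of k))] [IsIntegral X]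

include k in
/-- The curves of a divisor meeting an open set are determined by the divisor there. -/
theorem curves_unique (hdim : topologicalKrullDim X = 2) (O : X.Opens) :
    ∀ (s t : Multiset X.IdealSheafData),
      (∀ C ∈ s, IsIntegral C.subscheme ∧ topologicalKrullDim (C.support : Set X) = 1 ∧ ((C.support : Set X) ∩ O).Nonempty) →
      (∀ C ∈ t, IsIntegral C.subscheme ∧ topologicalKrullDim (C.support : Set X) = 1 ∧ ((C.support : Set X) ∩ O).Nonempty) →
      s.prod.comap O.ι = t.prod.comap O.ι → s = t := by
  intro s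
  induction s using Multiset.induction with
  | empty =>
    intro t _ ht h
    by_contra hne
    obtain ⟨C, hC⟩ := Multiset.exists_mem_of_ne_zero (Ne.symm hne)
    obtain ⟨x, hxC, hxO⟩ := (ht C hC).2.2
    have hx : (⟨x, hxO⟩ : O.toScheme) ∈ (t.prod.comap O.ι).support := by
      rw [Scheme.IdealSheafData.support_comap]
      exact Scheme.IdealSheafData.support_antitone (eq_top_or_le t hC) hxC
    rw [← h, Scheme.IdealSheafData.support_comap, Multiset.prod_zero, Scheme.IdealSheafData.one_eq_top,
      Scheme.IdealSheafData.support_top] at hx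
    exact hx
  | cons C s ih =>
    intro t hs ht h
    obtain ⟨hint, hd, x, hxC, hxO⟩ := hs C (Multiset.mem_cons_self _ _)
    have hsub : (C.support : Set X) ∩ O ⊆ (t.prod.support : Set X) := fun y ⟨hyC, hyO⟩ => by
      have hy : (⟨y, hyO⟩ : O.toScheme) ∈ ((C ::ₘ s).prod.comap O.ι).support := by
        rw [Scheme.IdealSheafData.support_comap]
        exact Scheme.IdealSheafData.support_antitone (eq_top_or_le _ (Multiset.mem_cons_self C s)) hyC
      rw [h, Scheme.IdealSheafData.support_comap] at hy
      exact hy
    haveI := hint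
    let η := C.subschemeι (genericPoint C.subscheme)
    obtain ⟨c, hc⟩ := C.range_subschemeι.ge hxC
    have hηO : η ∈ O := ((genericPoint_specializes c).map C.subschemeι.continuous).mem_open O.2 (hc ▸ hxO)
    obtain ⟨C', hC't, hηC'⟩ := exists_mem_support t (hsub ⟨C.range_subschemeι.le ⟨_, rfl⟩, hηO⟩)
    obtain ⟨hint', hd', -⟩ := ht C' hC't
    haveI := hint'
    obtain rfl : C = C' := SurfNegDef.eq_of_support_subset (k := k) hd hd' fun y hy => by
      obtain ⟨v, rfl⟩ := C.range_subschemeι.ge hy
      exact ((genericPoint_specializes v).map C.subschemeι.continuous).mem_closed C'.support.isClosed hηC'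
    obtain ⟨t', rfl⟩ := Multiset.exists_cons_of_mem hC't
    rw [Multiset.prod_cons, Multiset.prod_cons, ModPairLib.ideal_comap_mul, ModPairLib.ideal_comap_mul,
      mul_comm (C.comap O.ι), mul_comm (C.comap O.ι)] at h
    rw [ih t' (fun D hD => hs D (Multiset.mem_cons_of_mem hD)) (fun D hD => ht D (Multiset.mem_cons_of_mem hD))
      (ModPairLib.eq_of_mul_eq_mul (S10855.result O.ι C (isEffCartier_of_curve k hdim hint hd)) h)]

end Groth.Agent.SurfRows
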