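import Groth.Agent.RegLoc6.Basic
import Groth.Agent.BlowUpLib.Glue
import Groth.Agent.RegBlow6.Geometry
import Groth.Agent.RegBlow6.FlatCentre
import Groth.Agent.ModPairLib.Basic

/-!
The order of a curve at a point of a regular surface is read off on the blowing up of the point.
-/

set_option autoImplicit false
set_option linter.style.haveILetI false
set_option linter.unusedSectionVars false
set_option backward.isDefEq.respectTransparency false
set_option backward.isDefEq.respectTransparency.types false
set_option maxHeartbeats 800000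

universe u

open CategoryTheory CategoryTheory.Limits AlgebraicGeometry TopologicalSpace IsLocalRing

noncomputable section

namespace Groth.Agent.SurfRows

open Groth.Agent

/-- In a regular local ring of dimension two a parameter has order one. -/
theorem mem_pow_of_param_mul {R : Type u} [CommRing R] [IsRegularLocalRing R] (hd : ringKrullDim R = 2) {a : R}
    (ha : a ∈ maximalIdeal R) (ha2 : a ∉ maximalIdeal R ^ 2) :
    ∀ (j n : ℕ) (h : R), a ^ j * h ∈ maximalIdeal R ^ (j + n) → h ∈ maximalIdeal R ^ n := by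
  classical
  obtain ⟨hq, hqd⟩ := RegLoc6.isRegularLocalRing_quot_and ha ha2
  haveI := RegLoc6.isDomain_of_isRegularLocalRing (R ⧸ Ideal.span {a})
  haveI hp : (Ideal.span {a}).IsPrime := (Ideal.Quotient.isDomain_iff_prime _).1 inferInstance
  haveI := RegLoc6.isDomain_of_isRegularLocalRing R
  have ha0 : a ≠ 0 := fun h => ha2 (h ▸ zero_mem _)
  obtain ⟨t, ht, hcard⟩ := RegLoc6.exists_generators_insert ha ha2
  have h2 : (maximalIdeal R).spanFinrank = 2 := by
    have h := IsRegularLocalRing.spanFinrank_maximalIdeal (R := R)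
    rw [hd] at h
    exact_mod_cast h
  have hb : ∃ b : R, maximalIdeal R = Ideal.span {a} ⊔ Ideal.span {b} := by
    rw [h2] at hcard
    rcases t.eq_empty_or_nonempty with rfl | ⟨b, hb⟩
    · exact ⟨0, by rw [ht, Finset.coe_empty]; simp⟩
    · refine ⟨b, ?_⟩
      have : t = {b} := Finset.eq_singleton_iff_unique_mem.2
        ⟨hb, fun c hc => (Finset.card_le_one.1 (by omega : t.card ≤ 1)) c hc b hb⟩
      rw [ht, this, Finset.coe_singleton, Ideal.span_insert]
  obtain ⟨b, hb⟩ := hb
  have hbp : b ∉ Ideal.span {a} := by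
    intro hba
    have hmax : maximalIdeal R = Ideal.span {a} := by
      rw [hb]
      exact sup_eq_left.2 ((Ideal.span_singleton_le_iff_mem _).2 hba)
    haveI : (Ideal.span {a}).IsMaximal := hmax ▸ maximalIdeal.isMaximal R
    letI : Field (R ⧸ Ideal.span {a}) := Ideal.Quotient.field _
    rw [hd, ringKrullDim_eq_zero_of_field] at hqd
    exact absurd hqd (by decide)
  have hone : ∀ (n : ℕ) (h : R), a * h ∈ maximalIdeal R ^ (n + 1) → h ∈ maximalIdeal R ^ n := by
    intro n h hh
    have hle : maximalIdeal R ^ (n + 1) ≤ Ideal.span {a} * maximalIdeal R ^ n ⊔ Ideal.span {b} ^ (n + 1) := by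
      have key : ∀ m : ℕ, maximalIdeal R ^ m.succ ≤ Ideal.span {a} * maximalIdeal R ^ m ⊔ Ideal.span {b} ^ (m + 1) := by
        intro m
        induction m with
        | zero => rw [pow_one, pow_zero, mul_one, pow_one]; exact hb.le
        | succ m ih =>
          rw [pow_succ]
          refine (Ideal.mul_mono ih le_rfl).trans ?_
          rw [Ideal.sup_mul, mul_assoc, ← pow_succ]
          refine sup_le le_sup_left ?_
          rw [hb, Ideal.mul_sup]
          refine sup_le ?_ (le_sup_of_le_right (by rw [← pow_succ]))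
          refine le_sup_of_le_left ?_
          rw [mul_comm]
          refine Ideal.mul_mono le_rfl (Ideal.pow_right_mono ?_ _)
          exact le_sup_right
      exact key n
    obtain ⟨x, hx, y, hy, hxy⟩ := Submodule.mem_sup.1 (hle hh)
    obtain ⟨u, hu, rfl⟩ := Ideal.mem_span_singleton_mul.1 hx
    rw [Ideal.span_singleton_pow, Ideal.mem_span_singleton'] at hy
    obtain ⟨r, rfl⟩ := hy
    have hr : r ∈ Ideal.span {a} := by
      have hmem : r * b ^ (n + 1) ∈ Ideal.span {a} := Ideal.mem_span_singleton'.2 ⟨h - u, by linear_combination -hxy⟩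
      exact (hp.mem_or_mem hmem).resolve_right fun hb' => hbp (hp.mem_of_pow_mem _ hb')
    obtain ⟨r', rfl⟩ := Ideal.mem_span_singleton'.1 hr
    have : h = u + r' * b ^ (n + 1) := mul_left_cancel₀ ha0 (by linear_combination -hxy)
    rw [this]
    refine add_mem hu (Ideal.mul_mem_left _ _ ?_)
    rw [pow_succ]
    refine Ideal.mul_mem_right _ _ (Ideal.pow_mem_pow ?_ n)
    rw [hb]
    exact Ideal.mem_sup_right (Ideal.mem_span_singleton_self b)
  intro j
  induction j with
  | zero => intro n h hh; simpa using hh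
  | succ j ih =>
    intro n h hh
    refine ih n h (hone _ _ ?_)
    rw [show j + n + 1 = j + 1 + n by omega, ← mul_assoc, ← pow_succ']
    exact hh

/-- Inclusion of inverse images in a power of the exceptional ideal descends to the surface. -/
theorem le_pow_of_comap_le_pow {X X' : Scheme.{u}} (P : X) (hP : IsClosed ({P} : Set X))
    [IsRegularLocalRing (X.presheaf.stalk P)] (hd : ringKrullDim (X.presheaf.stalk P) = 2)
    {π : X' ⟶ X} (hπ : BlowUp.IsBlowUp π (Scheme.IdealSheafData.vanishingIdeal ⟨{P}, hP⟩))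
    (I : X.IdealSheafData) (n : ℕ)
    (h : I.comap π ≤ BlowUp.exceptional π (Scheme.IdealSheafData.vanishingIdeal ⟨{P}, hP⟩) ^ n) :
    I ≤ Scheme.IdealSheafData.vanishingIdeal ⟨{P}, hP⟩ ^ n := by
  classical
  let J := Scheme.IdealSheafData.vanishingIdeal (⟨{P}, hP⟩ : Closeds X)
  refine fun U => fun s hs => ?_
  rw [Scheme.IdealSheafData.ideal_pow]
  by_cases hPU : P ∈ U.1
  swap
  · have htop : J.ideal U = ⊤ := by
      rw [Scheme.IdealSheafData.vanishingIdeal_ideal]
      have : U.2.fromSpec ⁻¹' ({P} : Set X) = ∅ := by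
        ext t
        simp only [Set.mem_preimage, Set.mem_singleton_iff, Set.mem_empty_iff_false, iff_false]
        intro ht
        exact hPU (ht ▸ U.2.range_fromSpec.le ⟨t, rfl⟩)
      erw [this]
      exact PrimeSpectrum.vanishingIdeal_empty
    show s ∈ J.ideal U ^ n
    rw [htop, Ideal.top_pow]
    trivial
  let A := Γ(X, U.1)
  let p := U.2.primeIdealOf ⟨P, hPU⟩
  have hM : J.ideal U = p.asIdeal := by
    rw [Scheme.IdealSheafData.vanishingIdeal_ideal]
    have : U.2.fromSpec ⁻¹' ({P} : Set X) = {p} := by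
      ext t
      constructor
      · intro ht
        exact U.2.fromSpec.isOpenEmbedding.injective (ht.trans (U.2.fromSpec_primeIdealOf ⟨P, hPU⟩).symm)
      · rintro rfl
        exact U.2.fromSpec_primeIdealOf ⟨P, hPU⟩
    erw [this, PrimeSpectrum.vanishingIdeal_singleton]
  haveI : p.asIdeal.IsMaximal := by
    rw [← PrimeSpectrum.isClosed_singleton_iff_isMaximal]
    have : U.2.fromSpec ⁻¹' ({P} : Set X) = {p} := by
      ext t
      constructor
      · intro ht
        exact U.2.fromSpec.isOpenEmbedding.injective (ht.trans (U.2.fromSpec_primeIdealOf ⟨P, hPU⟩).symm)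
      · rintro rfl
        exact U.2.fromSpec_primeIdealOf ⟨P, hPU⟩
    exact this ▸ hP.preimage U.2.fromSpec.continuous
  let O := X.presheaf.stalk P
  letI : Algebra A O := TopCat.Presheaf.algebra_section_stalk X.presheaf (⟨P, hPU⟩ : U.1)
  haveI : IsLocalization.AtPrime O p.asIdeal := U.2.isLocalization_stalk ⟨P, hPU⟩
  have hmap : (J.ideal U).map (algebraMap A O) = maximalIdeal O := by
    rw [hM]
    exact IsLocalization.AtPrime.map_eq_maximalIdeal p.asIdeal O
  obtain ⟨a, ha, ha2⟩ : ∃ a ∈ J.ideal U, algebraMap A O a ∉ maximalIdeal O ^ 2 := by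
    by_contra hno
    push Not at hno
    have hle : maximalIdeal O ≤ maximalIdeal O ^ 2 := by
      conv_lhs => rw [← hmap]
      rw [Ideal.map_le_iff_le_comap]
      exact hno
    have hbot : maximalIdeal O = ⊥ := by
      refine Submodule.eq_bot_of_le_smul_of_le_jacobson_bot (maximalIdeal O) _ (IsNoetherian.noetherian _) ?_
        (maximalIdeal_le_jacobson _)
      rw [smul_eq_mul, ← pow_two]
      exact hle
    have hr := IsRegularLocalRing.spanFinrank_maximalIdeal (R := O)
    rw [hbot, hd, Submodule.spanFinrank_bot] at hr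
    exact absurd hr (by decide)
  haveI := RegLoc6.isDomain_of_isRegularLocalRing O
  let B := BlowUp.affineAlgebra A (J.ideal U) a
  let α : A →+* B := algebraMap A B
  let g : Spec (CommRingCat.of B) ⟶ X := Spec.map (CommRingCat.ofHom α) ≫ U.2.fromSpec
  have hcg : ∀ K : X.IdealSheafData, K.comap g = BlowUpLib.centre ((K.ideal U).map α) := fun K => by
    rw [Scheme.IdealSheafData.comap_comp]
    erw [BlowUpLib.comap_fromSpec K U]
    exact RegBlow6.comap_centre_specMap (A := A) α (K.ideal U)
  have hspan : (J.ideal U).map α = Ideal.span {α a} := RegBlow6.exc_eq_span (J.ideal U) ha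
  have heff : BlowUp.IsEffCartierIdeal (J.comap g) := by
    rw [hcg, hspan]
    set ε := (Scheme.ΓSpecIso (CommRingCat.of B)).inv.hom
    intro z
    have hαa : α a ∈ nonZeroDivisors B :=
      mem_nonZeroDivisors_iff_right.mpr fun q hq => Subtype.ext (mem_nonZeroDivisors_iff_right.mp
        (IsLocalization.Away.algebraMap_isUnit (S := Localization.Away a) a).mem_nonZeroDivisors q.1
        (congrArg Subtype.val hq))
    refine ⟨⟨⊤, isAffineOpen_top _⟩, trivial, ε (α a),
      ModPairLib.mem_nonZeroDivisors_map ε (ConcreteCategory.bijective_of_isIso _) hαa, ?_⟩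
    rw [BlowUpLib.centre_top, Ideal.map_span, Set.image_singleton]
  obtain ⟨l, hl, -⟩ := hπ.2 _ g heff
  have hle : I.comap g ≤ (J ^ n).comap g := by
    rw [← hl, Scheme.IdealSheafData.comap_comp, Scheme.IdealSheafData.comap_comp]
    refine Scheme.IdealSheafData.comap_mono l (h.trans ?_)
    have hpw : ∀ j : ℕ, (J ^ j).comap π = (J.comap π) ^ j := fun j => by
      induction j with
      | zero => rw [pow_zero, pow_zero, Scheme.IdealSheafData.one_eq_top, Scheme.IdealSheafData.one_eq_top, Scheme.IdealSheafData.comap_top]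
      | succ j ih => rw [pow_succ, pow_succ, ModPairLib.ideal_comap_mul, ih]
    exact (hpw n).ge
  rw [hcg, hcg, Scheme.IdealSheafData.ideal_pow] at hle
  have hmem : α s ∈ Ideal.span {α a} ^ n := by
    have h1 := hle ⟨⊤, isAffineOpen_top _⟩
    rw [BlowUpLib.centre_top, BlowUpLib.centre_top] at h1
    have h2 := h1 (Ideal.mem_map_of_mem _ (Ideal.mem_map_of_mem α hs))
    show α s ∈ _
    rw [← hspan, ← Ideal.map_pow]
    obtain ⟨y, hy, hy'⟩ := (Ideal.mem_map_iff_of_surjective _
      (ConcreteCategory.bijective_of_isIso (Scheme.ΓSpecIso (CommRingCat.of B)).inv).2).1 h2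
    exact (ConcreteCategory.bijective_of_isIso (Scheme.ΓSpecIso (CommRingCat.of B)).inv).1 hy' ▸ hy
  rw [Ideal.span_singleton_pow, Ideal.mem_span_singleton'] at hmem
  obtain ⟨q, hq⟩ := hmem
  obtain ⟨N, z, hz, hqz⟩ := BlowAlgX.exists_eq (J.ideal U) a ha q.2
  have h1 : algebraMap A (Localization.Away a) (a ^ N * s) = algebraMap A (Localization.Away a) (a ^ n * z) := by
    have h2 := congrArg Subtype.val hq
    change q.1 * (algebraMap A (Localization.Away a) a) ^ n = algebraMap A (Localization.Away a) s at h2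
    rw [map_mul, map_mul, ← h2, ← hqz, map_pow, map_pow]
    ring
  obtain ⟨⟨_, M, rfl⟩, hN⟩ := (IsLocalization.eq_iff_exists (Submonoid.powers a) (Localization.Away a)).1 h1
  have e : a ^ (M + N) * s = a ^ (M + n) * z := by
    have := hN
    simp only at this
    rw [pow_add, mul_assoc, this]
    ring
  have hO : algebraMap A O s ∈ maximalIdeal O ^ n := by
    refine mem_pow_of_param_mul hd (hmap ▸ Ideal.mem_map_of_mem _ ha) ha2 (M + N) n _ ?_
    rw [← map_pow, ← map_mul, e, map_mul, show M + N + n = (M + n) + N by omega, pow_add]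
    refine Ideal.mul_mem_mul ?_ ?_
    · rw [map_pow]
      exact Ideal.pow_mem_pow (hmap ▸ Ideal.mem_map_of_mem _ ha) _
    · rw [← hmap, ← Ideal.map_pow]
      exact Ideal.mem_map_of_mem _ hz
  rw [← hmap, ← Ideal.map_pow, IsLocalization.algebraMap_mem_map_algebraMap_iff p.asIdeal.primeCompl] at hO
  obtain ⟨c, hc, hcs⟩ := hO
  show s ∈ J.ideal U ^ n
  rw [hM] at hcs ⊢
  rcases Nat.eq_zero_or_pos n with rfl | hn
  · simp
  have hrad : (p.asIdeal ^ n).radical = p.asIdeal := by
    rw [Ideal.radical_pow _ hn.ne', Ideal.IsPrime.radical inferInstance]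
  have hprim : (p.asIdeal ^ n).IsPrimary :=
    Ideal.isPrimary_of_isMaximal_radical (by rw [hrad]; infer_instance)
  rw [mul_comm] at hcs
  refine ((Ideal.isPrimary_iff.1 hprim).2 hcs).resolve_right ?_
  rw [hrad]
  exact hc

end Groth.Agent.SurfRows

end
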