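import Groth.Agent.SurfRows.BlowCanon
import Groth.Agent.SurfRows.OrdPoint
import Groth.Agent.SurfRows.CurvesUnique
import Groth.Agent.AlgSpLib.CartierRegular
import Groth.Agent.ModPairLib.Quot
import Groth.Agent.Lib.SmoothEquidim
import Groth.Agent.S8862
import Groth.Agent.ParShLib.ResStalk

/-!
The strict transform of a curve under the blowing up of a point of a surface, and its genus.
-/

set_option autoImplicit false
set_option linter.style.haveILetI false
set_option linter.unusedSectionVars false
set_option backward.isDefEq.respectTransparency false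
set_option backward.isDefEq.respectTransparency.types false
set_option maxHeartbeats 800000

universe u

open CategoryTheory CategoryTheory.Limits AlgebraicGeometry TopologicalSpace Opposite
open Groth.Agent.H23

noncomputable section

namespace Groth.Agent.SurfRows

open Groth.Agent

attribute [local instance] PicMul.clMonoid

variable (k : Type u) [Field k] [IsAlgClosed k] {X : Scheme.{u}} [X.Over (Spec (CommRingCat.of k))]
  [IsProper (X ↘ Spec (CommRingCat.of k))] [Smooth (X ↘ Spec (CommRingCat.of k))] [IsIntegral X]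
  (P : X) (hP : IsClosed ({P} : Set X)) {X' : Scheme.{u}} [X'.Over (Spec (CommRingCat.of k))]
  [IsProper (X' ↘ Spec (CommRingCat.of k))] [Smooth (X' ↘ Spec (CommRingCat.of k))] [IsIntegral X']
  (π : X' ⟶ X) (hover : X' ↘ Spec (CommRingCat.of k) = π ≫ (X ↘ Spec (CommRingCat.of k)))
  (hπ : BlowUp.IsBlowUp π (Scheme.IdealSheafData.vanishingIdeal ⟨{P}, hP⟩))

include hover hπ in
/-- The total transform of a curve is the strict transform plus the multiplicity times the exceptional curve. -/
theorem blowPt_total (hdim : topologicalKrullDim X = 2) (hdim' : topologicalKrullDim X' = 2)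
    (C : X.IdealSheafData) [IsIntegral C.subscheme] (hCd : topologicalKrullDim (C.support : Set X) = 1)
    (C' : X'.IdealSheafData) [IsIntegral C'.subscheme] (hC'd : topologicalKrullDim (C'.support : Set X') = 1)
    (hgen : π (C'.subschemeι (genericPoint C'.subscheme)) = C.subschemeι (genericPoint C.subscheme))
    (m : ℕ) (hm : C ≤ Scheme.IdealSheafData.vanishingIdeal ⟨{P}, hP⟩ ^ m)
    (hm' : ¬ C ≤ Scheme.IdealSheafData.vanishingIdeal ⟨{P}, hP⟩ ^ (m + 1)) :
    C.comap π = C' * BlowUp.exceptional π (Scheme.IdealSheafData.vanishingIdeal ⟨{P}, hP⟩) ^ m := by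
  classical
  let J := Scheme.IdealSheafData.vanishingIdeal (⟨{P}, hP⟩ : Closeds X)
  let I := BlowUp.exceptional π J
  letI : I.subscheme.Over (Spec (CommRingCat.of k)) := ⟨I.subschemeι ≫ (X' ↘ (Spec (CommRingCat.of k)))⟩
  obtain ⟨hint, hId, -⟩ := blowPt_curve k P hP π hover hπ hdim
  haveI := hint
  haveI := CurveCohLib.isNoetherian_of_proper (k := k) (X := X)
  haveI := CurveCohLib.isNoetherian_of_proper (k := k) (X := X')
  haveI := GrpSchLib.isRegularLocalRing_stalk_of_smooth (X ↘ Spec (CommRingCat.of k)) P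
  haveI := CurveFin.smoothOfRelativeDimension_of_dim (f := X ↘ Spec (CommRingCat.of k)) (d := 2) hdim
  have hd : ringKrullDim (X.presheaf.stalk P) = 2 := SmoothEquidim.dim_stalk (X ↘ Spec (CommRingCat.of k)) 2 P hP
  let U : X.Opens := ⟨({P} : Set X)ᶜ, hP.isOpen_compl⟩
  haveI : IsIso (π ∣_ U) := isIso_blowPt P hP π hπ
  let V : X'.Opens := π ⁻¹ᵁ U
  have hV : (V : Set X') = (I.support : Set X')ᶜ := by
    show π ⁻¹' ({P} : Set X)ᶜ = _
    rw [Scheme.IdealSheafData.support_comap, Closeds.coe_preimage, Scheme.IdealSheafData.coe_support_vanishingIdeal]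
    simp
  let η := C.subschemeι (genericPoint C.subscheme)
  let η' := C'.subschemeι (genericPoint C'.subscheme)
  have hsupp : ∀ {Y : Scheme.{u}} (K : Y.IdealSheafData) [IrreducibleSpace K.subscheme] (z : Y),
      z ∈ K.support ↔ K.subschemeι (genericPoint K.subscheme) ⤳ z := by
    intro Y K _ z
    constructor
    · intro hz
      obtain ⟨c, rfl⟩ : z ∈ Set.range K.subschemeι := by rw [Scheme.IdealSheafData.range_subschemeι]; exact hz
      exact (genericPoint_specializes c).map K.subschemeι.continuous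
    · intro hz
      exact hz.mem_closed K.support.isClosed (K.range_subschemeι.le ⟨_, rfl⟩)
  -- the generic point of the curve avoids the centre
  have hηU : η ∈ U := by
    intro h
    have hηP : η = P := h
    have hss : (C.support : Set X) ⊆ {P} := fun z hz =>
      ((hsupp C z).1 hz).mem_closed hP (show η ∈ ({P} : Set X) from hηP)
    haveI : Subsingleton (C.support : Set X) :=
      (Set.subsingleton_coe _).2 (Set.subsingleton_singleton.anti hss)
    have h1 : topologicalKrullDim (C.support : Set X) ≤ 0 := topologicalKrullDim_zero_of_discreteTopology _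
    rw [hCd] at h1
    exact absurd h1 (by decide)
  have hη'V : η' ∈ V := by
    show π η' ∈ U
    rw [hgen]
    exact hηU
  have hCc : BlowUp.IsEffCartierIdeal C := (S8914.result C).1 (SurfNef.invertible_ideal k hdim inferInstance hCd)
  have hD : BlowUp.IsEffCartierIdeal (C.comap π) := by
    refine Groth.Agent.S8862.result π C hCc fun ξ hξ => ?_
    rw [← hξ _ (genericPoint_specializes ξ)]
    have hgen2 : π (genericPoint X') = genericPoint X := by
      obtain ⟨w, hw⟩ := (π ∣_ U).surjective (⟨_, (genericPoint_specializes η).mem_open U.2 hηU⟩ : U)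
      have h := congrArg Subtype.val hw
      rw [morphismRestrict_base] at h
      have h' : π w.1 = genericPoint X := h
      exact ((h' ▸ (genericPoint_specializes w.1).map π.continuous :
        π (genericPoint X') ⤳ genericPoint X).antisymm (genericPoint_specializes _)).eq
    rw [hgen2]
    exact ParShLib.genericPoint_notMem_support C hCc
  obtain ⟨s, hs, hDs⟩ := exists_curves k hdim' hD
  let s' := s.filter fun Q => Q ≠ I
  set r := (s.filter fun Q => ¬ Q ≠ I).card with hr
  have hsI : (s.filter fun Q => ¬ Q ≠ I).prod = I ^ r := by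
    rw [hr, ← Multiset.prod_replicate]
    congr 1
    exact Multiset.eq_replicate.2 ⟨rfl, fun Q hQ => not_not.1 (Multiset.mem_filter.1 hQ).2⟩
  have hsplit : C.comap π = s'.prod * I ^ r := by
    rw [hDs, ← hsI, ← Multiset.prod_add, Multiset.filter_add_not]
  have hIV : ∀ j : ℕ, (I ^ j).comap V.ι = ⊤ := fun j => comap_iota_eq_top fun z hz hzI => by
    rcases Nat.eq_zero_or_pos j with rfl | hj
    · rw [pow_zero, Scheme.IdealSheafData.one_eq_top, Scheme.IdealSheafData.support_top] at hzI
      exact hzI
    · obtain ⟨l, rfl⟩ := Nat.exists_eq_add_of_le' hj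
      have : z ∈ (I ^ (l + 1)).support := hzI
      rw [← Multiset.prod_replicate] at this
      obtain ⟨Q, hQ, hzQ⟩ := exists_mem_support _ this
      rw [Multiset.eq_of_mem_replicate hQ] at hzQ
      exact (show z ∈ (I.support : Set X')ᶜ from hV ▸ hz) hzQ
  have hDV : (C.comap π).comap V.ι = C'.comap V.ι := by
    haveI : IsReduced ((C.comap π).comap V.ι).subscheme := by
      rw [← Scheme.IdealSheafData.comap_comp]
      haveI : IsOpenImmersion (V.ι ≫ π) := by rw [← morphismRestrict_ι]; infer_instance
      haveI : IsOpenImmersion (pullback.snd (V.ι ≫ π) C.subschemeι) := inferInstance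
      exact isReduced_of_isOpenImmersion ((C.comapIso (V.ι ≫ π)).hom ≫ pullback.snd (V.ι ≫ π) C.subschemeι)
    haveI : IsReduced (C'.comap V.ι).subscheme :=
      isReduced_of_isOpenImmersion ((C'.comapIso V.ι).hom ≫ pullback.snd V.ι C'.subschemeι)
    rw [AlgSpLib.CartierRegular.eq_vanishingIdeal_support ((C.comap π).comap V.ι),
      AlgSpLib.CartierRegular.eq_vanishingIdeal_support (C'.comap V.ι)]
    congr 1
    ext ⟨z, hz⟩
    simp only [Scheme.IdealSheafData.support_comap, Closeds.coe_preimage, Set.mem_preimage, SetLike.mem_coe]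
    show π z ∈ C.support ↔ z ∈ C'.support
    rw [hsupp C, hsupp C']
    refine ⟨fun hsp => ?_, fun hsp => hgen ▸ hsp.map π.continuous⟩
    have hzU : π z ∈ U := hz
    have e1 : (π ∣_ U) ⟨η', hη'V⟩ = ⟨η, hηU⟩ := by
      apply Subtype.ext
      rw [morphismRestrict_base]
      exact hgen
    have e2 : (π ∣_ U) ⟨z, hz⟩ = ⟨π z, hzU⟩ := by
      apply Subtype.ext
      rw [morphismRestrict_base]
      rfl
    have h2 : (π ∣_ U) ⟨η', hη'V⟩ ⤳ (π ∣_ U) ⟨z, hz⟩ := by
      rw [e1, e2]
      exact (subtype_specializes_iff _ _).2 hsp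
    exact (subtype_specializes_iff _ _).1 ((π ∣_ U).isOpenEmbedding.isInducing.specializes_iff.1 h2)
  have hs' : s' = {C'} := by
    refine curves_unique k hdim' V s' {C'} (fun Q hQ => ?_) (fun Q hQ => ?_) ?_
    · rw [Multiset.mem_filter] at hQ
      refine ⟨(hs Q hQ.1).1, (hs Q hQ.1).2, ?_⟩
      by_contra hne
      haveI := (hs Q hQ.1).1
      refine hQ.2 (SurfNegDef.eq_of_support_subset (k := k) (hs Q hQ.1).2 hId fun z hz => ?_)
      by_contra hzI
      exact hne ⟨z, hz, show z ∈ (V : Set X') by rw [hV]; exact hzI⟩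
    · rw [Multiset.mem_singleton] at hQ
      rw [hQ]
      exact ⟨inferInstance, hC'd, η', C'.range_subschemeι.le ⟨_, rfl⟩, hη'V⟩
    · rw [Multiset.prod_singleton, ← hDV, hsplit, ModPairLib.ideal_comap_mul, hIV r, ← Scheme.IdealSheafData.one_eq_top,
        mul_one]
  rw [hs', Multiset.prod_singleton] at hsplit
  have hpw : ∀ j : ℕ, (J ^ j).comap π = I ^ j := fun j => by
    induction j with
    | zero => rw [pow_zero, pow_zero, Scheme.IdealSheafData.one_eq_top, Scheme.IdealSheafData.one_eq_top,
        Scheme.IdealSheafData.comap_top]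
    | succ j ih => rw [pow_succ, pow_succ, ModPairLib.ideal_comap_mul, ih]
  have hrm : r ≤ m := by
    by_contra hlt
    refine hm' (le_pow_of_comap_le_pow P hP hd hπ C (m + 1) ?_)
    rw [hsplit]
    obtain ⟨l, hl⟩ := Nat.exists_eq_add_of_le (show m + 1 ≤ r by omega)
    rw [hl, pow_add, mul_left_comm]
    exact fun W => Ideal.mul_le_left
  have hmr : m ≤ r := by
    by_contra hlt
    obtain ⟨l, rfl⟩ := Nat.exists_eq_add_of_lt (show r < m by omega)
    have hle : C' * I ^ r ≤ I ^ (l + 1) * I ^ r := by
      rw [← hsplit, ← pow_add, show l + 1 + r = r + l + 1 by omega, ← hpw]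
      exact Scheme.IdealSheafData.comap_mono π hm
    have hIr : BlowUp.IsEffCartierIdeal (I ^ r) := by
      clear hle hrm hsplit hsI hr hlt hm hm'
      induction r with
      | zero => rw [pow_zero, Scheme.IdealSheafData.one_eq_top]; exact H26.IdealCl.isEffCartier_top
      | succ j ih => rw [pow_succ']; exact H26.IdealCl.isEffCartier_mul ih hπ.1
    have h1 : C' ≤ I := (ModPairLib.le_of_mul_le_mul hIr hle).trans (by rw [pow_succ]; exact fun W => Ideal.mul_le_right)
    have h2 : I = C' := SurfNegDef.eq_of_support_subset (k := k) hId hC'd (Scheme.IdealSheafData.support_antitone h1)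
    have h3 : η' ∈ (I.support : Set X') := h2 ▸ C'.range_subschemeι.le ⟨_, rfl⟩
    exact (show η' ∈ (I.support : Set X')ᶜ from hV ▸ hη'V) h3
  rw [hsplit, le_antisymm hrm hmr]

include hover hπ in
/-- Adjunction on the strict transform. -/
theorem blowPt_strict_adj (hdim : topologicalKrullDim X = 2) (hdim' : topologicalKrullDim X' = 2)
    {W : X.Modules} (hW : ExtPow.IsExtPow 2 (Omega.sheaf (X ↘ (Spec (CommRingCat.of k)))) W)
    {W' : X'.Modules} (hW' : ExtPow.IsExtPow 2 (Omega.sheaf (X' ↘ (Spec (CommRingCat.of k)))) W')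
    (C : X.IdealSheafData) (hCi : PicF.IsInvertible (ClSub.idealMod C))
    (C' : X'.IdealSheafData) (hC'i' : PicF.IsInvertible (ClSub.idealMod C'))
    (m : ℕ) (hm : C.comap π = C' * BlowUp.exceptional π (Scheme.IdealSheafData.vanishingIdeal ⟨{P}, hP⟩) ^ m) :
    SurfPairing.pair k (PicF.cl (ClSub.idealMod C')) (PicF.cl (ClSub.idealMod C')) -
        SurfPairing.pair k (PicF.cl (ClSub.idealMod C')) (PicF.cl W') =
      SurfPairing.pair k (PicF.cl (ClSub.idealMod C)) (PicF.cl (ClSub.idealMod C)) -
        SurfPairing.pair k (PicF.cl (ClSub.idealMod C)) (PicF.cl W) - (m : ℤ) * ((m : ℤ) - 1) := by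
  let I := BlowUp.exceptional π (Scheme.IdealSheafData.vanishingIdeal ⟨{P}, hP⟩)
  obtain ⟨hIi, h0, h1⟩ := SurfRows.blowPt_exc k P hP π hover hπ hdim hdim'
  obtain ⟨H, hH⟩ := SurfAdj.exists_ample k hdim
  have hWi := SurfAdj.isInvertible_W k hdim hW
  have hW'i := SurfAdj.isInvertible_W k hdim' hW'
  have hπW := PicClLib.isInvertible_pullback π hWi
  have hCc : BlowUp.IsEffCartierIdeal C := (S8914.result C).1 hCi
  have hC'c : BlowUp.IsEffCartierIdeal C' := (S8914.result C').1 hC'i'
  have hIc : BlowUp.IsEffCartierIdeal I := hπ.1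
  have hpow : ∀ j : ℕ, BlowUp.IsEffCartierIdeal (I ^ j) ∧
      PicF.cl (ClSub.idealMod (I ^ j)) = PicF.cl (ClSub.idealMod I) ^ j := by
    intro j
    induction j with
    | zero => exact ⟨by rw [pow_zero, Scheme.IdealSheafData.one_eq_top]; exact H26.IdealCl.isEffCartier_top, by
        rw [pow_zero, pow_zero]; exact H26.IdealCl.cl_one⟩
    | succ j ih => exact ⟨by rw [pow_succ']; exact H26.IdealCl.isEffCartier_mul ih.1 hIc, by
        rw [pow_succ', pow_succ', H26.IdealCl.cl_mul _ I hIc, ih.2]⟩
  have hCπc : BlowUp.IsEffCartierIdeal (C.comap π) := hm ▸ H26.IdealCl.isEffCartier_mul (hpow m).1 hC'c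
  obtain ⟨e⟩ := H26.InterDiv.nonempty_pullback_idealMod π C hCc hCπc
  have hπC := PicClLib.isInvertible_pullback π hCi
  have hc : PicF.cl ((Scheme.Modules.pullback π).obj (ClSub.idealMod C)) =
      PicF.cl (ClSub.idealMod C') * PicF.cl (ClSub.idealMod I) ^ m :=
    (PicMul.cl_eq_iff.2 ⟨e⟩).trans (by rw [hm, H26.IdealCl.cl_mul _ _ hC'c, (hpow m).2])
  have hK := SurfRows.blowPt_canonical k P hP π hover hπ hdim hdim' hW hW'
  have hlin : ∀ {A : X'.Modules}, PicF.IsInvertible A →
      SurfPairing.pair k (PicF.cl A) (PicF.cl ((Scheme.Modules.pullback π).obj (ClSub.idealMod C))) =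
        SurfPairing.pair k (PicF.cl A) (PicF.cl (ClSub.idealMod C')) +
          m * SurfPairing.pair k (PicF.cl A) (PicF.cl (ClSub.idealMod I)) := by
    intro A hA
    rw [hc]
    have : ∀ j : ℕ, ∀ {B : X'.Modules}, PicF.IsInvertible B →
        SurfPairing.pair k (PicF.cl A) (PicF.cl B * PicF.cl (ClSub.idealMod I) ^ j) =
          SurfPairing.pair k (PicF.cl A) (PicF.cl B) + j * SurfPairing.pair k (PicF.cl A) (PicF.cl (ClSub.idealMod I)) := by
      intro j
      induction j with
      | zero => intro B hB; simp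
      | succ j ih =>
        intro B hB
        have := ih (PicMul.isInvertible_tensor hB hIi)
        rw [PicMul.cl_tensor, SurfPairing.pair_mul k hdim'.le hA hB hIi] at this
        rw [pow_succ', ← mul_assoc, this]
        push_cast
        ring
    exact this m hC'i'
  have hI2 : SurfPairing.pair k (PicF.cl (ClSub.idealMod I)) (PicF.cl (ClSub.idealMod I)) = -1 := h1
  have a1 := hlin hIi
  rw [show SurfPairing.pair k (PicF.cl (ClSub.idealMod I))
    (PicF.cl ((Scheme.Modules.pullback π).obj (ClSub.idealMod C))) = 0 from h0 _ hCi, hI2] at a1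
  have hCI : SurfPairing.pair k (PicF.cl (ClSub.idealMod C')) (PicF.cl (ClSub.idealMod I)) = m := by
    rw [SurfPairing.pair_comm]; linarith
  have a2 := hlin hC'i'
  have a3 := hlin hπC
  have a4 := hlin hπW
  rw [SurfRows.blowPt_pair k P hP π hover hπ hdim hdim' hH hCi hCi,
    SurfPairing.pair_comm k _ (PicF.cl (ClSub.idealMod C')), a2, hCI,
    SurfPairing.pair_comm k _ (PicF.cl (ClSub.idealMod I)),
    show SurfPairing.pair k (PicF.cl (ClSub.idealMod I))
      (PicF.cl ((Scheme.Modules.pullback π).obj (ClSub.idealMod C))) = 0 from h0 _ hCi, mul_zero, add_zero] at a3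
  rw [SurfRows.blowPt_pair k P hP π hover hπ hdim hdim' hH hWi hCi,
    SurfPairing.pair_comm k _ (PicF.cl (ClSub.idealMod I)),
    show SurfPairing.pair k (PicF.cl (ClSub.idealMod I))
      (PicF.cl ((Scheme.Modules.pullback π).obj W)) = 0 from h0 _ hWi, mul_zero, add_zero,
    SurfPairing.pair_comm k _ (PicF.cl (ClSub.idealMod C'))] at a4
  have a5 := SurfPairing.pair_mul k hdim'.le hC'i' hW'i hIi
  rw [hK, hCI, ← a4, SurfPairing.pair_comm k (PicF.cl W) (PicF.cl (ClSub.idealMod C))] at a5
  rw [a3]
  linear_combination a5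

end Groth.Agent.SurfRows

end
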