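import Groth.Agent.SurfRows.BlowPt
import Groth.Agent.S15540
import Groth.Agent.AmpleX.ExtendQS
import Groth.Agent.Synt29.DRVanish
import Groth.Agent.H28.ExtSh
import Groth.Agent.S0234
import Groth.Agent.RegUFD.Basic

/-!
Invertible modules trivial off a prime divisor; the canonical class of the blowing up of a point.
-/

set_option autoImplicit false
set_option linter.style.haveILetI false
set_option linter.unusedSectionVars false
set_option backward.isDefEq.respectTransparency false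
set_option backward.isDefEq.respectTransparency.types false
set_option maxHeartbeats 800000

universe u

open CategoryTheory CategoryTheory.Limits AlgebraicGeometry TopologicalSpace Opposite
open Groth.Agent.H23 Groth.Agent.H23.TrivBasic

noncomputable section

namespace Groth.Agent.SurfRows

open Groth.Agent

attribute [local instance] PicMul.clMonoid

/-- A module trivial on an open has a frame there. -/
theorem exists_frame_of_triv {X : Scheme.{u}} {M : X.Modules} {U : X.Opens}
    (h : Triv ((Scheme.Modules.pullback U.ι).obj M)) : ∃ t : Γ(M, U), InvX.IsFrame t := by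
  obtain ⟨φ⟩ := h
  obtain ⟨s, hs⟩ := H23.Frame.exists_frame (n := 1)
    ((Scheme.Modules.restrictFunctorIsoPullback U.ι).app M ≪≫ φ ≪≫
      (coproductUniqueIso fun _ : Fin 1 => Coh.structureModule (U : Scheme.{u})).symm)
  refine ⟨s 0, fun W hW => ?_⟩
  have h1 := (hs W hW).comp (Equiv.funUnique (Fin 1) Γ(X, W)).symm.bijective
  refine (congrArg Function.Bijective (funext fun r => ?_)).mp h1
  show H23.Frame.comb M s W hW ((Equiv.funUnique (Fin 1) Γ(X, W)).symm r) = _
  rw [H23.Frame.comb, Fin.sum_univ_one]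
  rfl

variable (k : Type u) [Field k] {X : Scheme.{u}} [X.Over (Spec (CommRingCat.of k))]
  [IsProper (X ↘ Spec (CommRingCat.of k))] [Smooth (X ↘ Spec (CommRingCat.of k))] [IsIntegral X]

include k in
/-- An invertible module trivial off a prime divisor is a difference of multiples of the divisor. -/
theorem exists_pow_of_triv_off (hdim : topologicalKrullDim X = 2) {I : X.IdealSheafData}
    (hI : IsIntegral I.subscheme) (hId : topologicalKrullDim (I.support : Set X) = 1)
    (hIc : BlowUp.IsEffCartierIdeal I) {A : X.Modules} (hA : PicF.IsInvertible A)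
    (V : X.Opens) (hV : (V : Set X) = (I.support : Set X)ᶜ)
    (hT : Triv ((Scheme.Modules.pullback V.ι).obj A)) :
    ∃ a b : ℕ, PicF.cl A * PicF.cl (ClSub.idealMod I) ^ a = PicF.cl (ClSub.idealMod I) ^ b := by
  classical
  haveI := CurveCohLib.isNoetherian_of_proper (k := k) (X := X)
  haveI := hI
  have hIi := (S8914.result I).2 hIc
  obtain ⟨L, hL, hLI⟩ := PicInv.exists_inverse hIi
  have hLI' : ClSub.IsInverseOf L (ClSub.idealMod I) := by
    obtain ⟨e⟩ := hLI
    obtain ⟨c⟩ := PicMul.comm L (ClSub.idealMod I)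
    first
      | exact ⟨e⟩
      | exact ⟨c ≪≫ e⟩
  obtain ⟨s, -, hs⟩ := AVAmple.exists_divisor_section_ne_zero I hIc hL hLI'
  let G := CohB1.genLocus L (InvX.ofSect s)
  have hG : G = V := by
    ext x
    rw [show x ∈ (V : Set X) ↔ x ∉ I.support from by rw [hV]; rfl]
    refine Iff.trans ?_ (hs x)
    refine ⟨fun hx => ?_, fun hx => ?_⟩
    · obtain ⟨U, hxU, hU⟩ := InvX.mem_genLocus hx
      rw [InvX.one_ofSect] at hU
      exact mem_locus_iff.2 ⟨U, hxU, hU⟩
    · obtain ⟨U, hxU, hU⟩ := mem_locus_iff.1 hx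
      exact InvX.le_genLocus _ (by rwa [InvX.one_ofSect]) hxU
  obtain ⟨t, ht⟩ : ∃ t : Γ(A, G), InvX.IsFrame t := by
    rw [hG]
    exact exists_frame_of_triv hT
  obtain ⟨n, hn⟩ := AmpleX.exists_extend' (AmpleVan.isCoh_invertible hA).1 hL (InvX.ofSect s) t
  obtain ⟨T, hTG⟩ := hn n le_rfl
  let B := CohB1.tensorMod A (CohB1.tensorPow L n)
  have hBi : PicF.IsInvertible B := PicMul.isInvertible_tensor hA (InvX.isInvertible_tensorPow hL n)
  have hpow : InvX.IsFrame (AmpleX.powElt (AModX.res L (le_top : G ≤ ⊤) (InvX.one (InvX.ofSect s))) n) := by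
    refine AmpleX.isFrame_powElt ?_ n
    rw [InvX.one_ofSect]
    refine isFrame_res_of_le_locus (fun x hx => ?_)
    obtain ⟨U, hxU, hU⟩ := InvX.mem_genLocus hx
    rw [InvX.one_ofSect] at hU
    exact mem_locus_iff.2 ⟨U, hxU, hU⟩
  have hTf : InvX.IsFrame (AModX.res B (le_top : G ≤ ⊤) T) := by
    rw [hTG]
    exact InvX.isFrame_tmul ht hpow
  have hGT : G ≤ locus T := le_locus hTf
  have hne : (V : Set X).Nonempty := ⟨genericPoint X, hV.symm ▸ ParShLib.genericPoint_notMem_support I hIc⟩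
  have hT0 : T ≠ 0 := by
    intro h0
    obtain ⟨x, hx⟩ := hne
    haveI : Nonempty (G : Scheme.{u}) := ⟨⟨x, by rw [hG]; exact hx⟩⟩
    rw [h0, map_zero] at hTf
    have h01 := hTf.coord_unique le_rfl (r := (0 : Γ(X, G))) (r' := 1) (by simp)
    haveI : Nonempty G := ⟨⟨x, by rw [hG]; exact hx⟩⟩
    exact zero_ne_one h01
  obtain ⟨B', hB', hBB'⟩ := PicInv.exists_inverse hBi
  obtain ⟨D, hDc, hDs, hDinv⟩ := AffCompl.exists_ideal_of_section hBi hB' (by
    obtain ⟨e⟩ := hBB'
    obtain ⟨c⟩ := PicMul.comm B B'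
    first
      | exact ⟨e⟩
      | exact ⟨c ≪≫ e⟩) hT0
  have hDI : (D.support : Set X) ⊆ I.support := by
    rw [hDs]
    intro x hx
    by_contra hxI
    exact hx (hGT (by rw [hG]; show x ∈ (V : Set X); rw [hV]; exact hxI))
  obtain ⟨ss, hss, hD⟩ := exists_curves k hdim hDc
  have hall : ∀ C ∈ ss, C = I := fun C hC => by
    haveI := (hss C hC).1
    refine SurfNegDef.eq_of_support_subset (k := k) (hss C hC).2 hId ?_
    exact (Scheme.IdealSheafData.support_antitone (hD.le.trans (eq_top_or_le ss hC))).trans hDI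
  have hD' : D = I ^ Multiset.card ss := by
    rw [hD, Multiset.eq_replicate.2 ⟨rfl, hall⟩, Multiset.prod_replicate, Multiset.card_replicate]
  refine ⟨Multiset.card ss, n, ?_⟩
  have hcD : PicF.cl (ClSub.idealMod D) = PicF.cl (ClSub.idealMod I) ^ Multiset.card ss := by
    rw [hD']
    induction Multiset.card ss with
    | zero => rw [pow_zero, pow_zero]; exact H26.IdealCl.cl_one
    | succ j ih => rw [pow_succ', pow_succ', H26.IdealCl.cl_mul _ I hIc, ih]
  have hBD : PicF.cl B * PicF.cl (ClSub.idealMod D) = 1 := by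
    obtain ⟨e⟩ := hDinv
    rw [← PicMul.cl_tensor, PicMul.one_def]
    obtain ⟨c⟩ := PicMul.comm B (ClSub.idealMod D)
    first
      | exact PicMul.cl_eq_iff.2 ⟨e⟩
      | exact PicMul.cl_eq_iff.2 ⟨c ≪≫ e⟩
  have hLc : PicF.cl L * PicF.cl (ClSub.idealMod I) = 1 := by
    obtain ⟨e⟩ := hLI'
    rw [← PicMul.cl_tensor, PicMul.one_def]
    obtain ⟨c⟩ := PicMul.comm L (ClSub.idealMod I)
    first
      | exact PicMul.cl_eq_iff.2 ⟨e⟩
      | exact PicMul.cl_eq_iff.2 ⟨c ≪≫ e⟩
  rw [PicMul.cl_tensor, PicMul.cl_tensorPow, hcD] at hBD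
  calc PicF.cl A * PicF.cl (ClSub.idealMod I) ^ Multiset.card ss
      = PicF.cl A * PicF.cl (ClSub.idealMod I) ^ Multiset.card ss * (PicF.cl L * PicF.cl (ClSub.idealMod I)) ^ n := by
        rw [hLc, one_pow, mul_one]
    _ = PicF.cl A * PicF.cl L ^ n * PicF.cl (ClSub.idealMod I) ^ Multiset.card ss * PicF.cl (ClSub.idealMod I) ^ n := by
        rw [mul_pow]; simp only [mul_assoc, mul_left_comm, mul_comm]
    _ = PicF.cl (ClSub.idealMod I) ^ n := by rw [hBD, one_mul]

variable [IsAlgClosed k] (P : X) (hP : IsClosed ({P} : Set X)) {X' : Scheme.{u}} [X'.Over (Spec (CommRingCat.of k))]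
  [IsProper (X' ↘ Spec (CommRingCat.of k))] [Smooth (X' ↘ Spec (CommRingCat.of k))] [IsIntegral X']
  (π : X' ⟶ X) (hover : X' ↘ Spec (CommRingCat.of k) = π ≫ (X ↘ Spec (CommRingCat.of k)))
  (hπ : BlowUp.IsBlowUp π (Scheme.IdealSheafData.vanishingIdeal ⟨{P}, hP⟩))

include hover hπ in
/-- The canonical class of the blowing up of a point. -/
theorem blowPt_canonical (hdim : topologicalKrullDim X = 2) (hdim' : topologicalKrullDim X' = 2)
    {W : X.Modules} (hW : ExtPow.IsExtPow 2 (Omega.sheaf (X ↘ (Spec (CommRingCat.of k)))) W)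
    {W' : X'.Modules} (hW' : ExtPow.IsExtPow 2 (Omega.sheaf (X' ↘ (Spec (CommRingCat.of k)))) W') :
    PicF.cl W' * PicF.cl (ClSub.idealMod (BlowUp.exceptional π (Scheme.IdealSheafData.vanishingIdeal ⟨{P}, hP⟩))) =
      PicF.cl ((Scheme.Modules.pullback π).obj W) := by
  let I := BlowUp.exceptional π (Scheme.IdealSheafData.vanishingIdeal ⟨{P}, hP⟩)
  letI : I.subscheme.Over (Spec (CommRingCat.of k)) := ⟨I.subschemeι ≫ (X' ↘ (Spec (CommRingCat.of k)))⟩
  obtain ⟨hIi, h0, h1⟩ := blowPt_exc k P hP π hover hπ hdim hdim'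
  obtain ⟨hint, hId, hχ⟩ := blowPt_curve k P hP π hover hπ hdim
  haveI := hint
  haveI := CurveCohLib.isNoetherian_of_proper (k := k) (X := X)
  have hWi := SurfAdj.isInvertible_W k hdim hW
  have hW'i := SurfAdj.isInvertible_W k hdim' hW'
  have hπW := PicClLib.isInvertible_pullback π hWi
  have hadj := (SurfAdj.adjunction k hdim' hW' hId).2
  rw [hχ, show SurfPairing.pair k (PicF.cl (ClSub.idealMod I)) (PicF.cl (ClSub.idealMod I)) = -1 from h1] at hadj
  let U : X.Opens := ⟨({P} : Set X)ᶜ, hP.isOpen_compl⟩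
  haveI : IsIso (π ∣_ U) := isIso_blowPt P hP π hπ
  let V : X'.Opens := π ⁻¹ᵁ U
  have hV : (V : Set X') = (I.support : Set X')ᶜ := by
    show π ⁻¹' ({P} : Set X)ᶜ = _
    rw [Scheme.IdealSheafData.support_comap, Closeds.coe_preimage, Scheme.IdealSheafData.coe_support_vanishingIdeal]
    simp
  haveI : IsOpenImmersion (V.ι ≫ π) := by
    rw [← morphismRestrict_ι]
    infer_instance
  haveI : Etale (V.ι ≫ π) := inferInstance
  haveI : Etale V.ι := inferInstance
  let f' := V.ι ≫ (X' ↘ Spec (CommRingCat.of k))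
  have hA : ExtPow.IsExtPow 2 (Omega.sheaf f') ((Scheme.Modules.pullback V.ι).obj W') :=
    Groth.Agent.S15540.result X' (Spec (CommRingCat.of k)) V (Spec (CommRingCat.of k)) _ f' V.ι (𝟙 _)
      (Category.comp_id _).symm 2 W' hW'
  have hB : ExtPow.IsExtPow 2 (Omega.sheaf f') ((Scheme.Modules.pullback (V.ι ≫ π)).obj W) :=
    Groth.Agent.S15540.result X (Spec (CommRingCat.of k)) V (Spec (CommRingCat.of k)) _ f' (V.ι ≫ π) (𝟙 _)
      (by rw [Category.comp_id, Category.assoc, ← hover]) 2 W hW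
  obtain ⟨e⟩ := H28.ExtSh.nonempty_iso (Synt29.DRVanish.isFinLocFree_omega f') hA hB
  obtain ⟨Wi, hWii, ⟨ei⟩⟩ := PicInv.exists_inverse hπW
  have hc : PicF.cl ((Scheme.Modules.pullback π).obj W) * PicF.cl Wi = 1 := by
    rw [← PicMul.cl_tensor, PicMul.one_def]
    exact PicMul.cl_eq_iff.2 ⟨ei⟩
  obtain ⟨a, b, hab⟩ := exists_pow_of_triv_off k hdim' hint hId hπ.1 (PicMul.isInvertible_tensor hW'i hWii) V hV (by
    refine PicMul.cl_eq_iff.1 ?_
    show PicF.pullCl V.ι (PicF.cl (CohB1.tensorMod W' Wi)) = _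
    rw [PicMul.cl_tensor, PicMul.pullCl_mul,
      show PicF.pullCl V.ι (PicF.cl W') = PicF.pullCl V.ι (PicF.cl ((Scheme.Modules.pullback π).obj W)) from
        PicMul.cl_eq_iff.2 ⟨e ≪≫ ((Scheme.Modules.pullbackComp V.ι π).app W).symm⟩,
      ← PicMul.pullCl_mul, hc, PicMul.pullCl_one, PicMul.one_def])
  rw [PicMul.cl_tensor] at hab
  have hab' : PicF.cl W' * PicF.cl (ClSub.idealMod I) ^ a =
      PicF.cl ((Scheme.Modules.pullback π).obj W) * PicF.cl (ClSub.idealMod I) ^ b := by
    have h := congrArg (PicF.cl ((Scheme.Modules.pullback π).obj W) * ·) hab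
    rw [← h, ← mul_assoc, mul_left_comm _ (PicF.cl W'), hc, mul_one]
  have hpow : ∀ j : ℕ, ∀ {A : X'.Modules}, PicF.IsInvertible A →
      SurfPairing.pair k (PicF.cl (ClSub.idealMod I)) (PicF.cl A * PicF.cl (ClSub.idealMod I) ^ j) =
        SurfPairing.pair k (PicF.cl (ClSub.idealMod I)) (PicF.cl A) - j := by
    intro j
    induction j with
    | zero => intro A hA; simp
    | succ j ih =>
      intro A hA
      have := ih (PicMul.isInvertible_tensor hA hIi)
      rw [PicMul.cl_tensor, SurfPairing.pair_mul k hdim'.le hIi hA hIi,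
        show SurfPairing.pair k (PicF.cl (ClSub.idealMod I)) (PicF.cl (ClSub.idealMod I)) = -1 from h1] at this
      rw [pow_succ', ← mul_assoc, this]
      push_cast
      ring
  have h2 := hpow a hW'i
  rw [hab', hpow b hπW, show SurfPairing.pair k (PicF.cl (ClSub.idealMod I))
    (PicF.cl ((Scheme.Modules.pullback π).obj W)) = 0 from h0 W hWi] at h2
  have hadj1 : SurfPairing.pair k (PicF.cl (ClSub.idealMod I)) (PicF.cl W') = 1 := by
    have := hadj
    linarith
  rw [hadj1] at h2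
  have hab2 : a = b + 1 := by omega
  subst hab2
  obtain ⟨L, -, ⟨eL⟩⟩ := PicInv.exists_inverse hIi
  have hu : IsUnit (PicF.cl (ClSub.idealMod I) ^ b) := by
    refine IsUnit.pow b (IsUnit.of_mul_eq_one (PicF.cl L) ?_)
    rw [← PicMul.cl_tensor, PicMul.one_def]
    exact PicMul.cl_eq_iff.2 ⟨eL⟩
  rw [pow_succ', ← mul_assoc] at hab'
  exact hu.mul_right_cancel hab'

include hover hπ in
/-- The Picard group of the blowing up of a point is generated by pullbacks and the exceptional class. -/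
theorem blowPt_pic_gen (hdim : topologicalKrullDim X = 2) (hdim' : topologicalKrullDim X' = 2) {M : X'.Modules}
    (hM : PicF.IsInvertible M) :
    ∃ L : X.Modules, PicF.IsInvertible L ∧ ∃ a b : ℕ,
      PicF.cl M * PicF.cl (ClSub.idealMod (BlowUp.exceptional π (Scheme.IdealSheafData.vanishingIdeal ⟨{P}, hP⟩))) ^ a =
        PicF.cl ((Scheme.Modules.pullback π).obj L) *
          PicF.cl (ClSub.idealMod (BlowUp.exceptional π (Scheme.IdealSheafData.vanishingIdeal ⟨{P}, hP⟩))) ^ b := by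
  let I := BlowUp.exceptional π (Scheme.IdealSheafData.vanishingIdeal ⟨{P}, hP⟩)
  letI : I.subscheme.Over (Spec (CommRingCat.of k)) := ⟨I.subschemeι ≫ (X' ↘ (Spec (CommRingCat.of k)))⟩
  obtain ⟨hIi, -, -⟩ := blowPt_exc k P hP π hover hπ hdim hdim'
  obtain ⟨hint, hId, -⟩ := blowPt_curve k P hP π hover hπ hdim
  haveI := CurveCohLib.isNoetherian_of_proper (k := k) (X := X)
  let U : X.Opens := ⟨({P} : Set X)ᶜ, hP.isOpen_compl⟩
  haveI : IsIso (π ∣_ U) := isIso_blowPt P hP π hπ
  let V : X'.Opens := π ⁻¹ᵁ U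
  have hV : (V : Set X') = (I.support : Set X')ᶜ := by
    show π ⁻¹' ({P} : Set X)ᶜ = _
    rw [Scheme.IdealSheafData.support_comap, Closeds.coe_preimage, Scheme.IdealSheafData.coe_support_vanishingIdeal]
    simp
  let M₀ := (Scheme.Modules.pullback (inv (π ∣_ U))).obj ((Scheme.Modules.pullback V.ι).obj M)
  obtain ⟨L, hL, ⟨φ⟩⟩ := Groth.Agent.S0234.result X U M₀
    (PicClLib.isInvertible_pullback _ (PicClLib.isInvertible_pullback _ hM))
    fun x _ => (@RegUFD.ufd _ _ (GrpSchLib.isRegularLocalRing_stalk_of_smooth (X ↘ Spec (CommRingCat.of k)) x)).2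
  refine ⟨L, hL, ?_⟩
  have hπL := PicClLib.isInvertible_pullback π hL
  obtain ⟨Li, hLii, ⟨ei⟩⟩ := PicInv.exists_inverse hπL
  have hc : PicF.cl ((Scheme.Modules.pullback π).obj L) * PicF.cl Li = 1 := by
    rw [← PicMul.cl_tensor, PicMul.one_def]
    exact PicMul.cl_eq_iff.2 ⟨ei⟩
  have hVL : PicF.pullCl V.ι (PicF.cl M) = PicF.pullCl V.ι (PicF.cl ((Scheme.Modules.pullback π).obj L)) := by
    refine PicMul.cl_eq_iff.2 ⟨?_⟩
    exact ((Scheme.Modules.pullbackId _).app _).symm ≪≫
      (Scheme.Modules.pullbackCongr (IsIso.hom_inv_id (π ∣_ U)).symm).app _ ≪≫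
      ((Scheme.Modules.pullbackComp (π ∣_ U) (inv (π ∣_ U))).app _).symm ≪≫
      (Scheme.Modules.pullback (π ∣_ U)).mapIso (φ.symm ≪≫ (Scheme.Modules.restrictFunctorIsoPullback U.ι).app L) ≪≫
      (Scheme.Modules.pullbackComp (π ∣_ U) U.ι).app L ≪≫ (Scheme.Modules.pullbackCongr (morphismRestrict_ι π U)).app L ≪≫
      ((Scheme.Modules.pullbackComp V.ι π).app L).symm
  obtain ⟨a, b, hab⟩ := exists_pow_of_triv_off k hdim' hint hId hπ.1 (PicMul.isInvertible_tensor hM hLii) V hV (by
    refine PicMul.cl_eq_iff.1 ?_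
    show PicF.pullCl V.ι (PicF.cl (CohB1.tensorMod M Li)) = _
    rw [PicMul.cl_tensor, PicMul.pullCl_mul, hVL, ← PicMul.pullCl_mul, hc, PicMul.pullCl_one, PicMul.one_def])
  rw [PicMul.cl_tensor] at hab
  refine ⟨a, b, ?_⟩
  have h := congrArg (PicF.cl ((Scheme.Modules.pullback π).obj L) * ·) hab
  rw [← h, ← mul_assoc, mul_left_comm _ (PicF.cl M), hc, mul_one]

end Groth.Agent.SurfRows

end
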