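import Groth.Agent.Lib.SurfNef
import Groth.Agent.H26.InterDiv
import Groth.Agent.H23.CurveCorr
import Groth.Agent.CurveEmbed.Points
import Groth.Agent.S7837
import Groth.Agent.S4667
import Groth.Agent.S10855

/-!
Fibres of a surface over a curve, effective differences of divisors, and nef ℚ-classes.
-/

set_option autoImplicit false
set_option linter.style.haveILetI false
set_option linter.unusedSectionVars false
set_option backward.isDefEq.respectTransparency false
set_option backward.isDefEq.respectTransparency.types false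

universe u

open CategoryTheory CategoryTheory.Limits AlgebraicGeometry TopologicalSpace Opposite
open Groth.Agent.H23 Groth.Agent.H23.TrivBasic

noncomputable section

namespace Groth.Agent.SurfRows

open Groth.Agent

attribute [local instance] PicMul.clMonoid

/-- An invertible module on a scheme with one point is trivial. -/
theorem cl_eq_one_of_subsingleton {P : Scheme.{u}} [Subsingleton P] [Nonempty P] {M : P.Modules}
    (hM : PicF.IsInvertible M) : PicF.cl M = (1 : PicF.Cl P) := by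
  obtain ⟨p⟩ := (inferInstance : Nonempty P)
  obtain ⟨U, hp, e, he⟩ := InvX.exists_frame hM p
  obtain rfl : U = ⊤ := top_le_iff.1 fun q _ => by rw [Subsingleton.elim q p]; exact hp
  exact (PicMul.cl_eq_iff.2 (triv_of_frame he)).trans PicMul.one_def.symm

/-- A smaller ideal sheaf gives a module with a nonzero section. -/
theorem exists_effective {X : Scheme.{u}} [Nonempty X] {A B : X.IdealSheafData} (hA : BlowUp.IsEffCartierIdeal A)
    (hB : BlowUp.IsEffCartierIdeal B) (h : A ≤ B) :
    ∃ (L : X.Modules) (_ : PicF.IsInvertible L),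
      PicF.cl L * PicF.cl (ClSub.idealMod A) = PicF.cl (ClSub.idealMod B) ∧ ∃ s : Γ(L, ⊤), s ≠ 0 := by
  have hAi := (S8914.result A).2 hA
  have hBi := (S8914.result B).2 hB
  obtain ⟨A', hA', ⟨e⟩⟩ := PicInv.exists_inverse hAi
  have hc : PicF.cl (ClSub.idealMod A) * PicF.cl A' = 1 := by
    rw [← PicMul.cl_tensor, PicMul.one_def]
    exact PicMul.cl_eq_iff.2 ⟨e⟩
  have hw : ClSub.idealModι A ≫ ClSub.toSubscheme B = 0 := by
    refine Scheme.Modules.hom_ext _ _ fun U => ?_
    ext z
    refine AModX.eq_of_locally _ _ fun x hx => ?_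
    obtain ⟨V, hV, hxV, hVU⟩ := exists_isAffineOpen_mem_and_subset (x := x) (U := U) hx
    refine ⟨V, hVU, hxV, ?_⟩
    rw [← AModX.app_res, Scheme.Modules.Hom.zero_app]
    simp only [AddCommGrpCat.hom_zero, AddMonoidHom.zero_apply, map_zero]
    have hm := h ⟨V, hV⟩ (OmegaLib.idealSect_mem A ⟨V, hV⟩ (AModX.res (ClSub.idealMod A) hVU z))
    rw [← B.ker_subschemeι_app, RingHom.mem_ker] at hm
    exact hm
  haveI : Mono (ClSub.idealModι A) := inferInstanceAs (Mono (kernel.ι _))
  let φ : ClSub.idealMod A ⟶ ClSub.idealMod B := kernel.lift _ (ClSub.idealModι A) hw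
  haveI : Mono φ := mono_of_mono_fac (kernel.lift_ι _ (ClSub.idealModι A) hw)
  haveI := CurveOnSurf.isEquivalence_tensor hA'
  obtain ⟨c⟩ := PicMul.comm A' (ClSub.idealMod A)
  let ψ : Coh.structureModule X ⟶ CohB1.tensorMod A' (ClSub.idealMod B) :=
    (c ≪≫ e).inv ≫ (DCoh.tensorBi.obj A').map φ
  refine ⟨_, PicMul.isInvertible_tensor hA' hBi, ?_, InvX.one ψ, fun h0 => ?_⟩
  · rw [PicMul.cl_tensor, mul_right_comm, mul_comm (PicF.cl A'), hc, one_mul]
  · have hψ : ψ = 0 := CurveRR.hom_ext_one h0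
    haveI : Mono ((DCoh.tensorBi.obj A').map φ) := inferInstance
    haveI : Mono ψ := mono_comp _ _
    have hz : IsZero (Coh.structureModule X) := (IsZero.iff_id_eq_zero _).2 (by
      rw [← cancel_mono ψ, hψ]; simp)
    obtain ⟨x⟩ := (inferInstance : Nonempty X)
    haveI : Nonempty (⊤ : X.Opens) := ⟨⟨x, trivial⟩⟩
    have h01 : (Scheme.Modules.Hom.app (𝟙 (Coh.structureModule X)) ⊤) (1 : Γ(X, ⊤)) =
        (Scheme.Modules.Hom.app (0 : Coh.structureModule X ⟶ Coh.structureModule X) ⊤) (1 : Γ(X, ⊤)) := by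
      rw [(IsZero.iff_id_eq_zero _).1 hz]
    exact one_ne_zero (α := Γ(X, ⊤)) h01

variable (k : Type u) [Field k] {S : Scheme.{u}} [S.Over (Spec (CommRingCat.of k))]
  [IsProper (S ↘ Spec (CommRingCat.of k))] [Smooth (S ↘ Spec (CommRingCat.of k))] [IsIntegral S]

/-- The class of the inverse of the ideal of a fibre over a point of a curve is nef and has a nonzero section. -/
theorem fibre_nef (hdim : topologicalKrullDim S = 2) {C : Scheme.{u}} [C.Over (Spec (CommRingCat.of k))]
    [IsProper (C ↘ Spec (CommRingCat.of k))] [Smooth (C ↘ Spec (CommRingCat.of k))] [IsIntegral C]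
    (hdimC : topologicalKrullDim C = 1) (f : S ⟶ C) [f.IsOver (Spec (CommRingCat.of k))] [Surjective f]
    (p : C) (hp : IsClosed ({p} : Set C)) {LF : S.Modules}
    (hLF : ClSub.IsInverseOf LF (ClSub.idealMod (f.fiberι p).ker)) :
    PicF.IsInvertible LF ∧ SurfNef.Nef k LF ∧ ∃ s : Γ(LF, ⊤), s ≠ 0 := by
  haveI := CurveCohLib.isNoetherian_of_proper (k := k) (X := C)
  have hgen : f (genericPoint S) = genericPoint C := by
    obtain ⟨z, hz⟩ := f.surjective (genericPoint C)
    have h : f (genericPoint S) ⤳ genericPoint C := hz ▸ (genericPoint_specializes z).map f.continuous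
    exact (h.antisymm (genericPoint_specializes _)).eq
  haveI : Flat f := H23.CurveCorr.flat_of_dominant (C ↘ Spec (CommRingCat.of k)) hdimC.le f hgen
  have hn : IsIntegrallyClosed (C.presheaf.stalk p) := by
    haveI := GrpSchLib.isRegularLocalRing_stalk_of_smooth (C ↘ Spec (CommRingCat.of k)) p
    exact RegLoc6.isIntegrallyClosed_of_isRegularLocalRing _
  haveI : IsClosedImmersion (C.fromSpecResidueField p) :=
    IsClosedImmersion.of_isPreimmersion _ (by rw [Scheme.range_fromSpecResidueField]; exact hp)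
  have hI : BlowUp.IsEffCartierIdeal (C.fromSpecResidueField p).ker := by
    rw [S7837.ker_fromSpecResidueField C p hp]
    exact CurveEmbed.isEffCartier_point k hdimC hp hn
  have hker : (f.fiberι p).ker = (C.fromSpecResidueField p).ker.comap f := by
    rw [← S4667.result (C.fromSpecResidueField p) f, ← pullbackSymmetry_hom_comp_fst,
      Scheme.Hom.ker_comp_of_isIso]
    rfl
  have hIF : BlowUp.IsEffCartierIdeal (f.fiberι p).ker := hker ▸ S10855.result f _ hI
  have hFi := (S8914.result _).2 hIF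
  obtain ⟨hL, hcl⟩ := CurveOnSurf.isInvertible_of_inverse hFi hLF
  obtain ⟨e⟩ := H26.InterDiv.nonempty_pullback_idealMod f _ hI (hker ▸ hIF)
  refine ⟨hL, fun Γc hΓ hd => ?_, let ⟨s, hs, _⟩ := AVAmple.exists_divisor_section_ne_zero _ hIF hL hLF; ⟨s, hs⟩⟩
  haveI := hΓ
  have hΓi := SurfNef.invertible_ideal k hdim hΓ hd
  rw [SurfPairing.pair_inv k hdim.le hΓi hFi hL (by rw [mul_comm, hcl]), neg_nonpos]
  by_cases hsub : (Γc.support : Set S) ⊆ (f.fiberι p).ker.support
  swap
  · exact SurfNegDef.pair_ideal_nonneg (k := k) hdim (SurfHodge.regular k) hd hIF hsub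
  let i := Γc.subschemeι
  letI : Γc.subscheme.Over (Spec (CommRingCat.of k)) := ⟨i ≫ (S ↘ (Spec (CommRingCat.of k)))⟩
  haveI : IsProper (Γc.subscheme ↘ Spec (CommRingCat.of k)) :=
    show IsProper (i ≫ (S ↘ Spec (CommRingCat.of k))) from inferInstance
  obtain ⟨g, hg⟩ := H23.RedSub.exists_lift_closed (i ≫ f) (C.fromSpecResidueField p) (by
    rintro _ ⟨z, rfl⟩
    have h1 : i z ∈ (f.fiberι p).ker.support := hsub (Γc.range_subschemeι.le ⟨z, rfl⟩)
    haveI : IsClosedImmersion (f.fiberι p) := MorphismProperty.pullback_fst _ _ inferInstance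
    rw [Scheme.range_fromSpecResidueField]
    have h2 : i z ∈ closure (Set.range (f.fiberι p)) := (Scheme.Hom.support_ker (f.fiberι p)).le h1
    rw [(f.fiberι p).isClosedEmbedding.isClosed_range.closure_eq, Scheme.Hom.range_fiberι] at h2
    exact h2)
  have hJ := PicClLib.isInvertible_pullback (C.fromSpecResidueField p) ((S8914.result _).2 hI)
  obtain ⟨e₂⟩ := PicMul.cl_eq_iff.1 ((cl_eq_one_of_subsingleton hJ).trans PicMul.one_def)
  obtain ⟨e₃⟩ := PicClLib.nonempty_pullback_structureModule g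
  let E : (Scheme.Modules.pullback i).obj (ClSub.idealMod (f.fiberι p).ker) ≅ Coh.structureModule Γc.subscheme :=
    (Scheme.Modules.pullback i).mapIso (eqToIso (by rw [hker])) ≪≫ (Scheme.Modules.pullback i).mapIso e.symm ≪≫
      (Scheme.Modules.pullbackComp i f).app _ ≪≫ (Scheme.Modules.pullbackCongr hg.symm).app _ ≪≫
      ((Scheme.Modules.pullbackComp g (C.fromSpecResidueField p)).app _).symm ≪≫
      (Scheme.Modules.pullback g).mapIso e₂ ≪≫ e₃
  have hp' := CurveOnSurf.pair_ideal (k := k) i hFi (by rw [Scheme.IdealSheafData.ker_subschemeι]; exact hΓi)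
  rw [Scheme.IdealSheafData.ker_subschemeι] at hp'
  rw [hp', CurveRR.deg_congr k E, CurveDeg.deg_structureModule, neg_zero]

/-- Nef rational classes `G - μ F`. -/
theorem nefQ (hdim : topologicalKrullDim S = 2) {G F : S.Modules} (hG : PicF.IsInvertible G)
    (hF : PicF.IsInvertible F) (μ : ℚ)
    (hnef : ∀ Γc : S.IdealSheafData, IsIntegral Γc.subscheme → topologicalKrullDim (Γc.support : Set S) = 1 →
      (SurfPairing.pair k (PicF.cl (ClSub.idealMod Γc)) (PicF.cl G) : ℚ) -
        μ * SurfPairing.pair k (PicF.cl (ClSub.idealMod Γc)) (PicF.cl F) ≤ 0) :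
    (∀ {M : S.Modules}, PicF.IsInvertible M → (∃ s : Γ(M, ⊤), s ≠ 0) →
      (0 : ℚ) ≤ SurfPairing.pair k (PicF.cl G) (PicF.cl M) - μ * SurfPairing.pair k (PicF.cl F) (PicF.cl M)) ∧
    (0 : ℚ) ≤ SurfPairing.pair k (PicF.cl G) (PicF.cl G) - 2 * μ * SurfPairing.pair k (PicF.cl G) (PicF.cl F)
      + μ * μ * SurfPairing.pair k (PicF.cl F) (PicF.cl F) := by
  obtain ⟨G₁, hG₁, e₁⟩ := SurfAdj.exists_smul k hdim.le hG (μ.den : ℤ)
  obtain ⟨F₁, hF₁, e₂⟩ := SurfAdj.exists_smul k hdim.le hF (-μ.num)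
  have hN := PicMul.isInvertible_tensor hG₁ hF₁
  have hd : (0 : ℚ) < μ.den := by exact_mod_cast μ.den_pos
  have hmu : (μ.num : ℚ) = μ * μ.den := (Rat.mul_den_eq_num μ).symm
  have key : ∀ {M : S.Modules}, PicF.IsInvertible M →
      (SurfPairing.pair k (PicF.cl M) (PicF.cl (CohB1.tensorMod G₁ F₁)) : ℚ) = μ.den *
        ((SurfPairing.pair k (PicF.cl M) (PicF.cl G) : ℚ) - μ * SurfPairing.pair k (PicF.cl M) (PicF.cl F)) := fun hM => by
    rw [PicMul.cl_tensor, SurfPairing.pair_mul k hdim.le hM hG₁ hF₁, e₁ hM, e₂ hM]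
    push_cast
    rw [hmu]
    ring
  have hN' : SurfNef.Nef k (CohB1.tensorMod G₁ F₁) := fun Γc h1 h2 => by
    have h := hnef Γc h1 h2
    have e := key (SurfNef.invertible_ideal k hdim h1 h2)
    have h' : (SurfPairing.pair k (PicF.cl (ClSub.idealMod Γc)) (PicF.cl (CohB1.tensorMod G₁ F₁)) : ℚ) ≤ 0 := by
      rw [e]; exact mul_nonpos_of_nonneg_of_nonpos hd.le h
    exact_mod_cast h'
  refine ⟨fun {M} hM hs => ?_, ?_⟩
  · obtain ⟨s, hs⟩ := hs
    have h := SurfNef.nef_section k hdim hN hN' hM hs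
    rw [SurfPairing.pair_comm k] at h
    have h' : (0 : ℚ) ≤ SurfPairing.pair k (PicF.cl M) (PicF.cl (CohB1.tensorMod G₁ F₁)) := by exact_mod_cast h
    rw [key hM, SurfPairing.pair_comm k (PicF.cl M), SurfPairing.pair_comm k (PicF.cl M)] at h'
    exact nonneg_of_mul_nonneg_right h' hd
  · have h := SurfNef.self_nonneg k hdim hN hN'
    have h' : (0 : ℚ) ≤ SurfPairing.pair k (PicF.cl (CohB1.tensorMod G₁ F₁)) (PicF.cl (CohB1.tensorMod G₁ F₁)) := by
      exact_mod_cast h
    have eG := key hG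
    have eF := key hF
    rw [SurfPairing.pair_comm k] at eG eF
    rw [key hN, eG, eF, SurfPairing.pair_comm k (PicF.cl F) (PicF.cl G)] at h'
    have : (0 : ℚ) ≤ (μ.den : ℚ) * μ.den * (SurfPairing.pair k (PicF.cl G) (PicF.cl G) -
        2 * μ * SurfPairing.pair k (PicF.cl G) (PicF.cl F) + μ * μ * SurfPairing.pair k (PicF.cl F) (PicF.cl F)) := by
      refine h'.trans_eq ?_
      ring
    exact nonneg_of_mul_nonneg_right this (mul_pos hd hd)

end Groth.Agent.SurfRows
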