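import Groth.Agent.SurfRows.BirPair
import Groth.Agent.SurfRows.Fibre
import Groth.Agent.H28.ExcBundle
import Groth.Agent.H28.PBField
import Groth.Agent.H23.ProjBd.BcBundle
import Groth.Agent.CurveCover.Line
import Groth.Agent.LogNCD2.Free
import Groth.Agent.GrpOmega.Section
import Groth.Agent.BlowUpLib.Glue
import Groth.Agent.S1676
import Groth.Agent.H23.Frame
import Groth.Agent.QCoh.ProperOver

/-!
The blowing up of a smooth surface in a closed point: the exceptional curve and intersection numbers.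
-/

set_option autoImplicit false
set_option linter.style.haveILetI false
set_option linter.unusedSectionVars false
set_option backward.isDefEq.respectTransparency false
set_option backward.isDefEq.respectTransparency.types false
set_option maxHeartbeats 800000

universe u

open CategoryTheory CategoryTheory.Limits AlgebraicGeometry TopologicalSpace Opposite
open Groth.Agent.H23

noncomputable section

namespace Groth.Agent.SurfRows

open Groth.Agent

attribute [local instance] PicMul.clMonoid

theorem vanishing_le_ker {X Y : Scheme.{u}} (f : X ⟶ Y) [IsReduced X] (C : Closeds Y) (hC : Set.range f ⊆ C) :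
    Scheme.IdealSheafData.vanishingIdeal C ≤ f.ker := by
  refine Scheme.IdealSheafData.le_ofIdeals_iff.mpr fun U s hs => ?_
  rw [Scheme.IdealSheafData.vanishingIdeal_ideal, PrimeSpectrum.mem_vanishingIdeal] at hs
  show f.app U s = 0
  rw [← basicOpen_eq_bot_iff, ← le_bot_iff]
  intro x hx
  rw [← Scheme.preimage_basicOpen] at hx
  have hxU : f x ∈ U.1 := Y.basicOpen_le s hx
  obtain ⟨p, hp⟩ : f x ∈ Set.range U.2.fromSpec := by rw [U.2.range_fromSpec]; exact hxU
  have hpb : p ∈ U.2.fromSpec ⁻¹ᵁ Y.basicOpen s := by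
    show U.2.fromSpec p ∈ Y.basicOpen s
    rw [hp]; exact hx
  rw [U.2.fromSpec_preimage_basicOpen] at hpb
  exact absurd (hs p (by show U.2.fromSpec p ∈ (C : Set Y); rw [hp]; exact hC ⟨x, rfl⟩))
    ((PrimeSpectrum.mem_basicOpen s p).1 hpb)

/-- A finite locally free module on a scheme with one point is free. -/
theorem free_of_subsingleton {T : Scheme.{u}} [Subsingleton T] [Nonempty T] {E : T.Modules} {n : ℕ}
    (hE : FlatMod.IsFinLocFreeOfRank n E) : Nonempty (FlatMod.freeMod T n ≅ E) := by
  obtain ⟨t⟩ := (inferInstance : Nonempty T)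
  obtain ⟨U, s, ht, hs⟩ := H28.KvbModel.frameAt_of_rank hE t
  obtain rfl : U = ⊤ := top_le_iff.1 fun q _ => by rw [Subsingleton.elim q t]; exact ht
  let φ : FlatMod.freeMod T n ⟶ E := Sigma.desc fun i => QCoh.homOfTop (P := E) (s i)
  haveI : IsIso φ := Scheme.Modules.Hom.isIso_iff_isIso_app.2 fun W => by
    refine (ConcreteCategory.isIso_iff_bijective _).2 ?_
    have h1 : ∀ (i : Fin n) (a : Γ(T, W)), φ.app W ((H23.Frame.incl T n i).app W a) = a • AModX.res E le_top (s i) :=
      fun i a => by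
        rw [← ConcreteCategory.comp_apply, ← Scheme.Modules.Hom.comp_app,
          show H23.Frame.incl T n i ≫ φ = QCoh.homOfTop (P := E) (s i) from Sigma.ι_desc _ i]
        rfl
    have h2 : (φ.app W : Γ(FlatMod.freeMod T n, W) → Γ(E, W)) ∘ (fun c : Fin n → Γ(T, W) =>
        ∑ i, (H23.Frame.incl T n i).app W (c i)) = H23.Frame.comb E s W le_top := funext fun c => by
      show φ.app W (∑ i, _) = _
      rw [map_sum]
      simp only [h1, H23.Frame.comb]
      rfl
    have h3 : Function.Surjective (fun c : Fin n → Γ(T, W) => ∑ i, (H23.Frame.incl T n i).app W (c i)) := fun x =>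
      ⟨fun i => (H23.Frame.proj T n i).app W x, by
        refine Eq.trans ?_ (H23.Frame.free_eq_sum W x)
        exact Finset.sum_congr rfl fun i _ => H23.Frame.app_eq_smul (H23.Frame.incl T n i) W _⟩
    have hb := hs W le_top
    rw [← h2] at hb
    exact ⟨fun a b h => by
      obtain ⟨c, rfl⟩ := h3 a
      obtain ⟨d, rfl⟩ := h3 b
      rw [hb.1 h], hb.2.of_comp⟩
  exact ⟨asIso φ⟩

variable (k : Type u) [Field k] [IsAlgClosed k] {X : Scheme.{u}} [X.Over (Spec (CommRingCat.of k))]
  [IsProper (X ↘ Spec (CommRingCat.of k))] [Smooth (X ↘ Spec (CommRingCat.of k))] [IsIntegral X]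

/-- A closed point of a smooth surface as a regularly immersed rational point. -/
theorem exists_point_section (hdim : topologicalKrullDim X = 2) (P : X) (hP : IsClosed ({P} : Set X)) :
    ∃ i : Spec (CommRingCat.of k) ⟶ X, i ≫ (X ↘ Spec (CommRingCat.of k)) = 𝟙 _ ∧ IsClosedImmersion i ∧
      i.ker = Scheme.IdealSheafData.vanishingIdeal ⟨{P}, hP⟩ ∧ (∀ t, i t = P) ∧ Mor2.IsRegularClosedImmersion i ∧
      FlatMod.IsFinLocFreeOfRank 2 (Omega.conormal i) := by
  let f := X ↘ Spec (CommRingCat.of k)
  let s := (pointEquivClosedPoint f).symm ⟨P, hP⟩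
  have hs : s.1 (IsLocalRing.closedPoint k) = P :=
    congrArg Subtype.val ((pointEquivClosedPoint f).apply_symm_apply ⟨P, hP⟩)
  haveI : IsClosedImmersion (s.1 ≫ f) := by rw [s.2]; infer_instance
  haveI hcl : IsClosedImmersion s.1 := IsClosedImmersion.of_comp s.1 f
  have hpt : ∀ t, s.1 t = P := fun t => by
    haveI : Subsingleton (Spec (CommRingCat.of k)) := inferInstanceAs (Subsingleton (PrimeSpectrum k))
    rw [Subsingleton.elim t (IsLocalRing.closedPoint k)]; exact hs
  have hrange : Set.range s.1 = {P} := Set.eq_singleton_iff_unique_mem.2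
    ⟨⟨_, hs⟩, fun _ ⟨t, ht⟩ => ht ▸ hpt t⟩
  refine ⟨s.1, s.2, hcl, le_antisymm (QCoh.ker_le_vanishingIdeal s.1 ⟨{P}, hP⟩ hrange.ge)
    (vanishing_le_ker s.1 ⟨{P}, hP⟩ hrange.le), hpt, Groth.Agent.S1676.result f s.1 s.2, ?_⟩
  haveI := CurveFin.smoothOfRelativeDimension_of_dim (f := f) (d := 2) hdim
  obtain ⟨e⟩ := GrpOmega.nonempty_conormalIso (f := f) (i := s.1) (𝟙 _) (by rw [Category.comp_id]; exact s.2)
    (by rw [Category.id_comp]; exact s.2)
  have h : FlatMod.IsFinLocFreeOfRank 2 (Omega.sheaf f) := fun x => by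
    obtain ⟨U, t, hx, ht⟩ := LogNCD2.exists_frame_omega (OmegaUniv.isUniversal_dOmega f) 2 x
    exact ⟨U, hx, H23.Frame.exists_iso_of_frame t ht⟩
  exact (ConsPropLib.isFinLocFreeOfRank_iso e.symm).1 (H23.GrassFlag.rank_pullback s.1 h)

/-- Degrees of invertible modules along an isomorphism. -/
theorem deg_iso {C D : Scheme.{u}} [C.Over (Spec (CommRingCat.of k))] [D.Over (Spec (CommRingCat.of k))]
    [IsProper (C ↘ Spec (CommRingCat.of k))]
    (θ : C ≅ D) (hθ : θ.hom ≫ (D ↘ Spec (CommRingCat.of k)) = C ↘ Spec (CommRingCat.of k))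
    {N : D.Modules} (hN : PicF.IsInvertible N) :
    Curv2.deg k D N 1 = Curv2.deg k C ((Scheme.Modules.pullback θ.hom).obj N) 1 := by
  have key : ∀ {M : D.Modules}, PicF.IsInvertible M →
      Curv2.euler k C ((Scheme.Modules.pullback θ.hom).obj M) = Curv2.euler k D M := fun {M} hM => by
    refine (CurveCohLib.euler_congr (k := k) ((H28.PBAtlas.pullIsoPush θ.hom).app M)).trans ?_
    haveI : IsProper (D ↘ Spec (CommRingCat.of k)) := by
      rw [← (Iso.inv_comp_eq θ).2 hθ.symm]; infer_instance
    haveI := CurveCohLib.isNoetherian_of_proper (k := k) (X := D)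
    refine Pic13Lib.euler_push (inv θ.hom) ?_ (AmpleVan.isCoh_invertible hM).1
    rw [IsIso.inv_comp_eq]; exact hθ.symm
  obtain ⟨e0⟩ := PicClLib.nonempty_pullback_structureModule θ.hom
  have h1 := key hN
  have h0 := key InvX.isInvertible_structureModule
  rw [CurveCohLib.euler_congr (k := k) e0] at h0
  simp only [Curv2.deg]
  rw [h1, h0]

variable (P : X) (hP : IsClosed ({P} : Set X)) {X' : Scheme.{u}} [X'.Over (Spec (CommRingCat.of k))]
  [IsProper (X' ↘ Spec (CommRingCat.of k))] [Smooth (X' ↘ Spec (CommRingCat.of k))] [IsIntegral X']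
  (π : X' ⟶ X) (hover : X' ↘ Spec (CommRingCat.of k) = π ≫ (X ↘ Spec (CommRingCat.of k)))
  (hπ : BlowUp.IsBlowUp π (Scheme.IdealSheafData.vanishingIdeal ⟨{P}, hP⟩))

include hπ in
/-- Off the centre the blowing up is an isomorphism. -/
theorem isIso_blowPt : IsIso (π ∣_ (⟨({P} : Set X)ᶜ, hP.isOpen_compl⟩ : X.Opens)) := by
  refine BlowUpLib.isIso_restrict hπ _ fun x hx hmem => ?_
  rw [Scheme.IdealSheafData.coe_support_vanishingIdeal] at hmem
  exact hx (by simpa using hmem)

include hover hπ in
/-- The exceptional curve of the blowing up of a point: its numerical properties. -/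
theorem blowPt_exc (hdim : topologicalKrullDim X = 2) (hdim' : topologicalKrullDim X' = 2) :
    PicF.IsInvertible (ClSub.idealMod (BlowUp.exceptional π (Scheme.IdealSheafData.vanishingIdeal ⟨{P}, hP⟩))) ∧
    (∀ L : X.Modules, PicF.IsInvertible L →
      SurfPairing.pair k (PicF.cl (ClSub.idealMod (BlowUp.exceptional π (Scheme.IdealSheafData.vanishingIdeal ⟨{P}, hP⟩))))
        (PicF.cl ((Scheme.Modules.pullback π).obj L)) = 0) ∧
    SurfPairing.pair k (PicF.cl (ClSub.idealMod (BlowUp.exceptional π (Scheme.IdealSheafData.vanishingIdeal ⟨{P}, hP⟩))))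
      (PicF.cl (ClSub.idealMod (BlowUp.exceptional π (Scheme.IdealSheafData.vanishingIdeal ⟨{P}, hP⟩)))) = -1 := by
  obtain ⟨i, hi, hicl, hiker, hipt, hireg, hirank⟩ := exists_point_section k hdim P hP
  haveI := hicl
  haveI := CurveCohLib.isNoetherian_of_proper (k := k) (X := X)
  haveI : IsProper (π ≫ (X ↘ Spec (CommRingCat.of k))) := by rw [← hover]; infer_instance
  haveI : IsProper π := IsProper.of_comp π (X ↘ Spec (CommRingCat.of k))
  let ι := pullback.fst π i
  let ψ := pullback.snd π i
  let I := BlowUp.exceptional π (Scheme.IdealSheafData.vanishingIdeal ⟨{P}, hP⟩)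
  have hE : ι.ker = I := by
    show ι.ker = Scheme.IdealSheafData.comap _ π
    rw [← hiker]
    exact Scheme.IdealSheafData.ker_fst_of_isClosedImmersion i π
  have hIi : PicF.IsInvertible (ClSub.idealMod I) := (S8914.result I).2 hπ.1
  letI : (pullback π i).Over (Spec (CommRingCat.of k)) := ⟨ι ≫ (X' ↘ Spec (CommRingCat.of k))⟩
  have hψ : ψ = (pullback π i) ↘ Spec (CommRingCat.of k) := by
    show ψ = ι ≫ (X' ↘ Spec (CommRingCat.of k))
    rw [hover, ← Category.assoc, pullback.condition, Category.assoc, hi, Category.comp_id]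
  haveI : IsProper ((pullback π i) ↘ Spec (CommRingCat.of k)) :=
    show IsProper (ι ≫ (X' ↘ Spec (CommRingCat.of k))) from inferInstance
  have hb : BlowUp.IsBlowUp π i.ker := by rw [hiker]; exact hπ
  obtain ⟨φ, -, hPB⟩ := H28.ExcBundle.exists_isProjBundle hireg one_le_two hirank hb (IsPullback.of_hasPullback π i)
  haveI : Subsingleton (Spec (CommRingCat.of k)) := inferInstanceAs (Subsingleton (PrimeSpectrum k))
  haveI : Nonempty (Spec (CommRingCat.of k)) := ⟨IsLocalRing.closedPoint k⟩
  obtain ⟨e⟩ := free_of_subsingleton hirank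
  obtain ⟨q, hq⟩ := H28.PBField.exists_isProjBundle 1 k
  obtain ⟨θ, hθ, ⟨eO⟩⟩ := H23.ProjBd.exists_iso_of_projBundle hq hPB e
  have hθk : θ.hom ≫ ((CohB1.ProjSpace 1 k) ↘ Spec (CommRingCat.of k)) = (pullback π i) ↘ Spec (CommRingCat.of k) :=
    hθ.trans hψ
  haveI := CurveCover.isProper_line k
  haveI := CurveCover.isIntegral_line k
  haveI : Nonempty (pullback π i : Scheme.{u}) := ⟨θ.inv (genericPoint (CohB1.ProjSpace 1 k))⟩
  haveI : IsIntegral (pullback π i) := isIntegral_of_isOpenImmersion θ.hom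
  have hIi' : PicF.IsInvertible (ClSub.idealMod ι.ker) := by rw [hE]; exact hIi
  have hdeg : Curv2.deg k (pullback π i) ((Scheme.Modules.pullback ι).obj (ClSub.idealMod ι.ker)) 1 = 1 := by
    refine (CurveRR.deg_congr k eO 1).symm.trans ?_
    exact (deg_iso k θ hθk (CurveCover.isInvertible_twist k 1)).symm.trans (CurveCover.deg_twist_one k)
  have hpair := fun (M : X'.Modules) (hM : PicF.IsInvertible M) => CurveOnSurf.pair_ideal (k := k) ι hM hIi'
  refine ⟨hIi, fun L hL => ?_, ?_⟩
  · have h := hpair _ (PicClLib.isInvertible_pullback π hL)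
    rw [hE] at h
    obtain ⟨e₂⟩ := PicMul.cl_eq_iff.1
      ((cl_eq_one_of_subsingleton (PicClLib.isInvertible_pullback i hL)).trans PicMul.one_def)
    obtain ⟨e₃⟩ := PicClLib.nonempty_pullback_structureModule ψ
    refine h.trans ?_
    rw [neg_eq_zero]
    refine (CurveRR.deg_congr k ((Scheme.Modules.pullbackComp ι π).app L ≪≫
      (Scheme.Modules.pullbackCongr pullback.condition).app L ≪≫ ((Scheme.Modules.pullbackComp ψ i).app L).symm ≪≫
      (Scheme.Modules.pullback ψ).mapIso e₂ ≪≫ e₃) 1).trans ?_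
    exact CurveDeg.deg_structureModule k
  · have h := hpair _ hIi'
    rw [hE] at h hdeg
    exact h.trans (congrArg Neg.neg hdeg)

include hover hπ in
/-- Pulling back along the blowing up of a point preserves intersection numbers. -/
theorem blowPt_pair (hdim : topologicalKrullDim X = 2) (hdim' : topologicalKrullDim X' = 2)
    {H : X.Modules} (hH : CohB1.IsAmple H) {L M : X.Modules} (hL : PicF.IsInvertible L) (hM : PicF.IsInvertible M) :
    SurfPairing.pair k (PicF.cl ((Scheme.Modules.pullback π).obj L)) (PicF.cl ((Scheme.Modules.pullback π).obj M)) =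
      SurfPairing.pair k (PicF.cl L) (PicF.cl M) := by
  let U : X.Opens := ⟨({P} : Set X)ᶜ, hP.isOpen_compl⟩
  haveI : IsIso (π ∣_ U) := isIso_blowPt P hP π hπ
  have hU : ((U : Set X)ᶜ).Finite := by
    show (({P} : Set X)ᶜᶜ).Finite
    rw [compl_compl]
    exact Set.finite_singleton P
  have hgU : genericPoint X ∈ U := fun h => by
    have hs : ∀ z : X, z = P := fun z => ((genericPoint_specializes z).mem_closed hP h)
    haveI : Subsingleton X := ⟨fun a b => (hs a).trans (hs b).symm⟩
    have h1 : topologicalKrullDim X ≤ 0 := topologicalKrullDim_zero_of_discreteTopology _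
    rw [hdim] at h1
    exact absurd h1 (by decide)
  have hgen : π (genericPoint X') = genericPoint X := by
    obtain ⟨w, hw⟩ := (π ∣_ U).surjective (⟨_, hgU⟩ : U)
    have h := congrArg Subtype.val hw
    rw [morphismRestrict_base] at h
    have h' : π w.1 = genericPoint X := h
    exact ((h' ▸ (genericPoint_specializes w.1).map π.continuous :
      π (genericPoint X') ⤳ genericPoint X).antisymm (genericPoint_specializes _)).eq
  have key := fun {N : X.Modules} (hN : PicF.IsInvertible N) =>
    euler_pullback_sub k π hover.symm U hdim.le hdim'.le hgen hH hU hN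
  have h1 := key hL
  have h2 := key hM
  have h3 := key (PicMul.isInvertible_tensor hL hM)
  have hc : PicF.pullCl π (PicF.cl L * PicF.cl M) = PicF.pullCl π (PicF.cl L) * PicF.pullCl π (PicF.cl M) :=
    PicMul.pullCl_mul π _ _
  rw [← SurfPairing.χ_cl, ← SurfPairing.χ_cl, ← SurfPairing.χ_cl, ← SurfPairing.χ_cl] at h1 h2 h3
  change _ = _ at hc
  have h4 : PicF.cl ((Scheme.Modules.pullback π).obj (CohB1.tensorMod L M)) =
      PicF.cl ((Scheme.Modules.pullback π).obj L) * PicF.cl ((Scheme.Modules.pullback π).obj M) := by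
    refine Eq.trans ?_ hc
    rw [← PicMul.cl_tensor]
    rfl
  rw [PicMul.cl_tensor, h4] at h3
  simp only [← PicMul.one_def] at h1 h2 h3
  simp only [SurfPairing.pair]
  linarith

include hover hπ in
/-- The exceptional curve is a projective line. -/
theorem blowPt_curve (hdim : topologicalKrullDim X = 2) :
    letI : (BlowUp.exceptional π (Scheme.IdealSheafData.vanishingIdeal ⟨{P}, hP⟩)).subscheme.Over (Spec (CommRingCat.of k)) :=
      ⟨(BlowUp.exceptional π (Scheme.IdealSheafData.vanishingIdeal ⟨{P}, hP⟩)).subschemeι ≫ (X' ↘ (Spec (CommRingCat.of k)))⟩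
    IsIntegral (BlowUp.exceptional π (Scheme.IdealSheafData.vanishingIdeal ⟨{P}, hP⟩)).subscheme ∧
    topologicalKrullDim ((BlowUp.exceptional π (Scheme.IdealSheafData.vanishingIdeal ⟨{P}, hP⟩)).support : Set X') = 1 ∧
    Curv2.euler k (BlowUp.exceptional π (Scheme.IdealSheafData.vanishingIdeal ⟨{P}, hP⟩)).subscheme
      (Coh.structureModule (BlowUp.exceptional π (Scheme.IdealSheafData.vanishingIdeal ⟨{P}, hP⟩)).subscheme) = 1 := by
  obtain ⟨i, hi, hicl, hiker, hipt, hireg, hirank⟩ := exists_point_section k hdim P hP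
  haveI := hicl
  haveI := CurveCohLib.isNoetherian_of_proper (k := k) (X := X)
  haveI : IsProper (π ≫ (X ↘ Spec (CommRingCat.of k))) := by rw [← hover]; infer_instance
  haveI : IsProper π := IsProper.of_comp π (X ↘ Spec (CommRingCat.of k))
  let ι := pullback.fst π i
  let I := BlowUp.exceptional π (Scheme.IdealSheafData.vanishingIdeal ⟨{P}, hP⟩)
  letI : I.subscheme.Over (Spec (CommRingCat.of k)) := ⟨I.subschemeι ≫ (X' ↘ (Spec (CommRingCat.of k)))⟩
  have hE : ι.ker = I := by
    show ι.ker = Scheme.IdealSheafData.comap _ π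
    rw [← hiker]
    exact Scheme.IdealSheafData.ker_fst_of_isClosedImmersion i π
  have hker : ι.ker = I.subschemeι.ker := by rw [hE, Scheme.IdealSheafData.ker_subschemeι]
  let ρ : I.subscheme ⟶ pullback π i := IsClosedImmersion.lift ι I.subschemeι hker.le
  have hρ : ρ ≫ ι = I.subschemeι := IsClosedImmersion.lift_fac _ _ _
  haveI : IsIso ρ := IsClosedImmersion.isIso_lift ι I.subschemeι hker
  let ψ := pullback.snd π i
  have hb : BlowUp.IsBlowUp π i.ker := by rw [hiker]; exact hπ
  obtain ⟨φ, -, hPB⟩ := H28.ExcBundle.exists_isProjBundle hireg one_le_two hirank hb (IsPullback.of_hasPullback π i)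
  haveI : Subsingleton (Spec (CommRingCat.of k)) := inferInstanceAs (Subsingleton (PrimeSpectrum k))
  haveI : Nonempty (Spec (CommRingCat.of k)) := ⟨IsLocalRing.closedPoint k⟩
  obtain ⟨e⟩ := free_of_subsingleton hirank
  obtain ⟨q, hq⟩ := H28.PBField.exists_isProjBundle 1 k
  obtain ⟨θ, hθ, -⟩ := H23.ProjBd.exists_iso_of_projBundle hq hPB e
  let Θ : I.subscheme ≅ CohB1.ProjSpace 1 k := asIso ρ ≪≫ θ
  have hΘ : Θ.hom ≫ ((CohB1.ProjSpace 1 k) ↘ Spec (CommRingCat.of k)) = I.subscheme ↘ Spec (CommRingCat.of k) := by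
    show (ρ ≫ θ.hom) ≫ _ = I.subschemeι ≫ _
    rw [Category.assoc, show θ.hom ≫ ((CohB1.ProjSpace 1 k) ↘ Spec (CommRingCat.of k)) = ψ from hθ, hover, ← hρ,
      Category.assoc, ← Category.assoc ι π, pullback.condition, Category.assoc, hi, Category.comp_id]
  haveI := CurveCover.isProper_line k
  haveI := CurveCover.isIntegral_line k
  haveI : Nonempty I.subscheme := ⟨Θ.inv (genericPoint (CohB1.ProjSpace 1 k))⟩
  refine ⟨isIntegral_of_isOpenImmersion Θ.hom, ?_, ?_⟩
  · rw [← topologicalKrullDim_subscheme (C := I), ← CurveCover.dim_line k]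
    exact IsHomeomorph.topologicalKrullDim_eq _ Θ.hom.homeomorph.isHomeomorph
  · haveI := CurveCohLib.isNoetherian_of_proper (k := k) (X := CohB1.ProjSpace 1 k)
    have hs : Θ.inv ≫ (I.subscheme ↘ Spec (CommRingCat.of k)) = (CohB1.ProjSpace 1 k) ↘ Spec (CommRingCat.of k) :=
      (Iso.inv_comp_eq Θ).2 hΘ.symm
    haveI : IsProper (I.subscheme ↘ Spec (CommRingCat.of k)) :=
      show IsProper (I.subschemeι ≫ (X' ↘ (Spec (CommRingCat.of k)))) from inferInstance
    obtain ⟨e0⟩ := PicClLib.nonempty_pullback_structureModule Θ.inv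
    have h1 := Pic13Lib.euler_push (k := k) (inv Θ.inv) (by rw [IsIso.inv_comp_eq]; exact hs.symm)
      (N := Coh.structureModule I.subscheme) QCoh.isQCoh_structureModule
    rw [← h1, ← CurveCohLib.euler_congr (k := k) ((H28.PBAtlas.pullIsoPush Θ.inv).app _),
      CurveCohLib.euler_congr (k := k) e0, SurfAdj.euler_curve_eq k _ (CurveCover.dim_line k).le]
    have hg := CurveCover.genus_line k
    unfold Curv2.genus at hg
    rw [hg]
    norm_num


end Groth.Agent.SurfRows

end
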