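import Groth.Agent.SurfRows.Ruled
import Groth.Agent.Lib.LerayTwoDeg
import Groth.Agent.Lib.CurveDualPrep
import Groth.Agent.Lib.CurveStable
import Groth.Agent.Lib.CurveSSVanish
import Groth.Agent.Lib.CurveAmple
import Groth.Agent.Lib.NumTrivVanish
import Groth.Agent.Lib.SurfAdj
import Groth.Agent.GenDiff29.Basic
import Groth.Agent.TorLib.Basic
import Groth.Agent.CurveBC.Main
import Groth.Agent.CurveTwistBC.Main
import Groth.Agent.S0927
import Groth.Agent.S2385

/-!
Fibrations of smooth projective surfaces over curves: the direct images of the dualizing module.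
-/

set_option autoImplicit false
set_option linter.style.haveILetI false
set_option linter.unusedSectionVars false
set_option backward.isDefEq.respectTransparency false
set_option backward.isDefEq.respectTransparency.types false
set_option maxHeartbeats 1000000

universe u

open CategoryTheory CategoryTheory.Limits AlgebraicGeometry TopologicalSpace Opposite
open Groth.Agent.H23

noncomputable section

namespace Groth.Agent.SurfRows

open Groth.Agent Groth.Agent.CurveBundle Groth.Agent.CurveSlope Groth.Agent.CurveStable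

attribute [local instance] PicMul.clMonoid

/-- A proper closed subset of an irreducible space of dimension at most two. -/
theorem dim_le_one_of_ne_univ {Y : Type*} [TopologicalSpace Y] [IrreducibleSpace Y]
    (h2 : topologicalKrullDim Y ≤ 2) {T : Set Y} (hT : IsClosed T) (hne : T ≠ Set.univ) :
    topologicalKrullDim T ≤ 1 := by
  refine iSup_le fun l => ?_
  have hemb := hT.isClosedEmbedding_subtypeVal
  let top : IrreducibleCloseds Y := ⟨Set.univ, IrreducibleSpace.isIrreducible_univ Y, isClosed_univ⟩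
  let l₁ : LTSeries (IrreducibleCloseds Y) :=
    l.map (IrreducibleCloseds.map _ hemb.continuous) (IrreducibleCloseds.map_strictMono_of_isInducing hemb.isInducing)
  have hlast : l₁.last < top := by
    refine lt_of_le_of_ne (Set.subset_univ _) fun h => hne ?_
    have h3 : ((IrreducibleCloseds.map _ hemb.continuous l.last : IrreducibleCloseds Y) : Set Y) ⊆ T :=
      closure_minimal (by rintro _ ⟨z, -, rfl⟩; exact z.2) hT
    rw [show IrreducibleCloseds.map _ hemb.continuous l.last = top from
      (LTSeries.last_map l _ _).symm.trans h] at h3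
    exact Set.univ_subset_iff.1 h3
  have := (Order.LTSeries.length_le_krullDim (l₁.snoc top hlast)).trans h2
  have hl : l.length + 1 ≤ 2 := by exact_mod_cast this
  exact_mod_cast (show l.length ≤ 1 by omega)

theorem rk_twist {X : Scheme.{u}} [IsIntegral X] {L F : X.Modules} (hL : PicF.IsInvertible L)
    (hF : FlatMod.IsFinLocFree F) : rk (CohB1.tensorMod L F) = rk F := by
  have h1 := InvEnd.isFinLocFreeOfRank_one hL
  exact (CurveDuality.rk_tensor (locFree hL) hF).trans (by rw [rk_eq h1, one_mul])

theorem isFinLocFreeOfRank_twist {X : Scheme.{u}} [IsIntegral X] {L F : X.Modules} (hL : PicF.IsInvertible L)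
    (hF : FlatMod.IsFinLocFree F) : FlatMod.IsFinLocFreeOfRank (rk F) (CohB1.tensorMod L F) := by
  have h : FlatMod.IsFinLocFree ((DCoh.tensorBi.obj L).obj F) := KFlatLib.isFinLocFree_tensor (locFree hL) hF
  have h' := isFinLocFreeOfRank_rk h
  rw [show rk ((DCoh.tensorBi.obj L).obj F) = rk F from rk_twist hL hF] at h'
  exact h'

/-- Bundle ranks are invariant under isomorphisms. -/
theorem isFinLocFreeOfRank_iso {X : Scheme.{u}} {A B : X.Modules} {r : ℕ} (i : A ≅ B)
    (h : FlatMod.IsFinLocFreeOfRank r A) : FlatMod.IsFinLocFreeOfRank r B := fun x => by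
  obtain ⟨U, hx, ⟨j⟩⟩ := h x
  exact ⟨U, hx, ⟨((Scheme.Modules.restrictFunctor U.ι).mapIso i).symm ≪≫ j⟩⟩

theorem rk_tensor_zero (k : Type u) [Field k] {X : Scheme.{u}} [X.Over (Spec (CommRingCat.of k))]
    [IsProper (X ↘ Spec (CommRingCat.of k))] [IsIntegral X] {L F : X.Modules} (hL : PicF.IsInvertible L)
    (hF : Coh.IsCoh F) (h : rk F = 0) : rk (CohB1.tensorMod L F) = 0 := by
  haveI := CurveCohLib.isNoetherian_of_proper (k := k) (X := X)
  letI := (isField_stalk_generic (X := X)).toField
  haveI := finite_stalk_of_coh hF (genericPoint X)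
  haveI : Subsingleton (F.presheaf.stalk (genericPoint X)) := Module.finrank_zero_iff.1 h
  haveI hs : Subsingleton ((DerSch.stalkFunctor X (genericPoint X)).obj F) :=
    ‹Subsingleton (F.presheaf.stalk (genericPoint X))›
  haveI : Subsingleton ((CohB1.tensorMod L F).presheaf.stalk (genericPoint X)) :=
    ((KFlatLib.stalkTensorIso (genericPoint X) L F).symm.toLinearEquiv ≪≫ₗ
      TensorProduct.comm (X.presheaf.stalk (genericPoint X)) _ _).toEquiv.subsingleton
  exact Module.finrank_zero_of_subsingleton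

/-- Tensor products respect isomorphisms. -/
theorem tensor_congr_right {X : Scheme.{u}} (N : X.Modules) {A B : X.Modules} (e : A ≅ B) :
    Nonempty (CohB1.tensorMod N A ≅ CohB1.tensorMod N B) :=
  PicMul.cl_eq_iff.1 (by rw [PicMul.cl_tensor, PicMul.cl_tensor, PicMul.cl_eq_iff.2 ⟨e⟩])

/-- Moving a twist across a monomorphism from the structure module. -/
theorem exists_mono_cancel {X : Scheme.{u}} {N N' E : X.Modules} (hN : PicF.IsInvertible N)
    (h : PicF.cl N * PicF.cl N' = 1) (s : Coh.structureModule X ⟶ CohB1.tensorMod N' E) [Mono s] :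
    ∃ i : N ⟶ E, Mono i := by
  haveI := CurveOnSurf.isEquivalence_tensor hN
  haveI : Mono ((DCoh.tensorBi.obj N).map s) := inferInstance
  obtain ⟨u⟩ : Nonempty (N ≅ (DCoh.tensorBi.obj N).obj (Coh.structureModule X)) :=
    ⟨(PicMul.unit N).some.symm⟩
  obtain ⟨w⟩ : Nonempty ((DCoh.tensorBi.obj N).obj (CohB1.tensorMod N' E) ≅ E) :=
    PicMul.cl_eq_iff.1 (by
      show PicF.cl (CohB1.tensorMod N (CohB1.tensorMod N' E)) = PicF.cl E
      rw [PicMul.cl_tensor, PicMul.cl_tensor, ← mul_assoc, h, one_mul])
  exact ⟨u.hom ≫ (DCoh.tensorBi.obj N).map s ≫ w.hom, inferInstance⟩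

section Curve

variable (k : Type u) [Field k] [IsAlgClosed k] {C : Scheme.{u}} [C.Over (Spec (CommRingCat.of k))]
  [IsProper (C ↘ Spec (CommRingCat.of k))] [Smooth (C ↘ Spec (CommRingCat.of k))] [IsIntegral C]

/-- High negative twists of a bundle have no sections. -/
theorem exists_h0_negtwist (hdimC : topologicalKrullDim C = 1) {A A' E : C.Modules} (hA : PicF.IsInvertible A)
    (hA' : PicF.IsInvertible A') (hAA : PicF.cl A * PicF.cl A' = 1) (hd : 0 < Curv2.deg k C A 1)
    (hE : FlatMod.IsFinLocFree E) : ∃ n₀ : ℕ, ∀ n, n₀ ≤ n →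
      Module.finrank k (Coh.HH C (CohB1.tensorMod (CohB1.tensorPow A' n) E) 0) = 0 := by
  haveI := CurveCohLib.isNoetherian_of_proper (k := k) (X := C)
  refine ⟨((Module.finrank k (Coh.HH C E 0) : ℤ) - Curv2.euler k C (Coh.structureModule C)).toNat + 1,
    fun n hn => ?_⟩
  by_contra hne
  have hAn := PicMul.isInvertible_tensorPow hA n
  have hA'n := PicMul.isInvertible_tensorPow hA' n
  obtain ⟨s, hs⟩ := CurveRR.exists_hom_ne_zero k hne
  have hT : FlatMod.IsFinLocFree (CohB1.tensorMod (CohB1.tensorPow A' n) E) := KFlatLib.isFinLocFree_tensor (locFree hA'n) hE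
  have hO1 := InvEnd.isFinLocFreeOfRank_one (CurveDeg.isInvertible_structureModule (X := C))
  haveI := CurveSection.mono_of_ne_zero k hdimC.le (locFree CurveDeg.isInvertible_structureModule) (rk_eq hO1) hT s hs
  obtain ⟨i, hi⟩ := exists_mono_cancel hAn (N' := CohB1.tensorPow A' n) (E := E) (by
    rw [PicMul.cl_tensorPow, PicMul.cl_tensorPow, ← mul_pow, hAA, one_pow]) s
  haveI := hi
  have h1 := CurveStable.dg_le_h0 k hdimC.le i (CurveDeg.isCoh_of_isInvertible hAn)
    (coh_of_free k hE)
  rw [rk_eq (InvEnd.isFinLocFreeOfRank_one hAn), ← deg_eq_dg k (InvEnd.isFinLocFreeOfRank_one hAn),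
    CurveAmple.deg_tensorPow hdimC hA] at h1
  have hn' : ((Module.finrank k (Coh.HH C E 0) : ℤ) - Curv2.euler k C (Coh.structureModule C)) < n := by omega
  have h3 : (n : ℤ) ≤ n * Curv2.deg k C A 1 := le_mul_of_one_le_right (by positivity) hd
  push_cast at h1
  omega

/-- High negative twists: the sections stabilise, and vanish for bundles. -/
theorem exists_h0_stable (hdimC : topologicalKrullDim C = 1) {A A' R : C.Modules} (hA : PicF.IsInvertible A)
    (hA' : PicF.IsInvertible A') (hAA : PicF.cl A * PicF.cl A' = 1) (hd : 0 < Curv2.deg k C A 1)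
    (hR : Coh.IsCoh R) : ∃ (c n₀ : ℕ), (FlatMod.IsFinLocFree R → c = 0) ∧ ∀ n, n₀ ≤ n →
      Module.finrank k (Coh.HH C (CohB1.tensorMod (CohB1.tensorPow A' n) R) 0) = c := by
  classical
  haveI := CurveCohLib.isNoetherian_of_proper (k := k) (X := C)
  by_cases hlf : FlatMod.IsFinLocFree R
  · obtain ⟨n₀, h⟩ := exists_h0_negtwist k hdimC hA hA' hAA hd hlf
    exact ⟨0, n₀, fun _ => rfl, h⟩
  obtain ⟨P, q, hq, hP, hK, hK0, -⟩ := CurveDuality.exists_torsionFree_quot k hdimC hR
  haveI := hq
  obtain ⟨n₀, hn₀⟩ := exists_h0_negtwist k hdimC hA hA' hAA hd hP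
  refine ⟨(Curv2.euler k C (kernel q)).toNat, n₀, fun h => absurd h hlf, fun n hn => ?_⟩
  have hA'n := PicMul.isInvertible_tensorPow hA' n
  have hA1 := InvEnd.isFinLocFreeOfRank_one hA'n
  have hS := CurveTensor.shortExact_tensor (locFree hA'n) _ _ _ (shortExact_kernel_of_epi q)
  have hKc : Coh.IsCoh (CohB1.tensorMod (CohB1.tensorPow A' n) (kernel q)) :=
    CurveTensor.isCoh_tensor (locFree hA'n) hK
  have hPc : Coh.IsCoh (CohB1.tensorMod (CohB1.tensorPow A' n) P) :=
    CurveTensor.isCoh_tensor (locFree hA'n) (coh_of_free k hP)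
  have hRc : Coh.IsCoh (CohB1.tensorMod (CohB1.tensorPow A' n) R) :=
    CurveTensor.isCoh_tensor (locFree hA'n) hR
  haveI := CurveCohLib.finite_HH (k := k) hPc 0
  haveI hP0 : Subsingleton (Coh.HH C (CohB1.tensorMod (CohB1.tensorPow A' n) P) 0) :=
    Module.finrank_zero_iff.1 (hn₀ n hn)
  have hχ : Curv2.euler k C (CohB1.tensorMod (CohB1.tensorPow A' n) (kernel q)) = Curv2.euler k C (kernel q) := by
    have h := CurveTensor.euler_tensor k hdimC hA1 hK
    rw [hK0] at h
    push_cast at h
    change Curv2.euler k C (CohB1.tensorMod (CohB1.tensorPow A' n) (kernel q)) = _ at h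
    simpa using h
  haveI : Subsingleton (Coh.HH C (CohB1.tensorMod (CohB1.tensorPow A' n) (kernel q)) 1) := by
    refine CurveDuality.subsingleton_HH_of_rk_zero k hdimC hKc ?_ 0
    exact rk_tensor_zero k hA'n hK hK0
  have hK1 := CurveRR.euler_eq_h0_sub_h1 k hdimC.le hKc.1
  rw [Module.finrank_zero_of_subsingleton (R := k)
    (M := Coh.HH C (CohB1.tensorMod (CohB1.tensorPow A' n) (kernel q)) 1), hχ] at hK1
  have hinj := CurveCohLib.mapLin_f_zero_injective (A := k) hS
  have hsur : Function.Surjective (PnCoh.Finite.mapLin k ((DCoh.tensorBi.obj (CohB1.tensorPow A' n)).map (kernel.ι q)) 0) :=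
    fun x => (Euler.range_mapLin_f (k := k) hS 0).ge (LinearMap.mem_ker.2 (@Subsingleton.elim _ hP0 _ _))
  have e := (LinearEquiv.ofBijective _ ⟨hinj, hsur⟩).finrank_eq
  change Module.finrank k (Coh.HH C (CohB1.tensorMod (CohB1.tensorPow A' n) (kernel q)) 0) =
    Module.finrank k (Coh.HH C (CohB1.tensorMod (CohB1.tensorPow A' n) R) 0) at e
  omega

end Curve

variable (k : Type u) [Field k] [IsAlgClosed k]
  {S : Scheme.{u}} [S.Over (Spec (CommRingCat.of k))] [IsProper (S ↘ Spec (CommRingCat.of k))]
  [Smooth (S ↘ Spec (CommRingCat.of k))] [IsIntegral S]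
  {C : Scheme.{u}} [C.Over (Spec (CommRingCat.of k))] [IsProper (C ↘ Spec (CommRingCat.of k))]
  [Smooth (C ↘ Spec (CommRingCat.of k))] [IsIntegral C]
  (f : S ⟶ C) [f.IsOver (Spec (CommRingCat.of k))] [Surjective f]
  (hdim : topologicalKrullDim S = 2) (hdimC : topologicalKrullDim C = 1)

include k hdimC in
/-- Dominance. -/
theorem fibration_dominant : IsDominant f := ⟨f.surjective.denseRange⟩

include k hdim hdimC in
/-- Closed fibres are at most one-dimensional. -/
theorem closedFibre_dim (c : C) (hc : IsClosed ({c} : Set C)) : topologicalKrullDim (f.fiber c) ≤ 1 := by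
  haveI : IsClosedImmersion (C.fromSpecResidueField c) :=
    IsClosedImmersion.of_isPreimmersion _ (by rw [Scheme.range_fromSpecResidueField]; exact hc)
  haveI : IsClosedImmersion (f.fiberι c) := MorphismProperty.pullback_fst _ _ inferInstance
  rw [IsHomeomorph.topologicalKrullDim_eq _ ((f.fiberι c).isEmbedding.toHomeomorph).isHomeomorph]
  refine dim_le_one_of_ne_univ hdim.le (f.fiberι c).isClosedEmbedding.isClosed_range fun hu => ?_
  obtain ⟨d, hd, hdc⟩ := CurveTwist.exists_closed_notMem k hdimC (Z := ({c} : Set C)) (Set.finite_singleton c)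
  obtain ⟨x, hx⟩ := f.surjective d
  obtain ⟨z, rfl⟩ : x ∈ Set.range (f.fiberι c) := hu.symm ▸ Set.mem_univ x
  have hz : f.fiberι c z ∈ Set.range (f.fiberι c) := ⟨z, rfl⟩
  rw [f.range_fiberι] at hz
  exact hdc (hx.symm.trans hz)

include k hdim hdimC in
/-- No cohomology above degree one on any fibre. -/
theorem fibration_fibre_vanish {F : S.Modules} (hF : PicF.IsInvertible F) (y : C) (p : ℕ) (hp : 2 ≤ p) :
    Subsingleton (CohIII.fiberH f F y p) := by
  obtain ⟨hpr, hfl, hlfp, hln⟩ := fibred_morphism k f hdimC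
  haveI := hpr; haveI := hfl; haveI := hlfp; haveI := hln
  haveI : HasInjectiveResolutions S.Modules := KFlatLib.hasInjectiveResolutions_modules
  obtain ⟨c, hyc, hc⟩ := exists_closed_spec k y
  haveI : Subsingleton (CohIII.fiberH f F c p) :=
    CohPullX.subsingleton_fiberH_of_dim c 1 (by exact_mod_cast closedFibre_dim k f hdim hdimC c hc) p (by omega)
  have hopen := KFlatLib.FibreEuler.isOpen_fiberRank_lt (f := f) (QCoh.isFP_of_isFinLocFree
    (locFree hF)) (H28.FlatPr.isFlatOver_of_isFinLocFree f (locFree hF)) p 1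
  have hy1 : CohIII.fiberRank f F p y < 1 :=
    hyc.mem_open hopen (show CohIII.fiberRank f F p c < 1 by
      rw [show CohIII.fiberRank f F p c = 0 from Module.finrank_zero_of_subsingleton]
      exact one_pos)
  haveI : IsProper (f.fiberToSpecResidueField y) := MorphismProperty.pullback_snd _ _ inferInstance
  letI : (f.fiber y).Over (Spec (CommRingCat.of ↥(C.residueField y))) := ⟨f.fiberToSpecResidueField y⟩
  haveI : IsProper (f.fiber y ↘ Spec (CommRingCat.of ↥(C.residueField y))) :=
    ‹IsProper (f.fiberToSpecResidueField y)›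
  haveI : IsLocallyNoetherian (f.fiber y) :=
    LocallyOfFiniteType.isLocallyNoetherian (f.fiberToSpecResidueField y)
  haveI : Module.Finite (C.residueField y) (CohIII.fiberH f F y p) :=
    CurveCohLib.finite_HH (k := ↥(C.residueField y))
      (CurveDeg.isCoh_of_isInvertible (PicClLib.isInvertible_pullback (f.fiberι y) hF)) p
  exact Module.finrank_zero_iff.1 (Nat.lt_one_iff.1 hy1)

variable [HasInjectiveResolutions S.Modules]

include k hdim hdimC in
/-- No direct images above degree one. -/
theorem fibration_Rpush {F : S.Modules} (hF : PicF.IsInvertible F) (p : ℕ) (hp : 2 ≤ p) :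
    IsZero ((Coh.Rpush f p).obj F) := by
  obtain ⟨hpr, hfl, hlfp, hln⟩ := fibred_morphism k f hdimC
  haveI := hpr; haveI := hfl; haveI := hlfp; haveI := hln
  haveI := CurveCohLib.isNoetherian_of_proper (k := k) (X := S)
  refine H28.PBAtlas.isZero_of_restrict _ fun y => ?_
  obtain ⟨U, hyU, hU⟩ := S2385.result f F (CurveDeg.isCoh_of_isInvertible hF)
    (H28.FlatPr.isFlatOver_of_isFinLocFree f (locFree hF)) y p (fibration_fibre_vanish k f hdim hdimC hF y p hp)
  exact ⟨U, hyU, hU.of_iso ((Scheme.Modules.restrictFunctorIsoPullback U.ι).app _).symm⟩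

include hdim hdimC in
/-- Leray. -/
theorem fibration_leray {F : S.Modules} (hF : PicF.IsInvertible F) :
    Module.finrank k (Coh.HH S F 0) = Module.finrank k (Coh.HH C ((Coh.push f).obj F) 0) ∧
    Module.finrank k (Coh.HH S F 1) = Module.finrank k (Coh.HH C ((Coh.push f).obj F) 1) +
      Module.finrank k (Coh.HH C ((Coh.Rpush f 1).obj F) 0) ∧
    Module.finrank k (Coh.HH S F 2) = Module.finrank k (Coh.HH C ((Coh.Rpush f 1).obj F) 1) ∧
    (∀ j, 3 ≤ j → Subsingleton (Coh.HH S F j)) ∧
    Curv2.euler k S F = Curv2.euler k C ((Coh.push f).obj F) - Curv2.euler k C ((Coh.Rpush f 1).obj F) := by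
  haveI := CurveCohLib.isNoetherian_of_proper (k := k) (X := S)
  exact LerayTwoDeg.finrank_all k f (comp_over f _) (CurveDeg.isCoh_of_isInvertible hF)
    (fibration_Rpush k f hdim hdimC hF) fun N hN j hj => by
      obtain ⟨n, rfl⟩ := Nat.exists_eq_add_of_le' hj
      exact CurveVanish.subsingleton_HH_curve k hdimC.le hN n

/-- The projection formula for the first direct image. -/
theorem fibration_projection_one {N : C.Modules} (hN : PicF.IsInvertible N) :
    Nonempty (CohB1.tensorMod N ((Coh.Rpush f 1).obj (Coh.structureModule S)) ≅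
      (Coh.Rpush f 1).obj ((Scheme.Modules.pullback f).obj N)) := by
  obtain ⟨e⟩ := S0927.result f (Coh.structureModule S) N (locFree hN) 1
  exact ⟨e ≪≫ (Coh.Rpush f 1).mapIso (KFlatLib.tensorUnitIso ((Scheme.Modules.pullback f).obj N))⟩

/-- The projection formula. -/
theorem fibration_projection {N : C.Modules} (hN : PicF.IsInvertible N) (L : S.Modules) :
    Nonempty (CohB1.tensorMod N ((Coh.push f).obj L) ≅
      (Coh.push f).obj (CohB1.tensorMod ((Scheme.Modules.pullback f).obj N) L)) := by
  haveI := SpObjSS.enoughInjectives_of_hasInjectiveResolutions (C := S.Modules)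
  haveI := QCoh.preservesFiniteLimits_push f
  obtain ⟨e⟩ := S0927.result f L N (locFree hN) 0
  let a : (Coh.push f).obj L ≅ (Coh.Rpush f 0).obj L :=
    ((Scheme.Modules.pushforward f).rightDerivedZeroIsoSelf.app L).symm
  let b : (Coh.Rpush f 0).obj (CohB1.tensorMod ((Scheme.Modules.pullback f).obj N) L) ≅
      (Coh.push f).obj (CohB1.tensorMod ((Scheme.Modules.pullback f).obj N) L) :=
    (Scheme.Modules.pushforward f).rightDerivedZeroIsoSelf.app _
  obtain ⟨c⟩ := tensor_congr_right N a
  exact ⟨c.trans (e.trans b)⟩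

variable (hconn : IsIso (ClSub.unitToPush f))

include hconn in
/-- The direct image of a pullback. -/
theorem fibration_push_pullback {N : C.Modules} (hN : PicF.IsInvertible N) :
    Nonempty ((Coh.push f).obj ((Scheme.Modules.pullback f).obj N) ≅ N) := by
  obtain ⟨e⟩ := GenFinPush.nonempty_projection f (locFree hN)
  let a : (Scheme.Modules.pushforward f).obj (Coh.structureModule S) ≅ Coh.structureModule C :=
    (@asIso _ _ _ _ _ hconn).symm
  obtain ⟨u⟩ : Nonempty (CohB1.tensorMod ((Scheme.Modules.pushforward f).obj (Coh.structureModule S)) N ≅ N) :=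
    PicMul.cl_eq_iff.1 (by rw [PicMul.cl_tensor, PicMul.cl_eq_iff.2 ⟨a⟩, ← PicMul.one_def, one_mul])
  exact ⟨e.symm.trans u⟩

variable (p : C) (hp : IsClosed ({p} : Set C)) (g : ℕ)
  (hg : Curv2.euler k S (ClSub.quotMod (f.fiberι p).ker) = 1 - (g : ℤ))

include k hdim hdimC in
theorem isCoh_R1 : Coh.IsCoh ((Coh.Rpush f 1).obj (Coh.structureModule S)) := by
  obtain ⟨hpr, hfl, hlfp, hln⟩ := fibred_morphism k f hdimC
  haveI := hpr; haveI := hln
  haveI := CurveCohLib.isNoetherian_of_proper (k := k) (X := S)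
  exact QCoh.isCoh_Rpush_of_finiteness f QCoh.isCoh_structureModule' 1 S0002.result

include hdim hdimC hconn in
/-- Euler characteristic of a pullback. -/
theorem fibration_euler_pullback {N : C.Modules} (hN : PicF.IsInvertible N) :
    Curv2.euler k S ((Scheme.Modules.pullback f).obj N) =
      (Curv2.deg k C N 1 + Curv2.euler k C (Coh.structureModule C)) -
        ((rk ((Coh.Rpush f 1).obj (Coh.structureModule S)) : ℤ) * Curv2.deg k C N 1 +
          Curv2.euler k C ((Coh.Rpush f 1).obj (Coh.structureModule S))) := by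
  obtain ⟨-, -, -, -, h⟩ := fibration_leray k f hdim hdimC (PicClLib.isInvertible_pullback f hN)
  obtain ⟨e⟩ := fibration_push_pullback f hconn hN
  obtain ⟨e'⟩ := fibration_projection_one f hN
  have ht := CurveTensor.euler_tensor k hdimC (InvEnd.isFinLocFreeOfRank_one hN) (isCoh_R1 k f hdim hdimC)
  change Curv2.euler k C (CohB1.tensorMod N ((Coh.Rpush f 1).obj (Coh.structureModule S))) = _ at ht
  rw [h, Euler.euler_congr k e, ← Euler.euler_congr k e', ht]
  unfold Curv2.deg
  push_cast
  ring

include hdim hdimC hconn hp hg in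
/-- The first direct image of the structure module has the genus of the fibre as rank. -/
theorem fibration_rk_R1 : rk ((Coh.Rpush f 1).obj (Coh.structureModule S)) = g := by
  obtain ⟨hpr, hfl, hlfp, hln⟩ := fibred_morphism k f hdimC
  haveI := hpr; haveI := hfl; haveI := hln
  haveI := CurveCohLib.isNoetherian_of_proper (k := k) (X := C)
  haveI := CurveCohLib.isNoetherian_of_proper (k := k) (X := S)
  haveI : IsClosedImmersion (C.fromSpecResidueField p) :=
    IsClosedImmersion.of_isPreimmersion _ (by rw [Scheme.range_fromSpecResidueField]; exact hp)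
  have hk : (f.fiberι p).ker = (Scheme.IdealSheafData.vanishingIdeal ⟨{p}, hp⟩).comap f := by
    rw [show Scheme.IdealSheafData.vanishingIdeal ⟨{p}, hp⟩ = (C.fromSpecResidueField p).ker from
      (S7837.ker_fromSpecResidueField C p hp).symm]
    exact Scheme.IdealSheafData.ker_fst_of_isClosedImmersion (C.fromSpecResidueField p) f
  have hn : IsIntegrallyClosed (C.presheaf.stalk p) := by
    haveI := GrpSchLib.isRegularLocalRing_stalk_of_smooth (C ↘ Spec (CommRingCat.of k)) p
    exact RegLoc6.isIntegrallyClosed_of_isRegularLocalRing _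
  have hIF := (fibre_facts k hdim hdimC f p hp).1
  obtain ⟨e⟩ := H26.InterDiv.nonempty_pullback_idealMod f _ (CurveEmbed.isEffCartier_point k hdimC hp hn) hIF
  have hd : Curv2.deg k C (CurvePoint.ptMod p hp) 1 = -1 := by
    rw [CurveEmbed.deg_point k hp]
    letI := Curv2.resAlgebra k C p
    rw [← (LinearEquiv.ofBijective (Algebra.linearMap k (C.residueField p))
      ⟨(Curv2.resMap k C p).injective, CurveSection.surjective_resMap k hp⟩).finrank_eq, Module.finrank_self]
    norm_num
  have hNi : PicF.IsInvertible (CurvePoint.ptMod p hp) := CurvePoint.isInvertible_ptMod p hp k hdimC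
  have h1 := fibration_euler_pullback k f hdim hdimC hconn hNi
  have h2 := fibration_euler_pullback k f hdim hdimC hconn (CurveDeg.isInvertible_structureModule (X := C))
  rw [Euler.euler_congr k (show (Scheme.Modules.pullback f).obj (CurvePoint.ptMod p hp) ≅ _ from e), hd] at h1
  obtain ⟨u⟩ := PicClLib.nonempty_pullback_structureModule f
  rw [Euler.euler_congr k u, CurveDeg.deg_structureModule] at h2
  have hc : ∀ I : S.IdealSheafData, PicF.IsInvertible (ClSub.idealMod I) →
      Curv2.euler k S (Coh.structureModule S) = Curv2.euler k S (ClSub.idealMod I) + Curv2.euler k S (ClSub.quotMod I) :=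
    fun I hI => by
      exact CurveBundle.euler_add' k _ _ _ (DivisorExt.ideal_shortExact I)
        (CurveDeg.isCoh_of_isInvertible hI) QCoh.isCoh_structureModule' (ParShLib.isCoh_quotMod I)
  have h3 := hc _ ((S8914.result _).2 hIF)
  rw [← hk] at h1 h3
  rw [hg] at h3
  omega

variable {W : S.Modules} (hW : ExtPow.IsExtPow 2 (Omega.sheaf (S ↘ Spec (CommRingCat.of k))) W)

include hdim hdimC hW in
/-- Serre duality through the fibration. -/
theorem fibration_duality {N N' : C.Modules} (hN : PicF.IsInvertible N) (hN' : PicF.IsInvertible N')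
    (h : PicF.cl N' * PicF.cl N = 1) :
    Module.finrank k (Coh.HH C (CohB1.tensorMod N ((Coh.push f).obj W)) 0) =
      Module.finrank k (Coh.HH C (CohB1.tensorMod N' ((Coh.Rpush f 1).obj (Coh.structureModule S))) 1) := by
  haveI := CurveCohLib.isNoetherian_of_proper (k := k) (X := S)
  have hL := PicClLib.isInvertible_pullback f hN'
  have hcl : PicF.cl ((Scheme.Modules.pullback f).obj N') * PicF.cl ((Scheme.Modules.pullback f).obj N) = 1 := by
    have h2 := congrArg (PicMul.pullHom f) h
    rw [map_mul, map_one] at h2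
    exact h2
  obtain ⟨H, hH⟩ := SurfAdj.exists_ample k hdim
  haveI := CurveFin.smoothOfRelativeDimension_of_dim (f := S ↘ Spec (CommRingCat.of k)) (d := 2) hdim
  obtain ⟨n, ι, hi, hι⟩ := AmpleEmbed.exists_closedImmersion (S ↘ Spec (CommRingCat.of k)) hH
  haveI := hi
  have h1 := SmoothDuality.finrank_dual ι hι hW hL hcl 2 le_rfl
  obtain ⟨e⟩ := fibration_projection f hN W
  obtain ⟨e'⟩ := fibration_projection_one f hN'
  obtain ⟨-, -, h2, -, -⟩ := fibration_leray k f hdim hdimC hL
  rw [(CurveCohLib.hhEquiv (k := k) e 0).finrank_eq, (CurveCohLib.hhEquiv (k := k) e' 1).finrank_eq, ← h2, ← h1]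
  exact (GenFinPush.finrank_h0_push k f (comp_over f _) _).symm

include k hdimC in
/-- Direct images of invertible modules are bundles. -/
theorem fibration_push_locFree {L : S.Modules} (hL : PicF.IsInvertible L) :
    Coh.IsCoh ((Coh.push f).obj L) ∧ FlatMod.IsFinLocFree ((Coh.push f).obj L) := by
  obtain ⟨hpr, hfl, hlfp, hln⟩ := fibred_morphism k f hdimC
  haveI := hpr; haveI := hln
  haveI := fibration_dominant k f hdimC
  haveI := CurveCohLib.isNoetherian_of_proper (k := k) (X := S)
  have hc : Coh.IsCoh ((Coh.push f).obj L) :=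
    ExistEasy.isCoh_pushforward_proper f (CurveDeg.isCoh_of_isInvertible hL)
  have ht := TorLib.isTorsionFree_pushforward f (GenDiff29.isTorsionFree_of_isFinLocFree (locFree hL))
  refine ⟨hc, QCoh.isFinLocFree_iff.2 ⟨QCoh.isCoh_iff_isFP.1 hc, fun x => ?_⟩⟩
  haveI := isPrincipalIdealRing_stalk k hdimC.le x
  haveI := finite_stalk_of_coh hc x
  haveI := ht x
  exact Module.free_of_finite_type_torsion_free'

include hdim hdimC hconn hp hg hW in
/-- The direct image of the canonical module. -/
theorem fibration_canonical :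
    FlatMod.IsFinLocFree ((Coh.push f).obj W) ∧ rk ((Coh.push f).obj W) = g ∧
      (FlatMod.IsFinLocFree ((Coh.Rpush f 1).obj (Coh.structureModule S)) →
        Curv2.euler k C ((Coh.push f).obj W) =
          Curv2.euler k S (Coh.structureModule S) - Curv2.euler k C (Coh.structureModule C)) := by
  haveI := CurveCohLib.isNoetherian_of_proper (k := k) (X := C)
  obtain ⟨hP, hPf⟩ := fibration_push_locFree k f hdimC (SurfAdj.isInvertible_W k hdim hW)
  refine ⟨hPf, ?_⟩
  have hR := isCoh_R1 k f hdim hdimC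
  obtain ⟨D, hD, hdD⟩ := CurveTwist.exists_isInvertible_deg k hdimC 1
  have hA : CohB1.IsAmple D := CurveAmple.isAmple_of_deg_pos (k := k) hdimC hD (by omega)
  obtain ⟨D', hD', -, ⟨e⟩⟩ := CurveDuality.exists_inverse_deg k hdimC hD
  have hDD : PicF.cl D * PicF.cl D' = 1 := PicMul.cl_eq_iff.2 ⟨e⟩
  have hdD' : Curv2.deg k C D' 1 = -1 := by
    have h := CurveRR.deg_tensor k hdimC hD hD'
    rw [CurveRR.deg_congr k e, CurveDeg.deg_structureModule] at h
    omega
  obtain ⟨c, n₀, hc0, hc⟩ := exists_h0_stable k hdimC hD hD' hDD (by omega) hR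
  obtain ⟨m₀, hm⟩ := NumTrivTw.exists_vanishing k hA hP
  have hstep : ∀ n, n₀ ≤ n → m₀ ≤ n →
      (rk ((Coh.push f).obj W) : ℤ) * n + Curv2.euler k C ((Coh.push f).obj W) =
        c + (g : ℤ) * n - Curv2.euler k C ((Coh.Rpush f 1).obj (Coh.structureModule S)) := fun n hn hn' => by
    have hN := PicMul.isInvertible_tensorPow hD n
    have hN' := PicMul.isInvertible_tensorPow hD' n
    have hd := fibration_duality k f hdim hdimC hW hN hN' (by
      rw [PicMul.cl_tensorPow, PicMul.cl_tensorPow, ← mul_pow, mul_comm, hDD, one_pow])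
    have hNT : Pic13Lib.NumTriv.IsNT k (Coh.structureModule C) := Pic13Lib.NumTriv.isNT_one k
    haveI : Subsingleton (Coh.HH C (CohB1.tensorMod (CohB1.tensorPow D n) ((Coh.push f).obj W)) 1) := by
      obtain ⟨u⟩ : Nonempty (CohB1.tensorMod (CohB1.tensorMod ((Coh.push f).obj W) (CohB1.tensorPow D n))
          (Coh.structureModule C) ≅ CohB1.tensorMod (CohB1.tensorPow D n) ((Coh.push f).obj W)) :=
        PicMul.cl_eq_iff.1 (by
          rw [PicMul.cl_tensor, PicMul.cl_tensor, PicMul.cl_tensor, ← PicMul.one_def, mul_one, mul_comm])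
      exact QCoh.subsingleton_HH_of_iso u 1 (hm n hn' _ hNT 0)
    have h1 := CurveTensor.euler_tensor k hdimC (InvEnd.isFinLocFreeOfRank_one hN) hP
    have h2 := CurveTensor.euler_tensor k hdimC (InvEnd.isFinLocFreeOfRank_one hN') hR
    have hP' := CurveTensor.isCoh_tensor (locFree hN) hP
    have hR' := CurveTensor.isCoh_tensor (locFree hN') hR
    change Curv2.euler k C (CohB1.tensorMod (CohB1.tensorPow D n) ((Coh.push f).obj W)) = _ at h1
    change Curv2.euler k C (CohB1.tensorMod (CohB1.tensorPow D' n) _) = _ at h2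
    rw [CurveRR.euler_eq_h0_sub_h1 k hdimC.le
      (show Coh.IsQCoh (CohB1.tensorMod (CohB1.tensorPow D n) ((Coh.push f).obj W)) from hP'.1),
      Module.finrank_zero_of_subsingleton (R := k)
        (M := Coh.HH C (CohB1.tensorMod (CohB1.tensorPow D n) ((Coh.push f).obj W)) 1),
      CurveAmple.deg_tensorPow hdimC hD, hdD] at h1
    rw [CurveRR.euler_eq_h0_sub_h1 k hdimC.le (show Coh.IsQCoh (CohB1.tensorMod (CohB1.tensorPow D' n) _) from hR'.1), CurveAmple.deg_tensorPow hdimC hD', hdD',
      fibration_rk_R1 k f hdim hdimC hconn p hp g hg] at h2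
    rw [hd] at h1
    rw [hc n hn] at h2
    push_cast at h1 h2
    linarith
  have a := hstep (n₀ + m₀) (by omega) (by omega)
  have b := hstep (n₀ + m₀ + 1) (by omega) (by omega)
  push_cast at a b
  have hr : (rk ((Coh.push f).obj W) : ℤ) = g := by linarith
  refine ⟨by exact_mod_cast hr, fun hlf => ?_⟩
  have h0 := fibration_euler_pullback k f hdim hdimC hconn (CurveDeg.isInvertible_structureModule (X := C))
  obtain ⟨u⟩ := PicClLib.nonempty_pullback_structureModule f
  rw [Euler.euler_congr k u, CurveDeg.deg_structureModule] at h0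
  rw [hc0 hlf] at a
  rw [hr] at a
  push_cast at a
  linarith

include hdim hdimC hconn hp hg hW in
/-- The direct image of the relative canonical module. -/
theorem fibration_relative {M : S.Modules}
    (hM : ClSub.IsInverseOf M ((Scheme.Modules.pullback f).obj (Omega.sheaf (C ↘ Spec (CommRingCat.of k))))) :
    FlatMod.IsFinLocFreeOfRank g ((Coh.push f).obj (CohB1.tensorMod W M)) ∧
      (FlatMod.IsFinLocFree ((Coh.Rpush f 1).obj (Coh.structureModule S)) →
        Curv2.euler k C ((Coh.push f).obj (CohB1.tensorMod W M)) - (g : ℤ) * Curv2.euler k C (Coh.structureModule C) =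
          Curv2.euler k S (Coh.structureModule S) - ((Curv2.genus k C : ℤ) - 1) * ((g : ℤ) - 1)) := by
  haveI := CurveCohLib.isNoetherian_of_proper (k := k) (X := C)
  obtain ⟨hPf, hr, hχ⟩ := fibration_canonical k f hdim hdimC hconn p hp g hg hW
  have h0 := SurfAdj.finrank_h0 k C
  have hΩ := CurveBC.isInvertible_omega k C hdimC h0
  obtain ⟨-, hdΩ⟩ := CurveBC.canonical_invariants k C hdimC h0
  obtain ⟨D, hD, hdD, ⟨e⟩⟩ := CurveDuality.exists_inverse_deg k hdimC hΩ
  have hcl : PicF.cl (Omega.sheaf (C ↘ Spec (CommRingCat.of k))) * PicF.cl D = 1 := PicMul.cl_eq_iff.2 ⟨e⟩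
  have hMcl : PicF.cl M = PicF.cl ((Scheme.Modules.pullback f).obj D) := by
    have h2 := congrArg (PicMul.pullHom f) hcl
    rw [map_mul, map_one] at h2
    exact left_inv_eq_right_inv (PicMul.cl_eq_iff.2 hM) h2
  obtain ⟨m⟩ : Nonempty (CohB1.tensorMod ((Scheme.Modules.pullback f).obj D) W ≅ CohB1.tensorMod W M) :=
    PicMul.cl_eq_iff.1 (by rw [PicMul.cl_tensor, PicMul.cl_tensor, hMcl, mul_comm])
  obtain ⟨e'⟩ := fibration_projection f hD W
  have hTr := isFinLocFreeOfRank_twist hD hPf
  rw [hr] at hTr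
  refine ⟨isFinLocFreeOfRank_iso ((Coh.push f).mapIso m) (isFinLocFreeOfRank_iso e' hTr), fun hlf => ?_⟩
  have h1 := CurveTensor.euler_tensor k hdimC (InvEnd.isFinLocFreeOfRank_one hD) (coh_of_free k hPf)
  rw [← Euler.euler_congr k ((Coh.push f).mapIso m), ← Euler.euler_congr k e']
  change Curv2.euler k C (CohB1.tensorMod D ((Coh.push f).obj W)) = _ at h1
  rw [h1, hr, hχ hlf, hdD, hdΩ, CurveRR.euler_structureModule k hdimC.le]
  push_cast
  ring

end Groth.Agent.SurfRows
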