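import Groth.Agent.R1Push.Main
import Groth.Agent.S1525
import Groth.Agent.CurveCohLib.Proper
import Groth.Agent.SchTop.Closed
import Groth.Agent.QCoh.RpushAbGod
import Groth.Agent.SurfRows.Fibration

/-!
The first direct image of a modification of a normal surface through Euler characteristics.
-/

set_option autoImplicit false
set_option linter.style.haveILetI false
set_option linter.unusedSectionVars false
set_option backward.isDefEq.respectTransparency false
set_option backward.isDefEq.respectTransparency.types false
set_option maxHeartbeats 1000000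

universe u

open CategoryTheory CategoryTheory.Limits AlgebraicGeometry TopologicalSpace Opposite

noncomputable section

namespace Groth.Agent.SurfRows

open Groth.Agent

/-- Higher abelian direct images vanish when the module ones do. -/
theorem isZero_RpushAb_iff {X Y : Scheme.{u}} (f : X ⟶ Y) [QuasiCompact f] [QuasiSeparated f]
    [HasInjectiveResolutions X.Modules] {M : X.Modules} (hM : Coh.IsQCoh M) (n : ℕ) :
    IsZero ((Coh.RpushAb f (n + 1)).obj (Coh.toAb M)) ↔ IsZero ((Coh.Rpush f (n + 1)).obj M) := by
  obtain ⟨e₁⟩ := QCoh.nonempty_RpushAb_iso f M n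
  obtain ⟨e₂⟩ := QCoh.nonempty_Rpush_iso f M n
  refine ⟨fun h => ?_, fun h => ?_⟩
  · have h' : IsZero (Coh.toAb (QCoh.rpushModel f M n)) := h.of_iso e₁.symm
    refine IsZero.of_iso ?_ e₂
    rw [IsZero.iff_id_eq_zero] at h' ⊢
    exact (SheafOfModules.toSheaf Y.ringCatSheaf).map_injective (by
      rw [CategoryTheory.Functor.map_id, Functor.map_zero]; exact h')
  · exact (Functor.map_isZero (QCoh.toAbFunctor Y) (h.of_iso e₂.symm)).of_iso e₁

/-- For a modification of a normal surface, the first direct image of the functions vanishes exactly when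
the Euler characteristics of the functions agree. -/
theorem R1_zero_iff_euler (k : Type u) [Field k] {S X : Scheme.{u}} [S.Over (Spec (CommRingCat.of k))]
    [X.Over (Spec (CommRingCat.of k))] [IsProper (X ↘ Spec (CommRingCat.of k))] [IsIntegral X] [IsIntegral S]
    (hdimX : topologicalKrullDim X = 2) (hnorm : Pi1.IsNormalScheme X)
    (π : S ⟶ X) [IsProper π] (hπ : π ≫ (X ↘ Spec (CommRingCat.of k)) = S ↘ Spec (CommRingCat.of k))
    (U : X.Opens) (hU : (U : Set X).Nonempty) [IsIso (π ∣_ U)] :
    IsZero ((Coh.RpushAb π 1).obj (Coh.toAb (Coh.structureModule S))) ↔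
      Curv2.euler k S (Coh.structureModule S) = Curv2.euler k X (Coh.structureModule X) := by
  haveI : IsProper (S ↘ Spec (CommRingCat.of k)) := by rw [← hπ]; infer_instance
  haveI := CurveCohLib.isNoetherian_of_proper (k := k) (X := S)
  haveI := CurveCohLib.isNoetherian_of_proper (k := k) (X := X)
  haveI : HasInjectiveResolutions S.Modules := KFlatLib.hasInjectiveResolutions_modules
  have hgen := H26.BiratFibre.apply_genericPoint_eq π hU
  have hxU : genericPoint S ∈ π ⁻¹ᵁ U := by
    show π (genericPoint S) ∈ U
    rw [hgen]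
    exact ((genericPoint_spec X).mem_open_set_iff U.2).2 (by simpa using hU)
  have hbir : IsIso (π.stalkMap (genericPoint S)) :=
    (MorphismProperty.isomorphisms CommRingCat).arrow_mk_iso_iff
      (morphismRestrictStalkMap π U ⟨genericPoint S, hxU⟩) |>.1 (inferInstanceAs (IsIso _))
  have hd : ∀ x : X, ringKrullDim (X.presheaf.stalk x) ≤ 2 := fun x =>
    (SchTop.ringKrullDim_stalk_le x).trans hdimX.le
  obtain ⟨-, -, hpt⟩ := R1Push.support_Rpush_one hnorm hd π hbir
  set R1 := (Coh.Rpush π 1).obj (Coh.structureModule S) with hR1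
  have hO : Coh.IsCoh (Coh.structureModule S) := CurveDeg.isCoh_of_isInvertible InvX.isInvertible_structureModule
  have hR : Coh.IsCoh R1 := QCoh.isCoh_Rpush_of_finiteness π hO 1 S0002.result
  have hsupp : ∀ x ∈ CohB1.support R1, IsClosed ({x} : Set X) := fun x hx =>
    hpt x (not_subsingleton_iff_nontrivial.1 hx)
  have hfd : ∀ y : X, topologicalKrullDim ↥(π.fiber y) ≤ (1 : ℕ) :=
    RelPC17.BirFibre.fibre_dim_le_one π (by exact_mod_cast hdimX.le) U hU
  have hhigh : ∀ i : ℕ, 2 ≤ i → IsZero ((Coh.Rpush π i).obj (Coh.structureModule S)) := fun i hi => by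
    obtain ⟨j, rfl⟩ := Nat.exists_eq_add_of_le' (le_trans one_le_two hi)
    exact (isZero_RpushAb_iff π hO.1 j).1
      (RelPC17.HighVanish.isZero_RpushAb_noetherian π 1 hfd hO.1 (j + 1) (by omega))
  haveI hu : IsIso (ClSub.unitToPush π) := Scheme.Modules.Hom.isIso_iff_isIso_app.2 fun W => by
    rw [ConcreteCategory.isIso_iff_bijective]
    exact H26.Contract.bijective_app π hU hnorm W
  let e0 : (Coh.Rpush π 0).obj (Coh.structureModule S) ≅ Coh.structureModule X :=
    (Scheme.Modules.pushforward π).rightDerivedZeroIsoSelf.app _ ≪≫ (asIso (ClSub.unitToPush π)).symm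
  have hsum := S1525.result k X S π hπ (Coh.structureModule S) hO
  rw [finsum_eq_sum_of_support_subset (s := Finset.range 2) _ (fun i hi => by
    simp only [Finset.coe_range, Set.mem_Iio]
    by_contra h2
    exact hi (show _ * _ = _ by rw [CurveSlope.euler_eq_zero_of_isZero (k := k) (hhigh i (by omega)), mul_zero]))] at hsum
  simp only [Finset.sum_range_succ, Finset.sum_range_zero, pow_zero, pow_one, one_mul, neg_one_mul, zero_add] at hsum
  rw [Euler.euler_congr k e0] at hsum
  rw [isZero_RpushAb_iff π hO.1 0, hsum]
  constructor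
  · intro h
    rw [CurveSlope.euler_eq_zero_of_isZero (k := k) h]
    ring
  · intro h
    exact CurveCohLib.isZero_of_euler_eq_zero (k := k) hR hsupp (by linarith)

end Groth.Agent.SurfRows
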