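import Groth.Agent.SurfRows.Fibration
import Groth.Agent.SteinConn.Basic
import Groth.Agent.CurveCover.FamilyH0
import Groth.Agent.H26.H0Glob
import Groth.Agent.S10831

/-!
Semi-stable fibrations: the first direct image of the structure module is locally free.
-/

set_option autoImplicit false
set_option linter.style.haveILetI false
set_option linter.unusedSectionVars false
set_option backward.isDefEq.respectTransparency false
set_option backward.isDefEq.respectTransparency.types false
set_option maxHeartbeats 1000000

universe u

open CategoryTheory CategoryTheory.Limits AlgebraicGeometry TopologicalSpace Opposite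
open Groth.Agent.H23

noncomputable section

namespace Groth.Agent.SurfRows

open Groth.Agent

variable (k : Type u) [Field k] [IsAlgClosed k]
  {S : Scheme.{u}} [S.Over (Spec (CommRingCat.of k))] [IsProper (S ↘ Spec (CommRingCat.of k))]
  [Smooth (S ↘ Spec (CommRingCat.of k))] [IsIntegral S]
  {C : Scheme.{u}} [C.Over (Spec (CommRingCat.of k))] [IsProper (C ↘ Spec (CommRingCat.of k))]
  [Smooth (C ↘ Spec (CommRingCat.of k))] [IsIntegral C]
  (f : S ⟶ C) [f.IsOver (Spec (CommRingCat.of k))] [Surjective f]
  (hdimC : topologicalKrullDim C = 1) (hconn : IsIso (ClSub.unitToPush f)) (hss : Curv2.IsNodalFamily f)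

include hss in
theorem nodal_fibre_dim (s : C) : topologicalKrullDim (f.fiber s) ≤ 1 := by
  rw [S10831.result]
  exact iSup₂_le fun Z hZ => ((hss.2.2 s).1 Z hZ).le

include k hdimC hconn hss in
/-- Connected geometric fibres with constant functions. -/
theorem nodal_h0 (s : C) : Models.hRank ↥(C.residueField s) (f.fiber s) (f.fiberToSpecResidueField s)
    (Coh.structureModule (f.fiber s)) 0 = 1 := by
  obtain ⟨hpr, hfl, hlfp, hln⟩ := fibred_morphism k f hdimC
  haveI := hpr
  haveI : GeometricallyConnected f := SteinConn.geometricallyConnected_of_bijective_app f fun W _ =>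
    ConcreteCategory.bijective_of_isIso ((ClSub.unitToPush f).app W)
  haveI : GeometricallyConnected (f.fiberToSpecResidueField s) :=
    MorphismProperty.pullback_snd _ _ inferInstance
  haveI : LocallyOfFiniteType (f.fiberToSpecResidueField s) :=
    MorphismProperty.pullback_snd _ _ inferInstance
  haveI := CurveCover.geometricallyReduced_of_nodalCurve (f.fiberToSpecResidueField s)
    (((NodeFam.isNodalFamily_iff f).1 hss).2.2 s)
  exact CurveCover.hRank_zero_eq_one_fiber f s

include k hdimC hconn hss in
/-- The first direct image is a bundle. -/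
theorem fibration_R1_locFree [HasInjectiveResolutions S.Modules] :
    FlatMod.IsFinLocFree ((Coh.Rpush f 1).obj (Coh.structureModule S)) := by
  obtain ⟨hpr, hfl, hlfp, hln⟩ := fibred_morphism k f hdimC
  haveI := hpr; haveI := hfl; haveI := hlfp
  exact H26.FibModel.isFinLocFree_Rpush_one f (nodal_fibre_dim f hss) (nodal_h0 k f hdimC hconn hss)

end Groth.Agent.SurfRows
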