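import Groth.Agent.H23.TrivBasic
import Groth.Agent.H26.TorsTriv
import Groth.Agent.CurveCohLib.Skyscraper
import Groth.Agent.CurveCover.FamilyH0

/-!
Torsion invertible modules on reduced schemes with constant functions.
-/

set_option autoImplicit false
set_option linter.style.haveILetI false
set_option linter.unusedSectionVars false
set_option backward.isDefEq.respectTransparency false
set_option backward.isDefEq.respectTransparency.types false
set_option maxHeartbeats 1000000

universe u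

open CategoryTheory CategoryTheory.Limits AlgebraicGeometry TopologicalSpace Opposite
open Groth.Agent.H23 Groth.Agent.H23.TrivBasic

noncomputable section

namespace Groth.Agent.SurfRows

open Groth.Agent

variable (κ : Type u) [Field κ] {Y : Scheme.{u}} [Y.Over (Spec (CommRingCat.of κ))]

/-- With a one-dimensional space of functions every function is zero or invertible. -/
theorem eq_zero_or_isUnit (h : Module.finrank κ (Coh.HH Y (Coh.structureModule Y) 0) = 1) (r : Γ(Y, ⊤)) :
    r = 0 ∨ IsUnit r := by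
  let e := Sheaf.H.equiv₀ (Coh.toAb (Coh.structureModule Y)) isTerminalTop
  let t₁ : Coh.HH Y (Coh.structureModule Y) 0 := e.symm (show Γ(Coh.structureModule Y, ⊤) from (1 : Γ(Y, ⊤)))
  let tr : Coh.HH Y (Coh.structureModule Y) 0 := e.symm (show Γ(Coh.structureModule Y, ⊤) from r)
  have he1 : (show Γ(Y, ⊤) from e t₁) = 1 := e.apply_symm_apply _
  have her : (show Γ(Y, ⊤) from e tr) = r := e.apply_symm_apply _
  have ht : t₁ ≠ 0 := fun h0 => by
    have h1 : (1 : Γ(Y, ⊤)) = 0 := he1.symm.trans ((congrArg e h0).trans (map_zero e))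
    haveI : Subsingleton Γ(Y, ⊤) := subsingleton_of_zero_eq_one h1.symm
    haveI : Subsingleton Γ(Coh.structureModule Y, ⊤) := ‹Subsingleton Γ(Y, ⊤)›
    haveI : Subsingleton (Coh.HH Y (Coh.structureModule Y) 0) :=
      @Equiv.subsingleton _ _ e.toEquiv ‹Subsingleton Γ(Coh.structureModule Y, ⊤)›
    rw [Module.finrank_zero_of_subsingleton] at h
    exact zero_ne_one h
  obtain ⟨a, ha⟩ := (finrank_eq_one_iff_of_nonzero' t₁ ht).1 h tr
  have hr : r = (show Γ(Y, ⊤) from Coh.resTop Y (op ⊤) (Coh.toGlobal (Y ↘ Spec (CommRingCat.of κ)) a)) * 1 := by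
    rw [← her, ← he1, ← ha]
    exact CurveCohLib.h0Equiv_smul (Coh.structureModule Y) a t₁
  rcases eq_or_ne a 0 with rfl | h0
  · exact Or.inl (by rw [hr, map_zero, map_zero, zero_mul])
  · refine Or.inr ?_
    rw [hr, mul_one]
    exact ((isUnit_iff_ne_zero.2 h0).map _).map _

variable [IsReduced Y]

/-- A torsion invertible module with a nonzero section is trivial. -/
theorem finrank_h0_torsion (h : Module.finrank κ (Coh.HH Y (Coh.structureModule Y) 0) = 1) {M : Y.Modules}
    (hM : PicF.IsInvertible M) {l : ℕ} (hl : 0 < l) (φ : CohB1.tensorPow M l ≅ Coh.structureModule Y)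
    (hnt : ¬ Triv M) : Module.finrank κ (Coh.HH Y M 0) = 0 := by
  haveI : Subsingleton (Coh.HH Y M 0) := by
    refine not_nontrivial_iff_subsingleton.1 fun hn => ?_
    let e := Sheaf.H.equiv₀ (Coh.toAb M) isTerminalTop
    obtain ⟨a, ha⟩ := exists_ne (0 : Coh.HH Y M 0)
    let s : Γ(M, ⊤) := e a
    have hs : s ≠ 0 := fun h0 => ha (e.injective (h0.trans (map_zero e).symm))
    let c : Γ(Y, ⊤) := φ.hom.app ⊤ (H26.TorsTriv.tpow s l)
    have hloc : ∀ x : Y, ∃ (U : Y.Opens) (e : Γ(M, U)) (g : Γ(Y, U)) (u : Γ(Y, U)), x ∈ U ∧ InvX.IsFrame e ∧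
        IsUnit u ∧ AModX.res M (le_top : U ≤ ⊤) s = g • e ∧ AModX.resR (le_top : U ≤ ⊤) c = g ^ l * u := fun x => by
      obtain ⟨U, hx, ε, hε⟩ := InvX.exists_frame hM x
      obtain ⟨g, hg⟩ := hε.exists_coord le_rfl (AModX.res M (le_top : U ≤ ⊤) s)
      rw [AModX.res_self] at hg
      let u : Γ(Y, U) := φ.hom.app U (H26.TorsTriv.tpow ε l)
      refine ⟨U, ε, g, u, hx, hε, H26.TorsTriv.isUnit_of_isFrame ((H26.TorsTriv.isFrame_tpow hε l).map_iso φ), hg, ?_⟩
      show AModX.res (Coh.structureModule Y) _ (φ.hom.app ⊤ (H26.TorsTriv.tpow s l)) = _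
      rw [← AModX.app_res, H26.TorsTriv.res_tpow, hg, H26.TorsTriv.tpow_smul, Scheme.Modules.Hom.app_smul]
      rfl
    rcases eq_zero_or_isUnit κ h c with hc | hc
    · refine hs (AModX.eq_of_locally _ _ fun x _ => ?_)
      obtain ⟨U, ε, g, u, hx, hε, hu, hg, hcg⟩ := hloc x
      refine ⟨U, le_top, hx, ?_⟩
      rw [hc, map_zero] at hcg
      have hg0 : g ^ l = 0 := (hu.mul_left_eq_zero).1 hcg.symm
      have : g = 0 := IsReduced.eq_zero g ⟨l, hg0⟩
      rw [hg, this, zero_smul]
      exact (map_zero _).symm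
    · refine hnt (TrivBasic.triv_of_frame (e := s) (TrivBasic.isFrame_of_germwise fun x _ => ?_))
      obtain ⟨U, ε, g, u, hx, hε, hu, hg, hcg⟩ := hloc x
      refine ⟨U, le_top, hx, ?_⟩
      have hgl : IsUnit (g ^ l) := isUnit_of_mul_isUnit_left (hcg ▸ hc.map (AModX.resR (le_top : U ≤ ⊤)) : IsUnit (g ^ l * u))
      rw [hg]
      exact hε.isUnit_smul ((isUnit_pow_iff hl.ne').1 hgl)
  exact Module.finrank_zero_of_subsingleton

end Groth.Agent.SurfRows
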