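import Groth.Agent.SurfRows.FibrationNodal
import Groth.Agent.SurfRows.TorsionFibre
import Groth.Agent.CurveEmbed.Points
import Groth.Agent.S2391

/-!
Fibrations: torsion invertible modules which are nontrivial on a fibre.
-/

set_option autoImplicit false
set_option linter.style.haveILetI false
set_option linter.unusedSectionVars false
set_option backward.isDefEq.respectTransparency false
set_option backward.isDefEq.respectTransparency.types false
set_option maxHeartbeats 1000000

universe u

open CategoryTheory CategoryTheory.Limits AlgebraicGeometry TopologicalSpace Opposite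
open Groth.Agent.H23 Groth.Agent.H23.TrivBasic

noncomputable section

namespace Groth.Agent.SurfRows

open Groth.Agent Groth.Agent.CurveBundle Groth.Agent.CurveSlope Groth.Agent.CurveStable

attribute [local instance] PicMul.clMonoid

theorem tensorPow_pullback {X Y : Scheme.{u}} (g : Y ⟶ X) {M : X.Modules} {l : ℕ}
    (φ : CohB1.tensorPow M l ≅ Coh.structureModule X) :
    Nonempty (CohB1.tensorPow ((Scheme.Modules.pullback g).obj M) l ≅ Coh.structureModule Y) :=
  ⟨(AmpleVan.RelVanish.pullback_tensorPow g M l).some.symm ≪≫ (Scheme.Modules.pullback g).mapIso φ ≪≫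
    (PicClLib.nonempty_pullback_structureModule g).some⟩

theorem isZero_tensorMod {X : Scheme.{u}} (N : X.Modules) {A : X.Modules} (h : IsZero A) :
    IsZero (CohB1.tensorMod N A) := by
  rw [show CohB1.tensorMod N A = ((DCoh.tensorBi (X := X)).obj N).obj A from rfl]
  exact Functor.map_isZero ((DCoh.tensorBi (X := X)).obj N) h

variable (k : Type u) [Field k] [IsAlgClosed k]
  {S : Scheme.{u}} [S.Over (Spec (CommRingCat.of k))] [IsProper (S ↘ Spec (CommRingCat.of k))]
  [Smooth (S ↘ Spec (CommRingCat.of k))] [IsIntegral S]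
  {C : Scheme.{u}} [C.Over (Spec (CommRingCat.of k))] [IsProper (C ↘ Spec (CommRingCat.of k))]
  [Smooth (C ↘ Spec (CommRingCat.of k))] [IsIntegral C]
  (f : S ⟶ C) [f.IsOver (Spec (CommRingCat.of k))] [Surjective f]
  (hdim : topologicalKrullDim S = 2) (hdimC : topologicalKrullDim C = 1)
  (hconn : IsIso (ClSub.unitToPush f)) (hss : Curv2.IsNodalFamily f)
  {l : ℕ} (hl : l.Prime) (hlk : (l : k) ≠ 0) {η : S.Modules} (hη : PicF.IsInvertible η)
  (φη : CohB1.tensorPow η l ≅ Coh.structureModule S)

include k hdimC hconn hss hl hη φη in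
/-- Sections on a fibre: none unless trivial. -/
theorem torsion_fibre_h0 (y : C) :
    (¬ Triv ((Scheme.Modules.pullback (f.fiberι y)).obj η) → CohIII.fiberRank f η 0 y = 0) ∧
      (Triv ((Scheme.Modules.pullback (f.fiberι y)).obj η) → CohIII.fiberRank f η 0 y = 1) := by
  obtain ⟨hpr, hfl, hlfp, hln⟩ := fibred_morphism k f hdimC
  haveI := hpr
  letI ok : (f.fiber y).Over (Spec (CommRingCat.of ↥(C.residueField y))) := ⟨f.fiberToSpecResidueField y⟩
  haveI : IsProper (f.fiberToSpecResidueField y) := MorphismProperty.pullback_snd _ _ inferInstance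
  haveI : IsLocallyNoetherian (f.fiber y) :=
    LocallyOfFiniteType.isLocallyNoetherian (f.fiberToSpecResidueField y)
  haveI := CurveCover.geometricallyReduced_of_nodalCurve (f.fiberToSpecResidueField y)
    (((NodeFam.isNodalFamily_iff f).1 hss).2.2 y)
  haveI : IsReduced (f.fiber y) := GeometricallyReduced.isReduced_of_flat_of_isLocallyNoetherian (f.fiberToSpecResidueField y)
  have h0 := nodal_h0 k f hdimC hconn hss y
  refine ⟨fun hnt => ?_, fun ⟨e⟩ => ?_⟩
  · exact finrank_h0_torsion ↥(C.residueField y) h0 (PicClLib.isInvertible_pullback (f.fiberι y) hη) hl.pos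
      (tensorPow_pullback (f.fiberι y) φη).some hnt
  · exact (CurveCohLib.hhEquiv (k := ↥(C.residueField y)) e 0).finrank_eq.trans h0

include k hdimC hl hlk hη φη in
/-- Triviality on a closed fibre spreads to the generic fibre. -/
theorem torsion_triv_generic (c : C) (hc : IsClosed ({c} : Set C))
    (h : Triv ((Scheme.Modules.pullback (f.fiberι c)).obj η)) :
    Triv ((Scheme.Modules.pullback (f.fiberι (genericPoint C))).obj η) := by
  obtain ⟨hpr, hfl, hlfp, hln⟩ := fibred_morphism k f hdimC
  haveI := hpr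
  haveI := CurveCohLib.isNoetherian_of_proper (k := k) (X := C)
  have hn : IsIntegrallyClosed (C.presheaf.stalk c) := by
    haveI := GrpSchLib.isRegularLocalRing_stalk_of_smooth (C ↘ Spec (CommRingCat.of k)) c
    exact RegLoc6.isIntegrallyClosed_of_isRegularLocalRing _
  haveI := CurveEmbed.isDVR_of_normal k hdimC hc hn
  let R : Type u := C.presheaf.stalk c
  let T : Spec (CommRingCat.of R) ⟶ C := C.fromSpecStalk c
  let a : pullback f T ⟶ S := pullback.fst f T
  let p : pullback f T ⟶ Spec (CommRingCat.of R) := pullback.snd f T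
  haveI : IsProper p := MorphismProperty.pullback_snd _ _ inferInstance
  let r : Spec (C.residueField c) ⟶ Spec (CommRingCat.of R) := Spec.map (C.residue c)
  haveI : IsClosedImmersion r := IsClosedImmersion.spec_of_surjective _ IsLocalRing.residue_surjective
  let i : pullback p r ⟶ pullback f T := pullback.fst p r
  have hchar : ∀ q : ℕ, q.Prime → CharP (IsLocalRing.ResidueField R) q → ¬ q ∣ l := fun q hq hq' hd => by
    obtain rfl := (Nat.prime_dvd_prime_iff_eq hq hl).1 hd
    refine hlk ?_
    let ι : k →+* IsLocalRing.ResidueField R := Curv2.resMap k C c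
    refine ι.injective ?_
    rw [map_natCast, map_zero]
    exact @CharP.cast_eq_zero _ _ q hq'
  have hi : ∀ x, p x = IsLocalRing.closedPoint R → ∃ z, i z = x := fun x hx => by
    have h' : x ∈ Set.range i := by
      rw [Scheme.Pullback.range_fst]
      refine ⟨IsLocalRing.closedPoint (C.residueField c), ?_⟩
      rw [hx]
      haveI : IsLocalHom (C.residue c).hom := inferInstanceAs (IsLocalHom (IsLocalRing.residue R))
      exact IsLocalRing.comap_closedPoint (C.residue c).hom
    exact h'
  let m : pullback p r ⟶ f.fiber c := pullback.lift (i ≫ a) (pullback.snd p r) (by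
    rw [Category.assoc]
    show pullback.fst p r ≫ pullback.fst f T ≫ f = pullback.snd p r ≫ Spec.map (C.residue c) ≫ C.fromSpecStalk c
    rw [pullback.condition]
    exact (pullback.condition_assoc _))
  have hm : m ≫ f.fiberι c = i ≫ a := pullback.lift_fst _ _ _
  have htriv : Triv ((Scheme.Modules.pullback i).obj ((Scheme.Modules.pullback a).obj η)) :=
    (triv_comp_iff i a).2 ((triv_congr hm).1 ((triv_comp_iff m (f.fiberι c)).1 (h.pullback m)))
  have htor := tensorPow_pullback a φη
  have hM : Triv ((Scheme.Modules.pullback a).obj η) :=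
    H26.TorsTriv.iso_of_torsion p hl.pos hchar (PicClLib.isInvertible_pullback a hη) htor i hi htriv
  let t : Spec (C.residueField (genericPoint C)) ⟶ Spec (CommRingCat.of R) :=
    Spec.map (C.residue (genericPoint C)) ≫
      Spec.map (C.presheaf.stalkSpecializes ((genericPoint_spec C).specializes (Set.mem_univ c)))
  have ht : t ≫ T = C.fromSpecResidueField (genericPoint C) := by
    show (_ ≫ _) ≫ C.fromSpecStalk c = _
    rw [Category.assoc, Scheme.SpecMap_stalkSpecializes_fromSpecStalk]
    rfl
  let j : f.fiber (genericPoint C) ⟶ pullback f T :=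
    pullback.lift (f.fiberι _) (f.fiberToSpecResidueField _ ≫ t) (by
      rw [Category.assoc, ht]
      exact pullback.condition)
  have hj : j ≫ a = f.fiberι (genericPoint C) := pullback.lift_fst _ _ _
  exact (triv_congr hj).1 ((triv_comp_iff j a).1 (hM.pullback j))

variable (p₀ : C) (hp : IsClosed ({p₀} : Set C))
  (hηF : ¬ Triv ((Scheme.Modules.pullback (f.fiberι p₀)).obj η))

include k hdimC hconn hss hl hlk hη φη hp hηF in
/-- No sections on any fibre. -/
theorem torsion_fiberRank_zero (y : C) : CohIII.fiberRank f η 0 y = 0 := by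
  obtain ⟨hpr, hfl, hlfp, hln⟩ := fibred_morphism k f hdimC
  haveI := hpr; haveI := hfl; haveI := hlfp; haveI := hln
  haveI := CurveCohLib.isNoetherian_of_proper (k := k) (X := C)
  haveI : HasInjectiveResolutions S.Modules := KFlatLib.hasInjectiveResolutions_modules
  have hopen := KFlatLib.FibreEuler.isOpen_fiberRank_lt (f := f) (QCoh.isFP_of_isFinLocFree
    (locFree hη)) (H28.FlatPr.isFlatOver_of_isFinLocFree f (locFree hη)) 0 1
  have hgen : CohIII.fiberRank f η 0 (genericPoint C) < 1 :=
    ((genericPoint_spec C).specializes (Set.mem_univ p₀)).mem_open hopen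
      (show CohIII.fiberRank f η 0 p₀ < 1 by
        rw [(torsion_fibre_h0 k f hdimC hconn hss hl hη φη p₀).1 hηF]
        exact one_pos)
  refine (torsion_fibre_h0 k f hdimC hconn hss hl hη φη y).1 fun ht => ?_
  have hg : Triv ((Scheme.Modules.pullback (f.fiberι (genericPoint C))).obj η) := by
    by_cases hy : IsClosed ({y} : Set C)
    · exact torsion_triv_generic k f hdimC hl hlk hη φη y hy ht
    · obtain rfl := CurveCohLib.eq_genericPoint_of_not_isClosed hdimC hy
      exact ht
  rw [(torsion_fibre_h0 k f hdimC hconn hss hl hη φη _).2 hg] at hgen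
  exact lt_irrefl 1 hgen

variable [HasInjectiveResolutions S.Modules]

include k hdim hdimC hconn hss hl hlk hη φη hp hηF in
/-- The direct images of a torsion module nontrivial on a fibre. -/
theorem torsion_direct_images :
    IsZero ((Coh.push f).obj η) ∧ Coh.IsCoh ((Coh.Rpush f 1).obj η) ∧
      FlatMod.IsFinLocFree ((Coh.Rpush f 1).obj η) := by
  obtain ⟨hpr, hfl, hlfp, hln⟩ := fibred_morphism k f hdimC
  haveI := hpr; haveI := hfl; haveI := hlfp; haveI := hln
  haveI := CurveCohLib.isNoetherian_of_proper (k := k) (X := S)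
  have hc := CurveDeg.isCoh_of_isInvertible hη
  have hflat := H28.FlatPr.isFlatOver_of_isFinLocFree f (locFree hη)
  have h0 := torsion_fiberRank_zero k f hdimC hconn hss hl hlk hη φη p₀ hp hηF
  have hdimF := nodal_fibre_dim f hss
  have hsub : ∀ y, Subsingleton (CohIII.fiberH f η y 0) := fun y => by
    haveI : IsProper (f.fiberToSpecResidueField y) := MorphismProperty.pullback_snd _ _ inferInstance
    letI : (f.fiber y).Over (Spec (CommRingCat.of ↥(C.residueField y))) := ⟨f.fiberToSpecResidueField y⟩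
    haveI : IsProper (f.fiber y ↘ Spec (CommRingCat.of ↥(C.residueField y))) :=
      ‹IsProper (f.fiberToSpecResidueField y)›
    haveI : IsLocallyNoetherian (f.fiber y) :=
      LocallyOfFiniteType.isLocallyNoetherian (f.fiberToSpecResidueField y)
    haveI : Module.Finite (C.residueField y) (CohIII.fiberH f η y 0) :=
      CurveCohLib.finite_HH (k := ↥(C.residueField y))
        (CurveDeg.isCoh_of_isInvertible (PicClLib.isInvertible_pullback (f.fiberι y) hη)) 0
    exact Module.finrank_zero_iff.1 (h0 y)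
  refine ⟨?_, QCoh.isCoh_Rpush_of_finiteness f hc 1 S0002.result, ?_⟩
  · haveI := SpObjSS.enoughInjectives_of_hasInjectiveResolutions (C := S.Modules)
    haveI := QCoh.preservesFiniteLimits_push f
    refine (H28.PBAtlas.isZero_of_restrict _ fun y => ?_ : IsZero ((Coh.Rpush f 0).obj η)).of_iso
      ((Scheme.Modules.pushforward f).rightDerivedZeroIsoSelf.app η).symm
    obtain ⟨U, hyU, hU⟩ := S2385.result f η hc hflat y 0 (hsub y)
    exact ⟨U, hyU, hU.of_iso ((Scheme.Modules.restrictFunctorIsoPullback U.ι).app _).symm⟩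
  · refine fun y => ?_
    have h2 : Subsingleton (CohIII.fiberH f η y (1 + 1)) :=
      CohPullX.subsingleton_fiberH_of_dim y 1 (by exact_mod_cast hdimF y) 2 one_lt_two
    obtain ⟨U, hyU, hU⟩ := CohPullX.exists_free_of_neighbours (f := f) (QCoh.isFP_of_isFinLocFree (locFree hη))
      hflat y 1 h2 (fun j hj => by obtain rfl : j = 0 := by omega
                                   exact hsub y)
    exact ⟨U, _, hyU, hU⟩

include k hdim hdimC hconn hss hl hlk hη φη hp hηF in
/-- The invariants of the first direct image. -/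
theorem torsion_R1 {W : S.Modules} (hW : ExtPow.IsExtPow 2 (Omega.sheaf (S ↘ Spec (CommRingCat.of k))) W) (g : ℕ)
    (hg : Curv2.euler k S (ClSub.quotMod (f.fiberι p₀).ker) = 1 - (g : ℤ)) :
    (rk ((Coh.Rpush f 1).obj η) : ℤ) = (g : ℤ) - 1 ∧
      Curv2.euler k C ((Coh.Rpush f 1).obj η) = - Curv2.euler k S (Coh.structureModule S) := by
  obtain ⟨hz, hR, hRf⟩ := torsion_direct_images k f hdim hdimC hconn hss hl hlk hη φη p₀ hp hηF
  have hpair : ∀ {L : S.Modules}, PicF.IsInvertible L → SurfPairing.pair k (PicF.cl L) (PicF.cl η) = 0 := by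
    intro L hL
    have hpow : ∀ n, SurfPairing.pair k (PicF.cl L) (PicF.cl (CohB1.tensorPow η n)) =
        n * SurfPairing.pair k (PicF.cl L) (PicF.cl η) := fun n => by
      induction n with
      | zero =>
        rw [PicMul.cl_tensorPow, pow_zero, SurfPairing.pair_one]
        simp
      | succ n ih =>
        rw [show CohB1.tensorPow η (n + 1) = CohB1.tensorMod (CohB1.tensorPow η n) η from rfl, PicMul.cl_tensor,
          SurfPairing.pair_mul k hdim.le hL (PicMul.isInvertible_tensorPow hη n) hη, ih]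
        push_cast
        ring
    have h := hpow l
    rw [PicMul.cl_eq_iff.2 ⟨φη⟩, ← PicMul.one_def, SurfPairing.pair_one] at h
    exact (mul_eq_zero.1 h.symm).resolve_left (by exact_mod_cast hl.ne_zero)
  have hrr := SurfAdj.rr k hdim hW hη
  rw [hpair hη, SurfPairing.pair_comm k (PicF.cl η), hpair (SurfAdj.isInvertible_W k hdim hW)] at hrr
  have hpush : ∀ {N : C.Modules}, PicF.IsInvertible N →
      Curv2.euler k S (CohB1.tensorMod ((Scheme.Modules.pullback f).obj N) η) =
        -((rk ((Coh.Rpush f 1).obj η) : ℤ) * Curv2.deg k C N 1 + Curv2.euler k C ((Coh.Rpush f 1).obj η)) := by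
    intro N hN
    obtain ⟨-, -, -, -, h⟩ := fibration_leray k f hdim hdimC
      (PicMul.isInvertible_tensor (PicClLib.isInvertible_pullback f hN) hη)
    obtain ⟨e₁⟩ := fibration_projection f hN η
    obtain ⟨e₂⟩ := S0927.result f η N (locFree hN) 1
    have hz' : IsZero (CohB1.tensorMod N ((Coh.push f).obj η)) := isZero_tensorMod N hz
    have ht := CurveTensor.euler_tensor k hdimC (InvEnd.isFinLocFreeOfRank_one hN) hR
    change Curv2.euler k C (CohB1.tensorMod N ((Coh.Rpush f 1).obj η)) = _ at ht
    rw [h, ← Euler.euler_congr k e₁, euler_eq_zero_of_isZero k hz', ← Euler.euler_congr k e₂, ht]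
    push_cast
    ring
  have hbil : ∀ {N : C.Modules}, PicF.IsInvertible N →
      Curv2.euler k S (CohB1.tensorMod ((Scheme.Modules.pullback f).obj N) η) =
        Curv2.euler k S ((Scheme.Modules.pullback f).obj N) := by
    intro N hN
    have h := hpair (PicClLib.isInvertible_pullback f hN)
    unfold SurfPairing.pair at h
    rw [← PicMul.cl_tensor, SurfPairing.χ_cl, SurfPairing.χ_cl, SurfPairing.χ_cl, SurfPairing.χ_one] at h
    linarith
  obtain ⟨D, hD, hdD⟩ := CurveTwist.exists_isInvertible_deg k hdimC 1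
  have hO := CurveDeg.isInvertible_structureModule (X := C)
  obtain ⟨u⟩ := PicClLib.nonempty_pullback_structureModule f
  have a₀ := (hpush hO).symm.trans ((hbil hO).trans (fibration_euler_pullback k f hdim hdimC hconn hO))
  have a₁ := (hpush hD).symm.trans ((hbil hD).trans (fibration_euler_pullback k f hdim hdimC hconn hD))
  have b₀ := fibration_euler_pullback k f hdim hdimC hconn hO
  rw [Euler.euler_congr k u] at b₀
  rw [CurveDeg.deg_structureModule] at a₀ b₀
  rw [hdD, fibration_rk_R1 k f hdim hdimC hconn p₀ hp g hg] at a₁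
  constructor <;> linarith

variable {W : S.Modules} (hW : ExtPow.IsExtPow 2 (Omega.sheaf (S ↘ Spec (CommRingCat.of k))) W)

include hdim hdimC hW in
/-- Serre duality through the fibration, twisted. -/
theorem fibration_duality_twist {N N' : C.Modules} (hN : PicF.IsInvertible N) (hN' : PicF.IsInvertible N')
    (h : PicF.cl N' * PicF.cl N = 1) {L L' : S.Modules} (hL : PicF.IsInvertible L) (hL' : PicF.IsInvertible L')
    (hLL : PicF.cl L' * PicF.cl L = 1) :
    Module.finrank k (Coh.HH C (CohB1.tensorMod N ((Coh.push f).obj (CohB1.tensorMod L W))) 0) =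
      Module.finrank k (Coh.HH C (CohB1.tensorMod N' ((Coh.Rpush f 1).obj L')) 1) := by
  haveI := CurveCohLib.isNoetherian_of_proper (k := k) (X := S)
  let P := CohB1.tensorMod ((Scheme.Modules.pullback f).obj N') L'
  let Q := CohB1.tensorMod ((Scheme.Modules.pullback f).obj N) L
  have hP : PicF.IsInvertible P := PicMul.isInvertible_tensor (PicClLib.isInvertible_pullback f hN') hL'
  have hcl : PicF.cl P * PicF.cl Q = 1 := by
    have h2 := congrArg (PicMul.pullHom f) h
    rw [map_mul, map_one] at h2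
    rw [PicMul.cl_tensor, PicMul.cl_tensor, mul_mul_mul_comm, hLL, mul_one]
    exact h2
  obtain ⟨H, hH⟩ := SurfAdj.exists_ample k hdim
  haveI := CurveFin.smoothOfRelativeDimension_of_dim (f := S ↘ Spec (CommRingCat.of k)) (d := 2) hdim
  obtain ⟨n, ι, hi, hι⟩ := AmpleEmbed.exists_closedImmersion (S ↘ Spec (CommRingCat.of k)) hH
  haveI := hi
  have h1 := SmoothDuality.finrank_dual ι hι hW hP hcl 2 le_rfl
  obtain ⟨e⟩ := fibration_projection f hN (CohB1.tensorMod L W)
  obtain ⟨e'⟩ := S0927.result f L' N' (locFree hN') 1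
  obtain ⟨-, -, h2, -, -⟩ := fibration_leray k f hdim hdimC hP
  obtain ⟨a⟩ := PicMul.assoc ((Scheme.Modules.pullback f).obj N) L W
  rw [(CurveCohLib.hhEquiv (k := k) e 0).finrank_eq, ← (CurveCohLib.hhEquiv (k := k) ((Coh.push f).mapIso a) 0).finrank_eq,
    (CurveCohLib.hhEquiv (k := k) e' 1).finrank_eq, ← h2, ← h1]
  exact (GenFinPush.finrank_h0_push k f (comp_over f _) _).symm

include hdim hdimC hW in
/-- Rank and Euler characteristic of a twisted direct image of the canonical module, from the first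
direct image of the inverse twist. -/
theorem fibration_push_twist {L L' : S.Modules} (hL : PicF.IsInvertible L) (hL' : PicF.IsInvertible L')
    (hLL : PicF.cl L' * PicF.cl L = 1) (hR : Coh.IsCoh ((Coh.Rpush f 1).obj L'))
    (hRf : FlatMod.IsFinLocFree ((Coh.Rpush f 1).obj L')) :
    FlatMod.IsFinLocFree ((Coh.push f).obj (CohB1.tensorMod L W)) ∧
      rk ((Coh.push f).obj (CohB1.tensorMod L W)) = rk ((Coh.Rpush f 1).obj L') ∧
      Curv2.euler k C ((Coh.push f).obj (CohB1.tensorMod L W)) = - Curv2.euler k C ((Coh.Rpush f 1).obj L') := by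
  haveI := CurveCohLib.isNoetherian_of_proper (k := k) (X := C)
  obtain ⟨hP, hPf⟩ := fibration_push_locFree k f hdimC
    (PicMul.isInvertible_tensor hL (SurfAdj.isInvertible_W k hdim hW))
  refine ⟨hPf, ?_⟩
  obtain ⟨D, hD, hdD⟩ := CurveTwist.exists_isInvertible_deg k hdimC 1
  have hA : CohB1.IsAmple D := CurveAmple.isAmple_of_deg_pos (k := k) hdimC hD (by omega)
  obtain ⟨D', hD', -, ⟨e⟩⟩ := CurveDuality.exists_inverse_deg k hdimC hD
  have hDD : PicF.cl D * PicF.cl D' = 1 := PicMul.cl_eq_iff.2 ⟨e⟩
  have hdD' : Curv2.deg k C D' 1 = -1 := by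
    have h := CurveRR.deg_tensor k hdimC hD hD'
    rw [CurveRR.deg_congr k e, CurveDeg.deg_structureModule] at h
    omega
  obtain ⟨n₀, hc⟩ := exists_h0_negtwist k hdimC hD hD' hDD (by omega) hRf
  obtain ⟨m₀, hm⟩ := NumTrivTw.exists_vanishing k hA hP
  have hstep : ∀ n, n₀ ≤ n → m₀ ≤ n →
      (rk ((Coh.push f).obj (CohB1.tensorMod L W)) : ℤ) * n + Curv2.euler k C ((Coh.push f).obj (CohB1.tensorMod L W)) =
        (rk ((Coh.Rpush f 1).obj L') : ℤ) * n - Curv2.euler k C ((Coh.Rpush f 1).obj L') := fun n hn hn' => by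
    have hN := PicMul.isInvertible_tensorPow hD n
    have hN' := PicMul.isInvertible_tensorPow hD' n
    have hd := fibration_duality_twist k f hdim hdimC hW hN hN' (by
      rw [PicMul.cl_tensorPow, PicMul.cl_tensorPow, ← mul_pow, mul_comm, hDD, one_pow]) hL hL' hLL
    haveI : Subsingleton (Coh.HH C (CohB1.tensorMod (CohB1.tensorPow D n)
        ((Coh.push f).obj (CohB1.tensorMod L W))) 1) := by
      obtain ⟨u⟩ : Nonempty (CohB1.tensorMod (CohB1.tensorMod ((Coh.push f).obj (CohB1.tensorMod L W))
          (CohB1.tensorPow D n)) (Coh.structureModule C) ≅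
          CohB1.tensorMod (CohB1.tensorPow D n) ((Coh.push f).obj (CohB1.tensorMod L W))) :=
        PicMul.cl_eq_iff.1 (by
          rw [PicMul.cl_tensor, PicMul.cl_tensor, PicMul.cl_tensor _ ((Coh.push f).obj _), ← PicMul.one_def,
            mul_one, mul_comm])
      exact QCoh.subsingleton_HH_of_iso u 1 (hm n hn' _ (Pic13Lib.NumTriv.isNT_one k) 0)
    have h1 := CurveTensor.euler_tensor k hdimC (InvEnd.isFinLocFreeOfRank_one hN) hP
    have h2 := CurveTensor.euler_tensor k hdimC (InvEnd.isFinLocFreeOfRank_one hN') hR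
    have hP' := CurveTensor.isCoh_tensor (locFree hN) hP
    have hR' := CurveTensor.isCoh_tensor (locFree hN') hR
    change Curv2.euler k C (CohB1.tensorMod (CohB1.tensorPow D n) ((Coh.push f).obj (CohB1.tensorMod L W))) = _ at h1
    change Curv2.euler k C (CohB1.tensorMod (CohB1.tensorPow D' n) ((Coh.Rpush f 1).obj L')) = _ at h2
    rw [CurveRR.euler_eq_h0_sub_h1 k hdimC.le
      (show Coh.IsQCoh (CohB1.tensorMod (CohB1.tensorPow D n) ((Coh.push f).obj (CohB1.tensorMod L W))) from hP'.1),
      Module.finrank_zero_of_subsingleton (R := k)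
        (M := Coh.HH C (CohB1.tensorMod (CohB1.tensorPow D n) ((Coh.push f).obj (CohB1.tensorMod L W))) 1),
      CurveAmple.deg_tensorPow hdimC hD, hdD, hd] at h1
    rw [CurveRR.euler_eq_h0_sub_h1 k hdimC.le
      (show Coh.IsQCoh (CohB1.tensorMod (CohB1.tensorPow D' n) ((Coh.Rpush f 1).obj L')) from hR'.1),
      CurveAmple.deg_tensorPow hdimC hD', hdD', hc n hn] at h2
    push_cast at h1 h2
    linarith
  have a := hstep (n₀ + m₀) (by omega) (by omega)
  have b := hstep (n₀ + m₀ + 1) (by omega) (by omega)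
  push_cast at a b
  have hr : (rk ((Coh.push f).obj (CohB1.tensorMod L W)) : ℤ) = rk ((Coh.Rpush f 1).obj L') := by linarith
  rw [hr] at a
  exact ⟨by exact_mod_cast hr, by linarith⟩

include k hdim hdimC hconn hss hl hlk hη φη hp hηF hW in
/-- The direct image of the relative canonical module twisted by a torsion module. -/
theorem fibration_relative_torsion (g : ℕ) (hg2 : 2 ≤ g)
    (hg : Curv2.euler k S (ClSub.quotMod (f.fiberι p₀).ker) = 1 - (g : ℤ)) {M : S.Modules}
    (hM : ClSub.IsInverseOf M ((Scheme.Modules.pullback f).obj (Omega.sheaf (C ↘ Spec (CommRingCat.of k))))) :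
    FlatMod.IsFinLocFreeOfRank (g - 1) ((Coh.push f).obj (CohB1.tensorMod (CohB1.tensorMod W M) η)) ∧
    Curv2.euler k C ((Coh.push f).obj (CohB1.tensorMod (CohB1.tensorMod W M) η)) -
        ((g : ℤ) - 1) * Curv2.euler k C (Coh.structureModule C) =
      Curv2.euler k C ((Coh.push f).obj (CohB1.tensorMod W M)) - (g : ℤ) * Curv2.euler k C (Coh.structureModule C) := by
  haveI := CurveCohLib.isNoetherian_of_proper (k := k) (X := C)
  have hlf := fibration_R1_locFree k f hdimC hconn hss
  rw [(fibration_relative k f hdim hdimC hconn p₀ hp g hg hW hM).2 hlf]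
  obtain ⟨η', hη', ⟨e⟩⟩ := H23.PicInv.exists_inverse hη
  have hηη : PicF.cl η * PicF.cl η' = 1 := PicMul.cl_eq_iff.2 ⟨e⟩
  obtain ⟨φη'⟩ : Nonempty (CohB1.tensorPow η' l ≅ Coh.structureModule S) := PicMul.cl_eq_iff.1 (by
    have h := congrArg (fun x => x ^ l) hηη
    rw [mul_pow, one_pow, ← PicMul.cl_tensorPow, PicMul.cl_eq_iff.2 ⟨φη⟩, ← PicMul.one_def, one_mul,
      ← PicMul.cl_tensorPow] at h
    exact h)
  have hη'F : ¬ Triv ((Scheme.Modules.pullback (f.fiberι p₀)).obj η') := fun ht => hηF (PicMul.cl_eq_iff.1 (by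
    have h := congrArg (PicMul.pullHom (f.fiberι p₀)) hηη
    rw [map_mul, map_one] at h
    have h' : PicF.cl ((Scheme.Modules.pullback (f.fiberι p₀)).obj η) *
        PicF.cl ((Scheme.Modules.pullback (f.fiberι p₀)).obj η') = 1 := h
    rw [PicMul.cl_eq_iff.2 ht, ← PicMul.one_def, mul_one] at h'
    exact h'))
  obtain ⟨-, hR, hRf⟩ := torsion_direct_images k f hdim hdimC hconn hss hl hlk hη' φη' p₀ hp hη'F
  obtain ⟨hrk, hχ⟩ := torsion_R1 k f hdim hdimC hconn hss hl hlk hη' φη' p₀ hp hη'F hW g hg
  obtain ⟨hPf, hr, hP⟩ := fibration_push_twist k f hdim hdimC hW hη hη' ((mul_comm _ _).trans hηη) hR hRf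
  have h0 := SurfAdj.finrank_h0 k C
  have hΩ := CurveBC.isInvertible_omega k C hdimC h0
  obtain ⟨-, hdΩ⟩ := CurveBC.canonical_invariants k C hdimC h0
  obtain ⟨D, hD, hdD, ⟨e'⟩⟩ := CurveDuality.exists_inverse_deg k hdimC hΩ
  have hcl : PicF.cl (Omega.sheaf (C ↘ Spec (CommRingCat.of k))) * PicF.cl D = 1 := PicMul.cl_eq_iff.2 ⟨e'⟩
  have hMcl : PicF.cl M = PicF.cl ((Scheme.Modules.pullback f).obj D) := by
    have h2 := congrArg (PicMul.pullHom f) hcl
    rw [map_mul, map_one] at h2
    exact left_inv_eq_right_inv (PicMul.cl_eq_iff.2 hM) h2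
  obtain ⟨m⟩ : Nonempty (CohB1.tensorMod ((Scheme.Modules.pullback f).obj D) (CohB1.tensorMod η W) ≅
      CohB1.tensorMod (CohB1.tensorMod W M) η) :=
    PicMul.cl_eq_iff.1 (by rw [PicMul.cl_tensor, PicMul.cl_tensor, PicMul.cl_tensor, PicMul.cl_tensor, hMcl]; ac_rfl)
  obtain ⟨i⟩ := fibration_projection f hD (CohB1.tensorMod η W)
  have hg1 : rk ((Coh.push f).obj (CohB1.tensorMod η W)) = g - 1 := by omega
  have hTr := isFinLocFreeOfRank_twist hD hPf
  rw [hg1] at hTr
  refine ⟨isFinLocFreeOfRank_iso ((Coh.push f).mapIso m) (isFinLocFreeOfRank_iso i hTr), ?_⟩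
  have h1 := CurveTensor.euler_tensor k hdimC (InvEnd.isFinLocFreeOfRank_one hD) (coh_of_free k hPf)
  rw [← Euler.euler_congr k ((Coh.push f).mapIso m), ← Euler.euler_congr k i]
  change Curv2.euler k C (CohB1.tensorMod D ((Coh.push f).obj (CohB1.tensorMod η W))) = _ at h1
  rw [h1, hP, hχ, hg1, hdD, hdΩ, CurveRR.euler_structureModule k hdimC.le, Nat.cast_sub (by omega)]
  push_cast
  ring

end Groth.Agent.SurfRows
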