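import Groth.Agent.SurfRows.NumConn
import Groth.Agent.SurfRows.Basic
import Groth.Agent.CurveVA.Vanish

/-!
First cohomology of divisors made of rational curves.
-/

set_option autoImplicit false
set_option linter.style.haveILetI false
set_option linter.unusedSectionVars false
set_option backward.isDefEq.respectTransparency false
set_option backward.isDefEq.respectTransparency.types false
set_option maxHeartbeats 1000000

universe u

open CategoryTheory CategoryTheory.Limits AlgebraicGeometry TopologicalSpace Opposite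
open Groth.Agent.H23 Groth.Agent.H23.TrivBasic
open Groth.Agent.PnCoh.Finite (mapLin)

noncomputable section

namespace Groth.Agent.SurfRows

open Groth.Agent

attribute [local instance] PicMul.clMonoid

/-- The class of the unit ideal. -/
theorem cl_idealMod_top {X : Scheme.{u}} : PicF.cl (ClSub.idealMod (⊤ : X.IdealSheafData)) = (1 : PicF.Cl X) := by
  have h1 : BlowUp.IsEffCartierIdeal (⊤ : X.IdealSheafData) := fun x => by
    obtain ⟨U, hU, hxU, -⟩ := exists_isAffineOpen_mem_and_subset (x := x) (U := ⊤) trivial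
    exact ⟨⟨U, hU⟩, hxU, 1, one_mem _, by simp⟩
  have h2 := (S8914.result _).2 h1
  have hc := IdealModMul.cl_mul h2 h2
  rw [Scheme.IdealSheafData.top_mul] at hc
  obtain ⟨T, hT, ⟨e⟩⟩ := PicInv.exists_inverse h2
  have ht : PicF.cl (ClSub.idealMod (⊤ : X.IdealSheafData)) * PicF.cl T = 1 := by
    rw [← PicMul.cl_tensor, PicMul.one_def]
    exact PicMul.cl_eq_iff.2 ⟨e⟩
  rw [← ht]
  conv_rhs => rw [hc, mul_assoc, ht, mul_one]

section Seq

variable (k : Type u) [Field k] {X : Scheme.{u}} [X.Over (Spec (CommRingCat.of k))]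
  [IsProper (X ↘ Spec (CommRingCat.of k))]

theorem euler_quot_eq (J : X.IdealSheafData) (hJ : BlowUp.IsEffCartierIdeal J) :
    Curv2.euler k X (ClSub.quotMod J) =
      Curv2.euler k X (Coh.structureModule X) - Curv2.euler k X (ClSub.idealMod J) := by
  haveI := CurveCohLib.isNoetherian_of_proper (k := k) (X := X)
  have hJc : Coh.IsCoh (ClSub.idealMod J) := AmpleVan.isCoh_invertible ((S8914.result J).2 hJ)
  have hq : Coh.IsCoh (ClSub.quotMod J) := ParShLib.isCoh_quotMod _
  have h2 := CurveCohLib.euler_additive (k := k) (DivisorExt.ideal_shortExact J) hJc QCoh.isCoh_structureModule' hq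
  replace h2 : Curv2.euler k X (Coh.structureModule X) =
      Curv2.euler k X (ClSub.idealMod J) + Curv2.euler k X (ClSub.quotMod J) := h2
  linarith

theorem euler_quot_mul (J K : X.IdealSheafData) (hJ : BlowUp.IsEffCartierIdeal J) (hK : BlowUp.IsEffCartierIdeal K) :
    Curv2.euler k X (ClSub.quotMod (J * K)) = Curv2.euler k X (ClSub.quotMod J) + Curv2.euler k X (ClSub.quotMod K) -
      SurfPairing.pair k (PicF.cl (ClSub.idealMod J)) (PicF.cl (ClSub.idealMod K)) := by
  have hJi := (S8914.result J).2 hJ
  have hKi := (S8914.result K).2 hK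
  rw [euler_quot_eq k J hJ, euler_quot_eq k K hK,
    euler_quot_eq k (J * K) ((S8914.result _).1 (IdealModMul.isInvertible_mul hJi hKi)), SurfPairing.pair,
    ← IdealModMul.cl_mul hJi hKi, SurfPairing.χ_cl, SurfPairing.χ_cl, SurfPairing.χ_cl, SurfPairing.χ_one]
  ring

theorem euler_quot_top : Curv2.euler k X (ClSub.quotMod (⊤ : X.IdealSheafData)) = 0 := by
  rw [euler_quot_eq k _ (fun x => by
      obtain ⟨U, hU, hxU, -⟩ := exists_isAffineOpen_mem_and_subset (x := x) (U := ⊤) trivial
      exact ⟨⟨U, hU⟩, hxU, 1, one_mem _, by simp⟩),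
    ← SurfPairing.χ_cl, ← SurfPairing.χ_cl, cl_idealMod_top, PicMul.one_def, sub_self]

include k in
/-- The middle of a short exact sequence has no first cohomology when the ends have none. -/
theorem h1_middle {T : ShortComplex X.Modules} (hT : T.ShortExact) (h1 : Subsingleton (Coh.HH X T.X₁ 1))
    (h3 : Subsingleton (Coh.HH X T.X₃ 1)) : Subsingleton (Coh.HH X T.X₂ 1) := by
  refine subsingleton_of_forall_eq 0 fun y => ?_
  obtain ⟨m, rfl⟩ := (CurveCohLib.ker_mapLin_g k hT 1).le
    (LinearMap.mem_ker.2 (Subsingleton.elim (mapLin k T.g 1 y) 0))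
  rw [Subsingleton.elim m 0, map_zero]

include k in
/-- The right end of a short exact sequence has no first cohomology when the middle has none and the left no second. -/
theorem h1_right {T : ShortComplex X.Modules} (hT : T.ShortExact) (h1 : Subsingleton (Coh.HH X T.X₁ 2))
    (h2 : Subsingleton (Coh.HH X T.X₂ 1)) : Subsingleton (Coh.HH X T.X₃ 1) := by
  refine subsingleton_of_forall_eq 0 fun y => ?_
  obtain ⟨m, rfl⟩ := (CurveCohLib.ker_deltaLin k hT 1).le (LinearMap.mem_ker.2 (Subsingleton.elim _ 0) : y ∈ _)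
  rw [Subsingleton.elim m 0, map_zero]

include k in
theorem hh_congr {M N : X.Modules} (h : PicF.cl M = PicF.cl N) (i : ℕ) (hs : Subsingleton (Coh.HH X M i)) :
    Subsingleton (Coh.HH X N i) :=
  (PicMul.cl_eq_iff.1 h).elim fun e => (CurveCohLib.hhEquiv (k := k) e i).symm.toEquiv.subsingleton

include k in
/-- Adding `K` to `J` keeps the vanishing of first cohomology. -/
theorem h1_step (J K : X.IdealSheafData) (hJ : BlowUp.IsEffCartierIdeal J) {L : X.Modules} (hL : PicF.IsInvertible L)
    (h1 : Subsingleton (Coh.HH X (CohB1.tensorMod (CohB1.tensorMod L (ClSub.idealMod J)) (ClSub.quotMod K)) 1))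
    (h2 : Subsingleton (Coh.HH X (CohB1.tensorMod L (ClSub.quotMod J)) 1)) :
    Subsingleton (Coh.HH X (CohB1.tensorMod L (ClSub.quotMod (J * K))) 1) := by
  obtain ⟨T, hT, c1, c2, c3⟩ := exists_quot_ses J K hJ hL
  rw [← PicMul.cl_tensor, ← PicMul.cl_tensor] at c1
  rw [← PicMul.cl_tensor] at c2 c3
  exact hh_congr k c2 1 (h1_middle k hT (hh_congr k c1.symm 1 h1) (hh_congr k c3.symm 1 h2))

include k in
/-- A smaller divisor inherits the vanishing of first cohomology. -/
theorem h1_sub (J K : X.IdealSheafData) (hJ : BlowUp.IsEffCartierIdeal J) {L : X.Modules} (hL : PicF.IsInvertible L)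
    (h1 : Subsingleton (Coh.HH X (CohB1.tensorMod (CohB1.tensorMod L (ClSub.idealMod J)) (ClSub.quotMod K)) 2))
    (h2 : Subsingleton (Coh.HH X (CohB1.tensorMod L (ClSub.quotMod (J * K))) 1)) :
    Subsingleton (Coh.HH X (CohB1.tensorMod L (ClSub.quotMod J)) 1) := by
  obtain ⟨T, hT, c1, c2, c3⟩ := exists_quot_ses J K hJ hL
  rw [← PicMul.cl_tensor, ← PicMul.cl_tensor] at c1
  rw [← PicMul.cl_tensor] at c2 c3
  exact hh_congr k c3 1 (h1_right k hT (hh_congr k c1.symm 2 h1) (hh_congr k c2.symm 1 h2))

end Seq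

variable (k : Type u) [Field k] [IsAlgClosed k] {X : Scheme.{u}} [X.Over (Spec (CommRingCat.of k))]
  [IsProper (X ↘ Spec (CommRingCat.of k))] [Smooth (X ↘ Spec (CommRingCat.of k))] [IsIntegral X]

include k in
theorem dim_prod (hdim : topologicalKrullDim X = 2) (s : Multiset X.IdealSheafData)
    (hs : ∀ C ∈ s, IsIntegral C.subscheme ∧ topologicalKrullDim (C.support : Set X) = 1) :
    ∀ {M : X.Modules}, PicF.IsInvertible M → ∀ i, 2 ≤ i →
      Subsingleton (Coh.HH X (CohB1.tensorMod M (ClSub.quotMod s.prod)) i) := by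
  intro M hM i hi
  let j := s.prod.subschemeι
  letI : s.prod.subscheme.Over (Spec (CommRingCat.of k)) := ⟨j ≫ (X ↘ (Spec (CommRingCat.of k)))⟩
  haveI : IsProper (s.prod.subscheme ↘ Spec (CommRingCat.of k)) :=
    show IsProper (j ≫ (X ↘ Spec (CommRingCat.of k))) from inferInstance
  haveI := CurveCohLib.isNoetherian_of_proper (k := k) (X := s.prod.subscheme)
  haveI : s.prod.subscheme.IsSeparated := ⟨by
    rw [← Limits.terminal.comp_from (s.prod.subscheme ↘ Spec (CommRingCat.of k))]
    infer_instance⟩
  have hd : topologicalKrullDim s.prod.subscheme ≤ (1 : ℕ) := by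
    rw [topologicalKrullDim_subscheme]
    refine iSup_le fun p => ?_
    let top := p.toFun (Fin.last p.length)
    have hirr : IsIrreducible (Subtype.val '' (top : Set (s.prod.support : Set X))) :=
      top.isIrreducible.image _ continuous_subtype_val.continuousOn
    obtain ⟨C, hC, hsub⟩ : ∃ C ∈ s, Subtype.val '' (top : Set (s.prod.support : Set X)) ⊆ (C.support : Set X) := by
      classical
      obtain ⟨t, ht, htsub⟩ := isIrreducible_iff_sUnion_isClosed.1 hirr
        (s.toFinset.image fun C : X.IdealSheafData => (C.support : Set X)) (fun t ht => by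
          obtain ⟨C, -, rfl⟩ := Finset.mem_image.1 ht
          exact C.support.isClosed) (by
          rintro x ⟨w, -, rfl⟩
          obtain ⟨C, hC, hx⟩ := exists_mem_support s w.2
          exact Set.mem_sUnion.2 ⟨_, Finset.mem_coe.2 (Finset.mem_image.2 ⟨C, Multiset.mem_toFinset.2 hC, rfl⟩), hx⟩)
      obtain ⟨C, hC, rfl⟩ := Finset.mem_image.1 ht
      exact ⟨C, Multiset.mem_toFinset.1 hC, htsub⟩
    let q : LTSeries (IrreducibleCloseds (C.support : Set X)) :=
      { length := p.length
        toFun := fun m => ⟨Subtype.val ⁻¹' (Subtype.val '' (p.toFun m : Set (s.prod.support : Set X))), by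
            have him : IsIrreducible (Subtype.val '' (p.toFun m : Set (s.prod.support : Set X))) :=
              (p.toFun m).isIrreducible.image _ continuous_subtype_val.continuousOn
            have hm : Subtype.val '' (p.toFun m : Set (s.prod.support : Set X)) ⊆ (C.support : Set X) :=
              (Set.image_mono (SetLike.coe_subset_coe.2 (p.monotone (Fin.le_last m)))).trans hsub
            obtain ⟨x, hx⟩ := him.nonempty
            refine ⟨⟨⟨x, hm hx⟩, hx⟩, fun U V hU hV hU' hV' => ?_⟩
            obtain ⟨U₀, hU₀, rfl⟩ := hU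
            obtain ⟨V₀, hV₀, rfl⟩ := hV
            obtain ⟨a, ha, ha'⟩ := hU'
            obtain ⟨b, hb, hb'⟩ := hV'
            obtain ⟨w, hw, hw'⟩ := him.2 U₀ V₀ hU₀ hV₀ ⟨a, ha, ha'⟩ ⟨b, hb, hb'⟩
            exact ⟨⟨w, hm hw⟩, hw, hw'⟩,
          (s.prod.support.isClosed.isClosedEmbedding_subtypeVal.isClosedMap _ (p.toFun m).isClosed).preimage
            continuous_subtype_val⟩
        step := fun m => by
          have hst : p.toFun m.castSucc < p.toFun m.succ := p.step m
          simp only [Set.mem_setOf_eq]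
          refine lt_of_le_not_ge (fun x hx => Set.image_mono (SetLike.coe_subset_coe.2 hst.le) hx)
            fun hle => hst.not_ge fun w hw => ?_
          have hw' : (w : X) ∈ (C.support : Set X) :=
            hsub (Set.image_mono (SetLike.coe_subset_coe.2 (p.monotone (Fin.le_last _))) ⟨w, hw, rfl⟩)
          obtain ⟨v, hv, hvw⟩ := hle (show (⟨w, hw'⟩ : (C.support : Set X)) ∈
            Subtype.val ⁻¹' (Subtype.val '' (p.toFun m.succ : Set (s.prod.support : Set X))) from ⟨w, hw, rfl⟩)
          rwa [Subtype.ext hvw] at hv }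
    exact (Order.LTSeries.length_le_krullDim q).trans (hs C hC).2.le
  obtain ⟨e⟩ := tensor_quot_iso_push j (M := M)
  obtain ⟨a⟩ := PnCoh.exists_linearEquiv_push k j (P := X) rfl
    (AmpleVan.isCoh_invertible (PicClLib.isInvertible_pullback j hM)).1 i
  haveI := Snapper.subsingleton_HH_of_dim_le (X := s.prod.subscheme) (d := 1) hd
    (AmpleVan.isCoh_invertible (PicClLib.isInvertible_pullback j hM)).1 (i := i) (by omega)
  refine hh_congr k (PicMul.cl_eq_iff.2 ⟨(eqToIso (by rw [Scheme.IdealSheafData.ker_subschemeι]) ≪≫ e).symm⟩) i ?_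
  exact a.symm.toEquiv.subsingleton

/-- First cohomology on a rational integral curve in degree at least `-1`. -/
theorem h1_curve (hdim : topologicalKrullDim X = 2) {I : X.IdealSheafData} (hint : IsIntegral I.subscheme)
    (hd : topologicalKrullDim (I.support : Set X) = 1) (hχ : 1 ≤ Curv2.euler k X (ClSub.quotMod I)) {M : X.Modules}
    (hM : PicF.IsInvertible M) (hle : SurfPairing.pair k (PicF.cl (ClSub.idealMod I)) (PicF.cl M) ≤ 1) :
    Subsingleton (Coh.HH X (CohB1.tensorMod M (ClSub.quotMod I)) 1) ∧ Curv2.euler k X (ClSub.quotMod I) = 1 := by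
  haveI := hint
  let i := I.subschemeι
  letI : I.subscheme.Over (Spec (CommRingCat.of k)) := ⟨i ≫ (X ↘ (Spec (CommRingCat.of k)))⟩
  haveI : IsProper (I.subscheme ↘ Spec (CommRingCat.of k)) :=
    show IsProper (i ≫ (X ↘ Spec (CommRingCat.of k))) from inferInstance
  haveI := CurveCohLib.isNoetherian_of_proper (k := k) (X := I.subscheme)
  have hd' : topologicalKrullDim I.subscheme = 1 := topologicalKrullDim_subscheme.trans hd
  have hker : i.ker = I := Scheme.IdealSheafData.ker_subschemeι I
  have hI := SurfNef.invertible_ideal k hdim hint hd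
  have hp := CurveOnSurf.pair_ideal (k := k) i hM (by rw [hker]; exact hI)
  rw [hker] at hp
  have he : Curv2.euler k X (ClSub.quotMod I) = Curv2.euler k I.subscheme (Coh.structureModule I.subscheme) := by
    have h := CurveOnSurf.euler_ideal (k := k) i
    rw [hker] at h
    rw [euler_quot_eq k I (isEffCartier_curve k hdim hint hd)]
    linarith
  have hc := SurfAdj.euler_curve_eq k I.subscheme hd'.le
  have hg0 : Module.finrank k (Coh.HH I.subscheme (Coh.structureModule I.subscheme) 1) = 0 := by omega
  refine ⟨?_, by omega⟩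
  let N := (Scheme.Modules.pullback i).obj M
  have hN : PicF.IsInvertible N := PicClLib.isInvertible_pullback i hM
  obtain ⟨e⟩ := tensor_quot_iso_push i (M := M)
  obtain ⟨a⟩ := PnCoh.exists_linearEquiv_push k i (P := X) rfl (AmpleVan.isCoh_invertible hN).1 1
  haveI : Subsingleton (Coh.HH I.subscheme N 1) :=
    CurveVA.subsingleton_h1_of_deg k hd' (SurfAdj.finrank_h0 k I.subscheme) hN (by
      unfold Curv2.genus
      rw [hg0]
      push_cast
      linarith)
  refine hh_congr k (PicMul.cl_eq_iff.2 ⟨(eqToIso (by rw [hker]) ≪≫ e).symm⟩) 1 ?_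
  exact a.symm.toEquiv.subsingleton

/-- Euler characteristic of a sum of curves. -/
theorem euler_prod (hdim : topologicalKrullDim X = 2) (s : Multiset X.IdealSheafData)
    (hs : ∀ C ∈ s, IsIntegral C.subscheme ∧ topologicalKrullDim (C.support : Set X) = 1) :
    2 * Curv2.euler k X (ClSub.quotMod s.prod) = (s.map fun C =>
      2 * Curv2.euler k X (ClSub.quotMod C) + SurfPairing.pair k (PicF.cl (ClSub.idealMod C)) (PicF.cl (ClSub.idealMod C))
        - SurfPairing.pair k (PicF.cl (ClSub.idealMod C)) (PicF.cl (ClSub.idealMod s.prod))).sum := by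
  induction s using Multiset.induction with
  | empty => rw [Multiset.prod_zero, Scheme.IdealSheafData.one_eq_top, euler_quot_top]; simp
  | cons C t ih =>
    have htl := fun D hD => hs D (Multiset.mem_cons_of_mem hD)
    obtain ⟨ht, hts⟩ := eff_prod k hdim t htl
    obtain ⟨hint, hd⟩ := hs C (Multiset.mem_cons_self _ _)
    have hCi := SurfNef.invertible_ideal k hdim hint hd
    have hti := (S8914.result _).2 ht
    have hsplit : (t.map fun D => 2 * Curv2.euler k X (ClSub.quotMod D) +
          SurfPairing.pair k (PicF.cl (ClSub.idealMod D)) (PicF.cl (ClSub.idealMod D)) -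
          SurfPairing.pair k (PicF.cl (ClSub.idealMod D)) (PicF.cl (ClSub.idealMod (C * t.prod)))).sum =
        (t.map fun D => 2 * Curv2.euler k X (ClSub.quotMod D) +
          SurfPairing.pair k (PicF.cl (ClSub.idealMod D)) (PicF.cl (ClSub.idealMod D)) -
          SurfPairing.pair k (PicF.cl (ClSub.idealMod D)) (PicF.cl (ClSub.idealMod t.prod))).sum -
        (t.map fun D => SurfPairing.pair k (PicF.cl (ClSub.idealMod D)) (PicF.cl (ClSub.idealMod C))).sum := by
      rw [← Multiset.sum_map_sub]
      refine congrArg Multiset.sum (Multiset.map_congr rfl fun D hD => ?_)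
      rw [IdealModMul.cl_mul hCi hti,
        SurfPairing.pair_mul k hdim.le (SurfNef.invertible_ideal k hdim (htl D hD).1 (htl D hD).2) hCi hti]
      ring
    rw [Multiset.prod_cons, Multiset.map_cons, Multiset.sum_cons, hsplit, ← ih htl, ← hts _ hCi,
      euler_quot_mul k C t.prod (isEffCartier_curve k hdim hint hd) ht, IdealModMul.cl_mul hCi hti,
      SurfPairing.pair_mul k hdim.le hCi hCi hti, SurfPairing.pair_comm k (PicF.cl (ClSub.idealMod t.prod))]
    ring

/-- Peeling off rational curves kills the first cohomology. -/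
theorem h1_prod_zero (hdim : topologicalKrullDim X = 2) (P : Multiset X.IdealSheafData → Prop)
    (hP : ∀ C s, P (C ::ₘ s) → s ≠ 0 → P s)
    (hcur : ∀ s, P s → ∀ C ∈ s, IsIntegral C.subscheme ∧ topologicalKrullDim (C.support : Set X) = 1 ∧
      1 ≤ Curv2.euler k X (ClSub.quotMod C))
    (hgood : ∀ s, P s → s ≠ 0 → ∃ C ∈ s, ∀ t, s = C ::ₘ t →
      SurfPairing.pair k (PicF.cl (ClSub.idealMod C)) (PicF.cl (ClSub.idealMod t.prod)) ≤ 1) :
    ∀ s, P s → s ≠ 0 → Subsingleton (Coh.HH X (ClSub.quotMod s.prod) 1) := by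
  have hO : ∀ (M : X.Modules), PicF.cl (CohB1.tensorMod (Coh.structureModule X) M) = PicF.cl M := fun M => by
    rw [PicMul.cl_tensor, ← PicMul.one_def, one_mul]
  suffices h : ∀ (m : ℕ) s, Multiset.card s ≤ m → P s → s ≠ 0 → Subsingleton (Coh.HH X (ClSub.quotMod s.prod) 1) from
    fun s => h _ s le_rfl
  intro m
  induction m with
  | zero => exact fun s hs _ h => absurd (Multiset.card_eq_zero.1 (Nat.le_zero.1 hs)) h
  | succ m ih =>
    intro s hcard hs hne
    obtain ⟨C, hC, hgood'⟩ := hgood s hs hne
    obtain ⟨t, rfl⟩ := Multiset.exists_cons_of_mem hC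
    obtain ⟨hint, hd, hχ⟩ := hcur _ hs C (Multiset.mem_cons_self _ _)
    rcases eq_or_ne t 0 with rfl | ht0
    · rw [Multiset.prod_cons, Multiset.prod_zero, mul_one]
      exact hh_congr k (hO _) 1 (h1_curve k hdim hint hd hχ InvX.isInvertible_structureModule
        (by rw [← PicMul.one_def, SurfPairing.pair_one]; exact zero_le_one)).1
    have htl : ∀ D ∈ t, IsIntegral D.subscheme ∧ topologicalKrullDim (D.support : Set X) = 1 := fun D hD => ⟨(hcur _ hs D (Multiset.mem_cons_of_mem hD)).1, (hcur _ hs D (Multiset.mem_cons_of_mem hD)).2.1⟩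
    obtain ⟨hte, -⟩ := eff_prod k hdim t htl
    have hti := (S8914.result _).2 hte
    have h2 := ih t (by simpa using hcard) (hP C t hs ht0) ht0
    have h1 := (h1_curve k hdim hint hd hχ (PicMul.isInvertible_tensor InvX.isInvertible_structureModule hti)
      (by rw [hO]; exact hgood' t rfl)).1
    rw [Multiset.prod_cons, mul_comm]
    exact hh_congr k (hO _) 1
      (h1_step k t.prod C hte InvX.isInvertible_structureModule h1 (hh_congr k (hO _).symm 1 h2))

end Groth.Agent.SurfRows
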