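import Groth.Agent.SurfRows.Basic
import Groth.Agent.SurfRows.RatConfig
import Groth.Agent.Lib.SurfNegDef
import Groth.Agent.Pic13Lib.IntNum
import Groth.Agent.AffCompl.SectionIdeal
import Groth.Agent.AmpleX.FiniteSet
import Groth.Agent.S8862
import Groth.Agent.ParShLib.ResStalk

/-!
Euler characteristics of invertible modules under a modification in finitely many points of a surface.
-/

set_option autoImplicit false
set_option linter.style.haveILetI false
set_option linter.unusedSectionVars false
set_option backward.isDefEq.respectTransparency false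
set_option backward.isDefEq.respectTransparency.types false
set_option maxHeartbeats 800000

universe u

open CategoryTheory CategoryTheory.Limits AlgebraicGeometry TopologicalSpace Opposite
open Groth.Agent.H23 Groth.Agent.H23.TrivBasic

noncomputable section

namespace Groth.Agent.SurfRows

open Groth.Agent

attribute [local instance] PicMul.clMonoid

/-- A closed subscheme inside an open over which a morphism is an isomorphism lifts isomorphically. -/
theorem exists_lift_iso {X Y : Scheme.{u}} (φ : Y ⟶ X) [IsSeparated φ] (U : X.Opens) [IsIso (φ ∣_ U)]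
    (I : X.IdealSheafData) (hIU : (I.support : Set X) ⊆ U) :
    ∃ j : I.subscheme ⟶ Y, IsClosedImmersion j ∧ j ≫ φ = I.subschemeι ∧ j.ker = I.comap φ := by
  let i := I.subschemeι
  have hr : Set.range i ⊆ Set.range U.ι := by
    rw [Scheme.Opens.range_ι]
    rintro _ ⟨z, rfl⟩
    exact hIU (I.range_subschemeι.le ⟨z, rfl⟩)
  let l := IsOpenImmersion.lift U.ι i hr
  let j := l ≫ inv (φ ∣_ U) ≫ (φ ⁻¹ᵁ U).ι
  have hj : j ≫ φ = i := by
    simp only [j, Category.assoc]
    rw [← morphismRestrict_ι, IsIso.inv_hom_id_assoc, IsOpenImmersion.lift_fac]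
  haveI : IsClosedImmersion (j ≫ φ) := by rw [hj]; infer_instance
  haveI hjc : IsClosedImmersion j := IsClosedImmersion.of_comp j φ
  refine ⟨j, hjc, hj, ?_⟩
  let a := pullback.fst φ i
  let b := pullback.snd φ i
  have hra : Set.range a ⊆ Set.range (φ ⁻¹ᵁ U).ι := by
    rw [Scheme.Opens.range_ι]
    rintro _ ⟨z, rfl⟩
    show φ (a z) ∈ U
    rw [show φ (a z) = i (b z) from congr($(pullback.condition (f := φ) (g := i)) z)]
    exact hIU (I.range_subschemeι.le ⟨_, rfl⟩)
  let a' := IsOpenImmersion.lift (φ ⁻¹ᵁ U).ι a hra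
  have ha : a = b ≫ j := by
    have h1 : a' ≫ (φ ∣_ U) = b ≫ l := by
      rw [← cancel_mono U.ι, Category.assoc, Category.assoc, morphismRestrict_ι, IsOpenImmersion.lift_fac_assoc,
        IsOpenImmersion.lift_fac]
      exact pullback.condition
    rw [← IsOpenImmersion.lift_fac (φ ⁻¹ᵁ U).ι a hra]
    simp only [j]
    rw [← reassoc_of% h1, IsIso.hom_inv_id_assoc]
  haveI : IsIso b := ⟨pullback.lift j (𝟙 _) (by rw [Category.id_comp]; exact hj), by
    apply pullback.hom_ext
    · rw [Category.assoc, pullback.lift_fst, Category.id_comp]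
      exact ha.symm
    · rw [Category.assoc, pullback.lift_snd, Category.id_comp, Category.comp_id], pullback.lift_snd _ _ _⟩
  show j.ker = a.ker
  rw [ha]
  exact (Scheme.Hom.ker_comp_of_isIso b j).symm

variable (k : Type u) [Field k] {X Y : Scheme.{u}} [X.Over (Spec (CommRingCat.of k))] [Y.Over (Spec (CommRingCat.of k))]
  [IsProper (X ↘ Spec (CommRingCat.of k))] [IsProper (Y ↘ Spec (CommRingCat.of k))]
  (φ : Y ⟶ X) (hφ : φ ≫ (X ↘ Spec (CommRingCat.of k)) = Y ↘ Spec (CommRingCat.of k)) (U : X.Opens) [IsIso (φ ∣_ U)]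

include hφ in
/-- Euler characteristics on a divisor in the open where the modification is an isomorphism. -/
theorem euler_quot_pullback [IsSeparated φ] (I : X.IdealSheafData) (hIU : (I.support : Set X) ⊆ U) {M : X.Modules}
    (hM : PicF.IsInvertible M) :
    Curv2.euler k X (CohB1.tensorMod M (ClSub.quotMod I)) =
      Curv2.euler k Y (CohB1.tensorMod ((Scheme.Modules.pullback φ).obj M) (ClSub.quotMod (I.comap φ))) := by
  obtain ⟨j, hj, hjφ, hker⟩ := exists_lift_iso φ U I hIU
  haveI := hj
  let i := I.subschemeι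
  letI : I.subscheme.Over (Spec (CommRingCat.of k)) := ⟨i ≫ (X ↘ (Spec (CommRingCat.of k)))⟩
  haveI := CurveCohLib.isNoetherian_of_proper (k := k) (X := X)
  haveI : IsLocallyNoetherian I.subscheme := LocallyOfFiniteType.isLocallyNoetherian i
  obtain ⟨e₁⟩ := tensor_quot_iso_push i (M := M)
  obtain ⟨e₂⟩ := tensor_quot_iso_push j (M := (Scheme.Modules.pullback φ).obj M)
  have hMi : Coh.IsQCoh ((Scheme.Modules.pullback i).obj M) :=
    (AmpleVan.isCoh_invertible (PicClLib.isInvertible_pullback i hM)).1
  have hMj : Coh.IsQCoh ((Scheme.Modules.pullback j).obj ((Scheme.Modules.pullback φ).obj M)) :=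
    (AmpleVan.isCoh_invertible (PicClLib.isInvertible_pullback j (PicClLib.isInvertible_pullback φ hM))).1
  have h1 := (CurveCohLib.euler_congr (k := k) e₁).trans (Pic13Lib.euler_push i rfl hMi)
  have h2 := (CurveCohLib.euler_congr (k := k) e₂).trans (Pic13Lib.euler_push j (by
    rw [← hφ, ← Category.assoc, hjφ]; rfl) hMj)
  rw [Scheme.IdealSheafData.ker_subschemeι] at h1
  rw [hker] at h2
  rw [h1, h2]
  exact CurveCohLib.euler_congr (k := k)
    ((Scheme.Modules.pullbackCongr hjφ.symm).app M ≪≫ ((Scheme.Modules.pullbackComp j φ).app M).symm)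

include hφ in
/-- A modification in finitely many points changes Euler characteristics of invertible modules by a constant. -/
theorem euler_pullback_sub [IsIntegral X] [IsIntegral Y] (hdim : topologicalKrullDim X ≤ 2)
    (hdimY : topologicalKrullDim Y ≤ 2) (hgen : φ (genericPoint Y) = genericPoint X)
    {H : X.Modules} (hH : CohB1.IsAmple H) (hU : ((U : Set X)ᶜ).Finite) {L : X.Modules} (hL : PicF.IsInvertible L) :
    Curv2.euler k Y ((Scheme.Modules.pullback φ).obj L) - Curv2.euler k Y (Coh.structureModule Y) =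
      Curv2.euler k X L - Curv2.euler k X (Coh.structureModule X) := by
  haveI := CurveCohLib.isNoetherian_of_proper (k := k) (X := X)
  haveI := CurveCohLib.isNoetherian_of_proper (k := k) (X := Y)
  haveI : X.IsSeparated := ⟨by
    rw [← Limits.terminal.comp_from (X ↘ Spec (CommRingCat.of k))]
    infer_instance⟩
  haveI : IsProper (φ ≫ (X ↘ Spec (CommRingCat.of k))) := by rw [hφ]; infer_instance
  haveI : IsProper φ := IsProper.of_comp φ (X ↘ Spec (CommRingCat.of k))
  let P : PicF.Cl X → PicF.Cl Y := PicF.pullCl φ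
  have hP1 : P 1 = 1 := PicMul.pullCl_one φ
  have hPm : ∀ a b, P (a * b) = P a * P b := PicMul.pullCl_mul φ
  let g : PicF.Cl X → ℤ := fun a =>
    SurfPairing.χ k (P a) - SurfPairing.χ k (1 : PicF.Cl Y) - (SurfPairing.χ k a - SurfPairing.χ k (1 : PicF.Cl X))
  have hg1 : g 1 = 0 := by simp only [g, hP1, sub_self]
  have hgm : ∀ a b, g (a * b) = g a + g b + (SurfPairing.pair k (P a) (P b) - SurfPairing.pair k a b) := fun a b => by
    simp only [g, hPm, SurfPairing.pair]
    ring
  -- divisors in the open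
  have hdiv : ∀ I : X.IdealSheafData, BlowUp.IsEffCartierIdeal I → (I.support : Set X) ⊆ U →
      g (PicF.cl (ClSub.idealMod I)) = 0 ∧ ∀ M : X.Modules, PicF.IsInvertible M →
        SurfPairing.pair k (P (PicF.cl (ClSub.idealMod I))) (P (PicF.cl M)) =
          SurfPairing.pair k (PicF.cl (ClSub.idealMod I)) (PicF.cl M) := by
    intro I hI hIU
    have hIY : BlowUp.IsEffCartierIdeal (I.comap φ) := Groth.Agent.S8862.result φ I hI fun ξ hξ => by
      rw [← hξ _ (genericPoint_specializes ξ), hgen]
      exact ParShLib.genericPoint_notMem_support I hI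
    obtain ⟨e⟩ := H26.InterDiv.nonempty_pullback_idealMod φ I hI hIY
    have hPI : P (PicF.cl (ClSub.idealMod I)) = PicF.cl (ClSub.idealMod (I.comap φ)) := PicMul.cl_eq_iff.2 ⟨e⟩
    have hIi := (S8914.result I).2 hI
    have hIYi := (S8914.result _).2 hIY
    have hq : Curv2.euler k X (ClSub.quotMod I) = Curv2.euler k Y (ClSub.quotMod (I.comap φ)) := by
      have h := euler_quot_pullback k φ hφ U I hIU InvX.isInvertible_structureModule
      obtain ⟨e0⟩ := PicClLib.nonempty_pullback_structureModule φ
      have a1 : PicF.cl (CohB1.tensorMod (Coh.structureModule X) (ClSub.quotMod I)) = PicF.cl (ClSub.quotMod I) := by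
        rw [PicMul.cl_tensor, ← PicMul.one_def, one_mul]
      have a2 : PicF.cl (CohB1.tensorMod ((Scheme.Modules.pullback φ).obj (Coh.structureModule X))
          (ClSub.quotMod (I.comap φ))) = PicF.cl (ClSub.quotMod (I.comap φ)) := by
        rw [PicMul.cl_tensor, PicMul.cl_eq_iff.2 ⟨e0⟩, ← PicMul.one_def, one_mul]
      rwa [← SurfPairing.χ_cl, ← SurfPairing.χ_cl, a1, a2] at h
    refine ⟨?_, fun M hM => ?_⟩
    · simp only [g, hPI, SurfPairing.χ_cl, SurfPairing.χ_one]
      have h1 := euler_quot_eq k I hI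
      have h2 := euler_quot_eq k (I.comap φ) hIY
      linarith
    · have hMY := PicClLib.isInvertible_pullback φ hM
      have h1 := SurfNegDef.euler_quot_tensor (k := k) I hIi hM
      have h2 := SurfNegDef.euler_quot_tensor (k := k) (I.comap φ) hIYi hMY
      have h3 := euler_quot_pullback k φ hφ U I hIU hM
      obtain ⟨c1⟩ := PicMul.comm (ClSub.quotMod I) M
      obtain ⟨c2⟩ := PicMul.comm (ClSub.quotMod (I.comap φ)) ((Scheme.Modules.pullback φ).obj M)
      rw [CurveCohLib.euler_congr (k := k) c1] at h1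
      rw [CurveCohLib.euler_congr (k := k) c2] at h2
      rw [hPI]
      show SurfPairing.pair k (PicF.cl (ClSub.idealMod (I.comap φ))) (PicF.cl ((Scheme.Modules.pullback φ).obj M)) = _
      linarith
  -- ample modules
  have hamp : ∀ A : X.Modules, CohB1.IsAmple A → g (PicF.cl A) = 0 ∧ ∀ M : X.Modules, PicF.IsInvertible M →
      SurfPairing.pair k (P (PicF.cl A)) (P (PicF.cl M)) = SurfPairing.pair k (PicF.cl A) (PicF.cl M) := by
    intro A hA
    obtain ⟨n, s, hs, -, -⟩ := AmpleX.exists_finite_nhd hA (hU.union (Set.finite_singleton (genericPoint X)))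
      (U := (⊤ : X.Opens)) fun _ _ => trivial
    let N := CohB1.tensorPow A (n + 1)
    have hN : PicF.IsInvertible N := PicMul.isInvertible_tensorPow hA.1 (n + 1)
    obtain ⟨t, ht, htU⟩ : ∃ t : Γ(N, ⊤), t ≠ 0 ∧ (U : Set X)ᶜ ⊆ locus t := by
      have hloc : ∀ z ∈ (U : Set X)ᶜ ∪ {genericPoint X}, z ∈ locus (InvX.one s) := fun z hz => by
        show z ∈ CohB1.genLocus _ (InvX.ofSect (InvX.one s))
        rw [AVAmple.ofSect_one]
        exact hs hz
      exact ⟨InvX.one s, Nakai.ne_zero_of_mem_locus (hloc _ (Or.inr rfl)), fun z hz => hloc z (Or.inl hz)⟩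
    obtain ⟨N', hN', eN⟩ := PicInv.exists_inverse hN
    obtain ⟨I, hI, hIs, hinv⟩ := AffCompl.exists_ideal_of_section hN hN' eN ht
    have hIU : (I.support : Set X) ⊆ U := by
      rw [hIs]
      exact Set.compl_subset_comm.1 htU
    obtain ⟨hg, hp⟩ := hdiv I hI hIU
    have hIi := (S8914.result I).2 hI
    have hcl : PicF.cl N * PicF.cl (ClSub.idealMod I) = 1 := (CurveOnSurf.isInvertible_of_inverse hIi hinv).2
    have hpN : ∀ M : X.Modules, PicF.IsInvertible M →
        SurfPairing.pair k (P (PicF.cl N)) (P (PicF.cl M)) = SurfPairing.pair k (PicF.cl N) (PicF.cl M) := fun M hM => by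
      have h1 := SurfPairing.pair_inv k hdim hM hIi hN (by rw [mul_comm]; exact hcl)
      have h2 := SurfPairing.pair_inv k hdimY (PicClLib.isInvertible_pullback φ hM)
        (PicClLib.isInvertible_pullback φ hIi) (PicClLib.isInvertible_pullback φ hN)
        (show P (PicF.cl (ClSub.idealMod I)) * P (PicF.cl N) = 1 by rw [← hPm, mul_comm, hcl, hP1])
      rw [SurfPairing.pair_comm, SurfPairing.pair_comm k (PicF.cl N), h1]
      refine h2.trans (congrArg Neg.neg ?_)
      rw [SurfPairing.pair_comm, SurfPairing.pair_comm k (PicF.cl M)]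
      exact hp M hM
    have hpA : ∀ M : X.Modules, PicF.IsInvertible M →
        SurfPairing.pair k (P (PicF.cl A)) (P (PicF.cl M)) = SurfPairing.pair k (PicF.cl A) (PicF.cl M) := fun M hM => by
      have h1 := hpN M hM
      rw [SurfPairing.pair_comm, SurfPairing.pair_comm k (PicF.cl N), SurfAmple.pair_pow hdim hM hA.1] at h1
      have h2 : P (PicF.cl N) = PicF.cl (CohB1.tensorPow ((Scheme.Modules.pullback φ).obj A) (n + 1)) := by
        rw [PicMul.cl_tensorPow, PicMul.cl_tensorPow]
        exact PicMul.pullCl_pow φ _ _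
      rw [h2] at h1
      have h3 := (SurfAmple.pair_pow hdimY (PicClLib.isInvertible_pullback φ hM)
        (PicClLib.isInvertible_pullback φ hA.1) (n + 1)).symm.trans h1
      rw [SurfPairing.pair_comm, SurfPairing.pair_comm k (PicF.cl A)]
      exact mul_left_cancel₀ (by exact_mod_cast Nat.succ_ne_zero n) h3
    refine ⟨?_, hpA⟩
    have hgN : g (PicF.cl N) = 0 := by
      have h := hgm (PicF.cl N) (PicF.cl (ClSub.idealMod I))
      rw [hcl, hg1, hg, hpN _ hIi, sub_self] at h
      linarith
    have hgpow : ∀ m : ℕ, g (PicF.cl A ^ m) = m * g (PicF.cl A) := fun m => by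
      induction m with
      | zero => simp [hg1]
      | succ m ih =>
        rw [pow_succ, hgm, ih, SurfPairing.pair_comm k (P _), SurfPairing.pair_comm k (PicF.cl A ^ m),
          ← PicMul.cl_tensorPow, hpA _ (PicMul.isInvertible_tensorPow hA.1 m), sub_self]
        push_cast
        ring
    have h := hgpow (n + 1)
    rw [← PicMul.cl_tensorPow, hgN] at h
    exact (mul_eq_zero.1 h.symm).resolve_left (by exact_mod_cast Nat.succ_ne_zero n)
  -- all modules
  haveI : CompactSpace X := hH.2.1
  obtain ⟨m, hm, hA⟩ := AmpleX.eventually_ample_tensor hH hL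
  obtain ⟨hA, -⟩ := hA (m + 1) (Nat.le_succ m)
  obtain ⟨hgA, -⟩ := hamp _ hA
  obtain ⟨hgP, hpP⟩ := hamp _ (AmpleX.isAmple_tensorPow hH (Nat.succ_pos m))
  rw [PicMul.cl_tensor, hgm, hgP, hpP L hL, sub_self] at hgA
  have hfin : g (PicF.cl L) = 0 := by linarith
  simp only [g, SurfPairing.χ_one] at hfin
  show SurfPairing.χ k (P (PicF.cl L)) - _ = SurfPairing.χ k (PicF.cl L) - _
  linarith

end Groth.Agent.SurfRows
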