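import Groth.Agent.SurfRows.RatConfig

/-!
Euler characteristics of divisors and configurations of curves.
-/

set_option autoImplicit false
set_option linter.style.haveILetI false
set_option linter.unusedSectionVars false
set_option backward.isDefEq.respectTransparency false
set_option backward.isDefEq.respectTransparency.types false
set_option maxHeartbeats 1000000

universe u

open CategoryTheory CategoryTheory.Limits AlgebraicGeometry TopologicalSpace Opposite
open Groth.Agent.H23 Groth.Agent.H23.TrivBasic

noncomputable section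

namespace Groth.Agent.SurfRows

open Groth.Agent

attribute [local instance] PicMul.clMonoid

variable (k : Type u) [Field k] [IsAlgClosed k] {X : Scheme.{u}} [X.Over (Spec (CommRingCat.of k))]
  [IsProper (X ↘ Spec (CommRingCat.of k))] [Smooth (X ↘ Spec (CommRingCat.of k))] [IsIntegral X]

include k in
theorem one_le_h0 {D : X.IdealSheafData} (hD0 : D ≠ ⊤) :
    1 ≤ Module.finrank k (Coh.HH X (ClSub.quotMod D) 0) := by
  haveI := CurveCohLib.isNoetherian_of_proper (k := k) (X := X)
  haveI := CurveCohLib.finite_HH (k := k) (ParShLib.isCoh_quotMod D) 0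
  refine Nat.one_le_iff_ne_zero.2 fun h0 => ?_
  haveI : Nonempty D.subscheme := by
    by_contra hne
    rw [not_nonempty_iff] at hne
    refine hD0 ((Scheme.IdealSheafData.support_eq_bot_iff (I := D)).1 (eq_bot_iff.2 fun x hx => ?_))
    obtain ⟨z, -⟩ := (Scheme.IdealSheafData.range_subschemeι D).ge hx
    exact isEmptyElim z
  haveI : Subsingleton (Coh.HH X (ClSub.quotMod D) 0) := Module.finrank_zero_iff.1 h0
  exact CurveOnSurf.mapLin_toSubscheme_ne_zero (k := k) D (LinearMap.ext fun _ => Subsingleton.elim _ _)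

theorem cl_one_tensor (M : X.Modules) :
    PicF.cl (CohB1.tensorMod (Coh.structureModule X) M) = PicF.cl M := by
  rw [PicMul.cl_tensor, ← PicMul.one_def, one_mul]

/-- The Euler characteristic of a divisor. -/
theorem euler_eq_prod (hdim : topologicalKrullDim X = 2) (s : Multiset X.IdealSheafData)
    (hs : ∀ C ∈ s, IsIntegral C.subscheme ∧ topologicalKrullDim (C.support : Set X) = 1) :
    Curv2.euler k X (ClSub.quotMod s.prod) =
      (Module.finrank k (Coh.HH X (ClSub.quotMod s.prod) 0) : ℤ) -
        Module.finrank k (Coh.HH X (ClSub.quotMod s.prod) 1) := by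
  rw [Euler.euler_eq_sum k _ 2 fun i hi =>
    hh_congr k (cl_one_tensor _) i (dim_prod k hdim s hs InvX.isInvertible_structureModule i hi)]
  simp only [Finset.sum_range_succ, Finset.sum_range_zero]
  ring

theorem euler_curve_le_one (hdim : topologicalKrullDim X = 2) {C : X.IdealSheafData} (hint : IsIntegral C.subscheme)
    (hd : topologicalKrullDim (C.support : Set X) = 1) : Curv2.euler k X (ClSub.quotMod C) ≤ 1 := by
  have hs : ∀ D ∈ ({C} : Multiset X.IdealSheafData), IsIntegral D.subscheme ∧ topologicalKrullDim (D.support : Set X) = 1 :=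
    fun D hD => by rw [Multiset.mem_singleton.1 hD]; exact ⟨hint, hd⟩
  have h := euler_eq_prod k hdim {C} hs
  rw [Multiset.prod_singleton] at h
  have h0 := (h0_curve k hdim hint hd InvX.isInvertible_structureModule
    (by rw [← PicMul.one_def, SurfPairing.pair_one])).1
  rw [h0_congr k (cl_one_tensor _)] at h0
  omega

theorem euler_curve_eq_one (hdim : topologicalKrullDim X = 2) {C : X.IdealSheafData} (hint : IsIntegral C.subscheme)
    (hd : topologicalKrullDim (C.support : Set X) = 1) (h1 : Subsingleton (Coh.HH X (ClSub.quotMod C) 1)) :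
    Curv2.euler k X (ClSub.quotMod C) = 1 := by
  have hs : ∀ D ∈ ({C} : Multiset X.IdealSheafData), IsIntegral D.subscheme ∧ topologicalKrullDim (D.support : Set X) = 1 :=
    fun D hD => by rw [Multiset.mem_singleton.1 hD]; exact ⟨hint, hd⟩
  have h := euler_eq_prod k hdim {C} hs
  rw [Multiset.prod_singleton, Module.finrank_zero_of_subsingleton (M := Coh.HH X (ClSub.quotMod C) 1)] at h
  have hne : C ≠ ⊤ := by
    have := ne_top_of_mem (Multiset.mem_singleton_self C) hint
    rwa [Multiset.prod_singleton] at this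
  have h0 := one_le_h0 k hne
  have hle := euler_curve_le_one k hdim hint hd
  omega

/-- In a divisor of positive Euler characteristic some rational curve can be peeled. -/
theorem exists_peel (hdim : topologicalKrullDim X = 2) (s : Multiset X.IdealSheafData)
    (hs : ∀ C ∈ s, IsIntegral C.subscheme ∧ topologicalKrullDim (C.support : Set X) = 1)
    (hpos : 0 < Curv2.euler k X (ClSub.quotMod s.prod)) :
    ∃ C ∈ s, ∀ t, s = C ::ₘ t →
      SurfPairing.pair k (PicF.cl (ClSub.idealMod C)) (PicF.cl (ClSub.idealMod t.prod)) ≤ 1 := by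
  by_contra hcon
  push Not at hcon
  have hsum : (s.map fun C => 2 * Curv2.euler k X (ClSub.quotMod C) +
      SurfPairing.pair k (PicF.cl (ClSub.idealMod C)) (PicF.cl (ClSub.idealMod C))
      - SurfPairing.pair k (PicF.cl (ClSub.idealMod C)) (PicF.cl (ClSub.idealMod s.prod))).sum ≤
      (s.map fun _ => (0 : ℤ)).sum := by
    refine Multiset.sum_map_le_sum_map _ _ fun C hC => ?_
    obtain ⟨t, ht, h2⟩ := hcon C hC
    subst ht
    have htl := fun D hD => hs D (Multiset.mem_cons_of_mem hD)
    obtain ⟨hint, hd⟩ := hs C (Multiset.mem_cons_self _ _)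
    have hCi := SurfNef.invertible_ideal k hdim hint hd
    have hti := (S8914.result _).2 (eff_prod k hdim t htl).1
    rw [Multiset.prod_cons, IdealModMul.cl_mul hCi hti, SurfPairing.pair_mul k hdim.le hCi hCi hti]
    have := euler_curve_le_one k hdim hint hd
    linarith
  rw [← euler_prod k hdim s hs] at hsum
  simp at hsum
  omega

include k in
/-- A curve inside a union of curves is one of them. -/
theorem eq_of_subset_union {r : ℕ} (C : Fin r → X.IdealSheafData) (hCi : ∀ i, IsIntegral (C i).subscheme)
    (hCd : ∀ i, topologicalKrullDim ((C i).support : Set X) = 1) {D : X.IdealSheafData} (hint : IsIntegral D.subscheme)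
    (hd : topologicalKrullDim (D.support : Set X) = 1)
    (hsub : (D.support : Set X) ⊆ ⋃ i, ((C i).support : Set X)) : ∃ i, D = C i := by
  classical
  haveI := hint
  have hirr : IsIrreducible (D.support : Set X) := by
    rw [← Scheme.IdealSheafData.range_subschemeι, ← Set.image_univ]
    exact (IrreducibleSpace.isIrreducible_univ _).image _ D.subschemeι.continuous.continuousOn
  obtain ⟨t, ht, htsub⟩ := isIrreducible_iff_sUnion_isClosed.1 hirr
    (Finset.univ.image fun i => ((C i).support : Set X)) (fun t ht => by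
      obtain ⟨i, -, rfl⟩ := Finset.mem_image.1 ht
      exact (C i).support.isClosed) (fun x hx => by
      obtain ⟨i, hi⟩ := Set.mem_iUnion.1 (hsub hx)
      exact Set.mem_sUnion.2 ⟨_, Finset.mem_coe.2 (Finset.mem_image_of_mem _ (Finset.mem_univ i)), hi⟩)
  obtain ⟨i, -, rfl⟩ := Finset.mem_image.1 ht
  haveI := hCi i
  exact ⟨i, SurfNegDef.eq_of_support_subset k hd (hCd i) htsub⟩

include k in
/-- A divisor supported on a configuration is a combination of its curves. -/
theorem exists_curves_config (hdim : topologicalKrullDim X = 2) {r : ℕ} (C : Fin r → X.IdealSheafData)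
    (hCi : ∀ i, IsIntegral (C i).subscheme) (hCd : ∀ i, topologicalKrullDim ((C i).support : Set X) = 1)
    {Z : X.IdealSheafData} (hZ : BlowUp.IsEffCartierIdeal Z)
    (hZs : (Z.support : Set X) ⊆ ⋃ i, ((C i).support : Set X)) :
    ∃ s : Multiset X.IdealSheafData, (∀ D ∈ s, ∃ i, D = C i) ∧ Z = s.prod := by
  obtain ⟨s, hs, rfl⟩ := exists_curves k hdim hZ
  refine ⟨s, fun D hD => eq_of_subset_union k C hCi hCd (hs D hD).1 (hs D hD).2 (Set.Subset.trans ?_ hZs), rfl⟩
  obtain ⟨t, rfl⟩ := Multiset.exists_cons_of_mem hD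
  rw [Multiset.prod_cons, Scheme.IdealSheafData.support_mul]
  exact Set.subset_union_left

/-- Intersection with a combination of the curves of a configuration. -/
theorem pair_config (hdim : topologicalKrullDim X = 2) {r : ℕ} (C : Fin r → X.IdealSheafData)
    (hC : Function.Injective C) (hCi : ∀ i, IsIntegral (C i).subscheme)
    (hCd : ∀ i, topologicalKrullDim ((C i).support : Set X) = 1) (s : Multiset X.IdealSheafData)
    (hs : ∀ D ∈ s, ∃ i, D = C i) :
    ∃ a : Fin r → ℕ, (∀ i, C i ∈ s ↔ a i ≠ 0) ∧ ∀ M : X.Modules, PicF.IsInvertible M →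
      SurfPairing.pair k (PicF.cl (ClSub.idealMod s.prod)) (PicF.cl M) =
        ∑ i, (a i : ℤ) * SurfPairing.pair k (PicF.cl (ClSub.idealMod (C i))) (PicF.cl M) := by
  classical
  refine ⟨fun i => s.count (C i), fun i => Multiset.one_le_count_iff_mem.symm.trans Nat.one_le_iff_ne_zero,
    fun M hM => ?_⟩
  rw [(eff_prod k hdim s fun D hD => by obtain ⟨i, rfl⟩ := hs D hD; exact ⟨hCi i, hCd i⟩).2 M hM,
    Finset.sum_multiset_map_count]
  simp only [← natCast_zsmul, zsmul_eq_mul, Int.cast_id]
  rw [← Finset.sum_image (g := C)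
    (f := fun D => (s.count D : ℤ) * SurfPairing.pair k (PicF.cl (ClSub.idealMod D)) (PicF.cl M)) hC.injOn]
  refine Finset.sum_subset (fun D hD => ?_) fun D _ hD => ?_
  · obtain ⟨i, rfl⟩ := hs D (Multiset.mem_toFinset.1 hD)
    exact Finset.mem_image_of_mem _ (Finset.mem_univ _)
  · rw [Multiset.count_eq_zero.2 fun h => hD (Multiset.mem_toFinset.2 h), Nat.cast_zero, zero_mul]

/-- A nonzero combination of the curves of a negative definite configuration has negative square. -/
theorem self_neg_config (hdim : topologicalKrullDim X = 2) {r : ℕ} (C : Fin r → X.IdealSheafData)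
    (hC : Function.Injective C) (hCi : ∀ i, IsIntegral (C i).subscheme)
    (hCd : ∀ i, topologicalKrullDim ((C i).support : Set X) = 1)
    (hneg : ∀ a : Fin r → ℤ, a ≠ 0 → ∑ i, ∑ j, a i * a j *
      SurfPairing.pair k (PicF.cl (ClSub.idealMod (C i))) (PicF.cl (ClSub.idealMod (C j))) < 0)
    (s : Multiset X.IdealSheafData) (hs : ∀ D ∈ s, ∃ i, D = C i) (hne : s ≠ 0) :
    SurfPairing.pair k (PicF.cl (ClSub.idealMod s.prod)) (PicF.cl (ClSub.idealMod s.prod)) < 0 := by
  obtain ⟨a, ha, hp⟩ := pair_config k hdim C hC hCi hCd s hs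
  have hsi := (S8914.result _).2 (eff_prod k hdim s fun D hD => by obtain ⟨i, rfl⟩ := hs D hD; exact ⟨hCi i, hCd i⟩).1
  obtain ⟨D, hD⟩ := Multiset.exists_mem_of_ne_zero hne
  obtain ⟨i₀, rfl⟩ := hs D hD
  rw [hp _ hsi]
  refine lt_of_eq_of_lt ?_ (hneg (fun i => (a i : ℤ)) fun h => (ha i₀).1 hD (Int.natCast_eq_zero.1 (congrFun h i₀)))
  refine Finset.sum_congr rfl fun i _ => ?_
  rw [SurfPairing.pair_comm, hp _ (SurfNef.invertible_ideal k hdim (hCi i) (hCd i)), Finset.mul_sum]
  refine Finset.sum_congr rfl fun j _ => ?_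
  rw [SurfPairing.pair_comm k (PicF.cl (ClSub.idealMod (C j)))]
  ring

end Groth.Agent.SurfRows
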