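import Groth.Agent.SurfRows.QuotSeq
import Groth.Agent.AffCompl.Curves
import Groth.Agent.S1659
import Groth.Agent.Lib.IdealModMul

/-!
Effective divisors as sums of integral curves, and numerically connected divisors.
-/

set_option autoImplicit false
set_option linter.style.haveILetI false
set_option linter.unusedSectionVars false
set_option backward.isDefEq.respectTransparency false
set_option backward.isDefEq.respectTransparency.types false
set_option maxHeartbeats 1000000

universe u

open CategoryTheory CategoryTheory.Limits AlgebraicGeometry TopologicalSpace Opposite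
open Groth.Agent.H23 Groth.Agent.H23.TrivBasic

noncomputable section

namespace Groth.Agent.SurfRows

open Groth.Agent

attribute [local instance] PicMul.clMonoid

theorem eq_top_or_le {X : Scheme.{u}} (s : Multiset X.IdealSheafData) {C : X.IdealSheafData} (h : C ∈ s) :
    s.prod ≤ C := by
  obtain ⟨t, rfl⟩ := Multiset.exists_cons_of_mem h
  rw [Multiset.prod_cons]
  exact fun U => Ideal.mul_le_left

variable (k : Type u) [Field k] {X : Scheme.{u}} [X.Over (Spec (CommRingCat.of k))]
  [IsProper (X ↘ Spec (CommRingCat.of k))] [Smooth (X ↘ Spec (CommRingCat.of k))] [IsIntegral X]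

include k in
theorem isEffCartier_curve (hdim : topologicalKrullDim X = 2) {C : X.IdealSheafData} (hint : IsIntegral C.subscheme)
    (hd : topologicalKrullDim (C.support : Set X) = 1) : BlowUp.IsEffCartierIdeal C :=
  (S8914.result C).1 (SurfNef.invertible_ideal k hdim hint hd)

include k in
/-- An effective divisor is a sum of integral curves. -/
theorem exists_curves (hdim : topologicalKrullDim X = 2) {D : X.IdealSheafData} (hD : BlowUp.IsEffCartierIdeal D) :
    ∃ s : Multiset X.IdealSheafData,
      (∀ C ∈ s, IsIntegral C.subscheme ∧ topologicalKrullDim (C.support : Set X) = 1) ∧ D = s.prod := by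
  classical
  haveI := CurveCohLib.isNoetherian_of_proper (k := k) (X := X)
  have hDi := (S8914.result D).2 hD
  obtain ⟨L, hL, hLD⟩ := PicInv.exists_inverse hDi
  obtain ⟨c⟩ := PicMul.comm L (ClSub.idealMod D)
  have hinv : ClSub.IsInverseOf L (ClSub.idealMod D) := let ⟨e⟩ := hLD; ⟨c ≪≫ e⟩
  obtain ⟨s, hs, hloc⟩ := AVAmple.exists_divisor_section_ne_zero D hD hL hinv
  obtain ⟨S, hSf, hSc, hSi, hS⟩ := NoetherianSpace.exists_finite_set_isClosed_irreducible
    (locus s).isOpen.isClosed_compl
  have hη : ∀ t : S, ∃ η : X, η ∉ locus s ∧ VarDim.deg (X ↘ Spec (CommRingCat.of k)) η = 1 ∧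
      (t : Set X) ⊆ closure {η} := fun t => by
    obtain ⟨τ, hτ⟩ := QuasiSober.sober (hSi t t.2) (hSc t t.2)
    obtain ⟨η, hη, hsp, hd⟩ := AffCompl.exists_zero_curve_point k hdim hL hs (x := τ)
      (fun h => (hS.ge ⟨t, t.2, hτ.mem⟩ : τ ∈ (locus s : Set X)ᶜ) h)
    refine ⟨η, hη, hd, ?_⟩
    rw [← hτ.def]
    exact isClosed_closure.closure_subset_iff.2 (Set.singleton_subset_iff.2 (specializes_iff_mem_closure.1 hsp))
  choose g hg hgd hgs using hη
  haveI := hSf.to_subtype
  obtain ⟨n, ⟨e⟩⟩ := Finite.exists_equiv_fin S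
  let f : Fin n → X.IdealSheafData := fun i => AffCompl.curveOf (g (e.symm i))
  have hm : ∀ i, IsIntegral (f i).subscheme ∧ topologicalKrullDim ((f i).support : Set X) = 1 := fun i =>
    ⟨AffCompl.isIntegral_curveOf _, AffCompl.dim_curveOf k (hgd _)⟩
  obtain ⟨a, ha⟩ := S1659.result X D hD n f (fun i => isEffCartier_curve k hdim (hm i).1 (hm i).2)
    (fun i => (hm i).1) (fun x hx => by
      have hxl : x ∈ (locus s : Set X)ᶜ := fun h => (hloc x).1 h hx
      rw [hS] at hxl
      obtain ⟨t, htS, hxt⟩ := hxl
      refine Set.mem_iUnion.2 ⟨e ⟨t, htS⟩, ?_⟩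
      show x ∈ ((AffCompl.curveOf (g (e.symm (e ⟨t, htS⟩)))).support : Set X)
      rw [e.symm_apply_apply, AffCompl.coe_support_curveOf]
      exact hgs _ hxt)
  refine ⟨∑ i, Multiset.replicate (a i) (f i), fun C hC => ?_, ?_⟩
  · obtain ⟨i, -, hi⟩ := Multiset.mem_sum.1 hC
    rw [Multiset.eq_of_mem_replicate hi]
    exact hm i
  · rw [ha, Multiset.prod_sum]
    exact Finset.prod_congr rfl fun i _ => (Multiset.prod_replicate _ _).symm

include k in
theorem eff_prod (hdim : topologicalKrullDim X = 2) (s : Multiset X.IdealSheafData)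
    (hs : ∀ C ∈ s, IsIntegral C.subscheme ∧ topologicalKrullDim (C.support : Set X) = 1) :
    BlowUp.IsEffCartierIdeal s.prod ∧
      (∀ (M : X.Modules), PicF.IsInvertible M → SurfPairing.pair k (PicF.cl (ClSub.idealMod s.prod)) (PicF.cl M) =
        (s.map fun C => SurfPairing.pair k (PicF.cl (ClSub.idealMod C)) (PicF.cl M)).sum) := by
  induction s using Multiset.induction with
  | empty =>
    have h1 : BlowUp.IsEffCartierIdeal ((0 : Multiset X.IdealSheafData).prod) := by
      rw [Multiset.prod_zero, Scheme.IdealSheafData.one_eq_top]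
      intro x
      obtain ⟨U, hU, hxU, -⟩ := exists_isAffineOpen_mem_and_subset (x := x) (U := ⊤) trivial
      exact ⟨⟨U, hU⟩, hxU, 1, one_mem _, by simp⟩
    refine ⟨h1, fun M hM => ?_⟩
    have h2 := (S8914.result _).2 h1
    have hc := IdealModMul.cl_mul h2 h2
    have he : ((0 : Multiset X.IdealSheafData).prod * (0 : Multiset X.IdealSheafData).prod) =
        (0 : Multiset X.IdealSheafData).prod := by rw [Multiset.prod_zero, one_mul]
    rw [he] at hc
    have h3 := SurfPairing.pair_mul k hdim.le hM h2 h2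
    rw [← hc] at h3
    rw [SurfPairing.pair_comm]
    simp only [Multiset.map_zero, Multiset.sum_zero]
    linarith
  | cons C t ih =>
    obtain ⟨ht, hsum⟩ := ih fun D hD => hs D (Multiset.mem_cons_of_mem hD)
    have hCi := SurfNef.invertible_ideal k hdim (hs C (Multiset.mem_cons_self _ _)).1 (hs C (Multiset.mem_cons_self _ _)).2
    have hti := (S8914.result _).2 ht
    rw [Multiset.prod_cons]
    refine ⟨(S8914.result _).1 (IdealModMul.isInvertible_mul hCi hti), fun M hM => ?_⟩
    rw [IdealModMul.cl_mul hCi hti, Multiset.map_cons, Multiset.sum_cons, ← hsum M hM, SurfPairing.pair_comm k (_ * _),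
      SurfPairing.pair_mul k hdim.le hM hCi hti, SurfPairing.pair_comm k (PicF.cl M), SurfPairing.pair_comm k (PicF.cl M)]

theorem ne_top_of_mem {s : Multiset X.IdealSheafData} {C : X.IdealSheafData} (h : C ∈ s)
    (hint : IsIntegral C.subscheme) : s.prod ≠ ⊤ := fun ht => by
  have hC : C = ⊤ := top_le_iff.1 (ht.symm.le.trans (eq_top_or_le s h))
  haveI := hint
  obtain ⟨z⟩ : Nonempty C.subscheme := inferInstance
  have hz : C.subschemeι z ∈ C.support := by
    have h' : C.subschemeι z ∈ Set.range C.subschemeι := ⟨z, rfl⟩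
    rwa [Scheme.IdealSheafData.range_subschemeι] at h'
  have hb : C.support = ⊥ := by rw [hC, Scheme.IdealSheafData.support_top]
  exact (hb.le hz : C.subschemeι z ∈ (⊥ : Closeds X))

end Groth.Agent.SurfRows
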