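import Groth.Agent.SurfRows.Decomp
import Groth.Agent.GeomField.GlobalFunctions

/-!
Sections on numerically connected divisors (Ramanujam's lemma).
-/

set_option autoImplicit false
set_option linter.style.haveILetI false
set_option linter.unusedSectionVars false
set_option backward.isDefEq.respectTransparency false
set_option backward.isDefEq.respectTransparency.types false
set_option maxHeartbeats 1000000

universe u

open CategoryTheory CategoryTheory.Limits AlgebraicGeometry TopologicalSpace Opposite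
open Groth.Agent.H23 Groth.Agent.H23.TrivBasic
open Groth.Agent.PnCoh.Finite (mapLin)

noncomputable section

namespace Groth.Agent.SurfRows

open Groth.Agent

attribute [local instance] PicMul.clMonoid

/-- A section which maps to an invertible function on a closed subscheme generates near its points. -/
theorem mem_locus_of_map {X Z C : Scheme.{u}} (i : Z ⟶ X) [IsClosedImmersion i] (j : C ⟶ X)
    [IsClosedImmersion j] {N : Z.Modules} (hN : PicF.IsInvertible N) (σ : Γ((Scheme.Modules.pushforward i).obj N, ⊤))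
    (g : (Scheme.Modules.pushforward i).obj N ⟶ (Scheme.Modules.pushforward j).obj (Coh.structureModule C))
    (hc : IsUnit (show Γ(C, ⊤) from g.app ⊤ σ)) (z : Z) (c : C) (hzc : i z = j c) :
    z ∈ locus (show Γ(N, ⊤) from σ) := by
  obtain ⟨V₀, hz, ε₀, hε₀⟩ := InvX.exists_frame hN z
  obtain ⟨U₀, hU₀, hU₀V⟩ := i.isClosedEmbedding.isInducing.isOpen_iff.1 V₀.2
  have hxU₀ : i z ∈ U₀ := by
    have hz' : z ∈ i ⁻¹' U₀ := hU₀V.ge hz
    exact hz'
  obtain ⟨U, hU, hxU, hUU₀⟩ := exists_isAffineOpen_mem_and_subset (x := i z) (U := (⟨U₀, hU₀⟩ : X.Opens)) hxU₀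
  have hle : i ⁻¹ᵁ U ≤ V₀ := fun w hw => hU₀V.le (show w ∈ i ⁻¹' U₀ from hUU₀ hw)
  have hε := hε₀.res hle
  obtain ⟨a, ha⟩ := hε.exists_coord le_rfl (AModX.res N (le_top : i ⁻¹ᵁ U ≤ ⊤) (show Γ(N, ⊤) from σ))
  rw [AModX.res_self] at ha
  obtain ⟨b, hb⟩ := i.app_surjective U hU a
  let e : Γ((Scheme.Modules.pushforward i).obj N, U) := AModX.res N hle ε₀
  let s : Γ((Scheme.Modules.pushforward i).obj N, ⊤) := σ
  have hs : AModX.res ((Scheme.Modules.pushforward i).obj N) (le_top : U ≤ ⊤) s = b • e := by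
    show AModX.res N _ (show Γ(N, ⊤) from σ) = (i.app U b) • AModX.res N hle ε₀
    rw [hb]
    exact ha
  have h1 := congrArg (g.app U) hs
  rw [Scheme.Modules.Hom.app_smul, AModX.app_res] at h1
  have hu : IsUnit (show Γ(C, j ⁻¹ᵁ U) from
      AModX.res ((Scheme.Modules.pushforward j).obj (Coh.structureModule C)) (le_top : U ≤ ⊤) (g.app ⊤ s)) :=
    hc.map (C.presheaf.map (homOfLE (le_top : j ⁻¹ᵁ U ≤ ⊤)).op).hom
  rw [h1] at hu
  have hu' : IsUnit (j.app U b) := isUnit_of_mul_isUnit_left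
    (show IsUnit (j.app U b * (show Γ(C, j ⁻¹ᵁ U) from g.app U e)) from hu)
  have hcU : c ∈ j ⁻¹ᵁ U := show j c ∈ U from hzc ▸ hxU
  have hb' : c ∈ C.basicOpen (j.app U b) := by
    rw [Scheme.basicOpen_of_isUnit _ hu']; exact hcU
  rw [← Scheme.preimage_basicOpen] at hb'
  have hz' : z ∈ Z.basicOpen (i.app U b) := by
    rw [← Scheme.preimage_basicOpen]
    show i z ∈ X.basicOpen b
    rw [hzc]; exact hb'
  rw [hb] at hz'
  exact ((locus_eq_basicOpen hε ha).ge hz').1

theorem exists_mem_support {X : Scheme.{u}} (l : Multiset X.IdealSheafData) {x : X}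
    (hx : x ∈ (l.prod.support : Set X)) : ∃ C ∈ l, x ∈ (C.support : Set X) := by
  induction l using Multiset.induction with
  | empty =>
    rw [Multiset.prod_zero, Scheme.IdealSheafData.one_eq_top, Scheme.IdealSheafData.support_top] at hx
    exact hx.elim
  | cons C t ih =>
    rw [Multiset.prod_cons, Scheme.IdealSheafData.support_mul] at hx
    rcases hx with hx | hx
    · exact ⟨C, Multiset.mem_cons_self _ _, hx⟩
    · obtain ⟨D, hD, hD'⟩ := ih hx
      exact ⟨D, Multiset.mem_cons_of_mem hD, hD'⟩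

variable (k : Type u) [Field k] [IsAlgClosed k] {X : Scheme.{u}} [X.Over (Spec (CommRingCat.of k))]
  [IsProper (X ↘ Spec (CommRingCat.of k))] [Smooth (X ↘ Spec (CommRingCat.of k))] [IsIntegral X]

/-- A section of the middle term, when the first has none. -/
theorem section_map {T : ShortComplex X.Modules} (hT : T.ShortExact)
    (hX1 : Module.finrank k (Coh.HH X T.X₁ 0) = 0) (hc1 : Coh.IsCoh T.X₁) (hc3 : Coh.IsCoh T.X₃)
    {M : X.Modules} (u : M ≅ T.X₂) (t : Γ(M, ⊤)) (ht : t ≠ 0) :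
    T.g.app ⊤ (u.hom.app ⊤ t) ≠ 0 ∧ Module.finrank k (Coh.HH X T.X₃ 0) ≠ 0 := by
  haveI := CurveCohLib.isNoetherian_of_proper (k := k) (X := X)
  haveI := CurveCohLib.finite_HH (k := k) hc1 0
  haveI := CurveCohLib.finite_HH (k := k) hc3 0
  haveI : Subsingleton (Coh.HH X T.X₁ 0) := Module.finrank_zero_iff.1 hX1
  have hne : T.g.app ⊤ (u.hom.app ⊤ t) ≠ 0 := fun h => by
    let eq2 := Sheaf.H.equiv₀ (Coh.toAb T.X₂) isTerminalTop
    let t₂ : Γ(T.X₂, ⊤) := u.hom.app ⊤ t
    have hn := Sheaf.H.equiv₀_naturality isTerminalTop ((QCoh.toAbFunctor X).map T.g) (eq2.symm t₂)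
    have h1 : mapLin k T.g 0 (eq2.symm t₂) = 0 := by
      apply (Sheaf.H.equiv₀ (Coh.toAb T.X₃) isTerminalTop).injective
      refine Eq.trans hn.symm ?_
      rw [map_zero]
      show T.g.app ⊤ (eq2 (eq2.symm t₂)) = 0
      rw [AddEquiv.apply_symm_apply]
      exact h
    have h2 : eq2.symm t₂ ∈ LinearMap.range (mapLin k T.f 0) := by
      rw [← CurveCohLib.ker_mapLin_g k hT 0]
      exact h1
    obtain ⟨y, hy⟩ := h2
    rw [Subsingleton.elim y 0, map_zero] at hy
    have h3 : t₂ = 0 := eq2.symm.injective (hy.symm.trans (map_zero _).symm)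
    exact ht (QCoh.app_injective u.hom ⊤ (h3.trans (map_zero _).symm))
  refine ⟨hne, fun h3 => hne ?_⟩
  haveI : Subsingleton (Coh.HH X T.X₃ 0) := Module.finrank_zero_iff.1 h3
  haveI : Subsingleton Γ(T.X₃, ⊤) := (Sheaf.H.equiv₀ (Coh.toAb T.X₃) isTerminalTop).symm.toEquiv.subsingleton
  exact Subsingleton.elim _ _

/-- Ramanujam: sections of a module of nonpositive degree on a numerically connected divisor. -/
theorem numConn (hdim : topologicalKrullDim X = 2) {Z : X.IdealSheafData} (hZ : BlowUp.IsEffCartierIdeal Z)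
    (hZ0 : Z ≠ ⊤)
    (hnc : ∀ A B : X.IdealSheafData, BlowUp.IsEffCartierIdeal A → BlowUp.IsEffCartierIdeal B → A ≠ ⊤ → B ≠ ⊤ →
      Z = A * B → 0 < SurfPairing.pair k (PicF.cl (ClSub.idealMod A)) (PicF.cl (ClSub.idealMod B)))
    {L : X.Modules} (hL : PicF.IsInvertible L)
    (hdeg : ∀ C : X.IdealSheafData, IsIntegral C.subscheme → topologicalKrullDim (C.support : Set X) = 1 → Z ≤ C →
      0 ≤ SurfPairing.pair k (PicF.cl (ClSub.idealMod C)) (PicF.cl L)) :
    Module.finrank k (Coh.HH X (CohB1.tensorMod L (ClSub.quotMod Z)) 0) ≤ 1 ∧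
      (Module.finrank k (Coh.HH X (CohB1.tensorMod L (ClSub.quotMod Z)) 0) = 1 →
        Nonempty (CohB1.tensorMod L (ClSub.quotMod Z) ≅ ClSub.quotMod Z)) := by
  classical
  haveI := CurveCohLib.isNoetherian_of_proper (k := k) (X := X)
  obtain ⟨l, hl, hlZ⟩ := exists_curves k hdim hZ
  have hle : ∀ C ∈ l, Z ≤ C := fun C h => hlZ ▸ eq_top_or_le l h
  -- the vanishing
  have key : ∀ (m : ℕ) (A B : Multiset X.IdealSheafData), Multiset.card B ≤ m → A ≠ 0 → A + B = l →
      Module.finrank k (Coh.HH X (CohB1.tensorMod (CohB1.tensorMod L (ClSub.idealMod A.prod))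
        (ClSub.quotMod B.prod)) 0) = 0 := by
    intro m
    induction m with
    | zero =>
      intro A B hB _ _
      rw [Multiset.card_eq_zero.1 (Nat.le_zero.1 hB), Multiset.prod_zero, Scheme.IdealSheafData.one_eq_top]
      exact h0_quot_top k _
    | succ m ih =>
      intro A B hB hA hAB
      rcases eq_or_ne B 0 with rfl | hB0
      · rw [Multiset.prod_zero, Scheme.IdealSheafData.one_eq_top]
        exact h0_quot_top k _
      have hAl : ∀ C ∈ A, C ∈ l := fun C h => hAB ▸ Multiset.mem_add.2 (Or.inl h)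
      have hBl : ∀ C ∈ B, C ∈ l := fun C h => hAB ▸ Multiset.mem_add.2 (Or.inr h)
      obtain ⟨hAe, -⟩ := eff_prod k hdim A fun C h => hl C (hAl C h)
      obtain ⟨hBe, hBs⟩ := eff_prod k hdim B fun C h => hl C (hBl C h)
      obtain ⟨CA, hCA⟩ := Multiset.exists_mem_of_ne_zero hA
      obtain ⟨CB, hCB⟩ := Multiset.exists_mem_of_ne_zero hB0
      have hpos := hnc A.prod B.prod hAe hBe (ne_top_of_mem hCA (hl CA (hAl CA hCA)).1)
        (ne_top_of_mem hCB (hl CB (hBl CB hCB)).1) (by rw [hlZ, ← hAB, Multiset.prod_add])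
      have hAi := (S8914.result _).2 hAe
      rw [SurfPairing.pair_comm, hBs _ hAi] at hpos
      obtain ⟨C, hCB', hC⟩ : ∃ C ∈ B, 0 < SurfPairing.pair k (PicF.cl (ClSub.idealMod C))
          (PicF.cl (ClSub.idealMod A.prod)) := by
        by_contra hcon
        push Not at hcon
        have hsum : (B.map fun C => SurfPairing.pair k (PicF.cl (ClSub.idealMod C))
            (PicF.cl (ClSub.idealMod A.prod))).sum ≤ (B.map fun _ => (0 : ℤ)).sum :=
          Multiset.sum_map_le_sum_map _ _ fun C h => hcon C h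
        simp at hsum
        omega
      obtain ⟨hint, hd⟩ := hl C (hBl C hCB')
      obtain ⟨B', rfl⟩ := Multiset.exists_cons_of_mem hCB'
      have hMi := PicMul.isInvertible_tensor hL hAi
      have hCi := SurfNef.invertible_ideal k hdim hint hd
      have hp : 0 < SurfPairing.pair k (PicF.cl (ClSub.idealMod C))
          (PicF.cl (CohB1.tensorMod L (ClSub.idealMod A.prod))) := by
        rw [PicMul.cl_tensor, SurfPairing.pair_mul k hdim.le hCi hL hAi]
        linarith [hdeg C hint hd (hle C (hBl C hCB'))]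
      have h2 : Module.finrank k (Coh.HH X (CohB1.tensorMod (CohB1.tensorMod L (ClSub.idealMod A.prod))
          (ClSub.quotMod C)) 0) = 0 := by
        by_contra hne
        linarith [((h0_curve k hdim hint hd hMi hp.le).2 hne).1]
      have h1 := ih (C ::ₘ A) B' (by simpa using Nat.le_of_succ_le_succ (by simpa using hB)) (Multiset.cons_ne_zero)
        (by rw [← hAB, Multiset.cons_add, Multiset.add_cons])
      have h1' : Module.finrank k (Coh.HH X (CohB1.tensorMod (CohB1.tensorMod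
          (CohB1.tensorMod L (ClSub.idealMod A.prod)) (ClSub.idealMod C)) (ClSub.quotMod B'.prod)) 0) = 0 := by
        refine Eq.trans (h0_congr k ?_) h1
        rw [Multiset.prod_cons, PicMul.cl_tensor, PicMul.cl_tensor, PicMul.cl_tensor, PicMul.cl_tensor,
          PicMul.cl_tensor, IdealModMul.cl_mul hCi hAi, mul_assoc (PicF.cl L),
          mul_comm (PicF.cl (ClSub.idealMod C))]
      have h := h0_quot_mul_le k C B'.prod (isEffCartier_curve k hdim hint hd) hMi
      rw [Multiset.prod_cons]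
      omega
  -- each curve
  have hC : ∀ C ∈ l, ∃ B : Multiset X.IdealSheafData, Z = C * B.prod ∧
      Module.finrank k (Coh.HH X (CohB1.tensorMod (CohB1.tensorMod L (ClSub.idealMod C))
        (ClSub.quotMod B.prod)) 0) = 0 := fun C h => by
    obtain ⟨B, hB⟩ := Multiset.exists_cons_of_mem h
    refine ⟨B, by rw [hlZ, hB, Multiset.prod_cons], ?_⟩
    have := key _ {C} B le_rfl (by simp) (by rw [hB, Multiset.singleton_add])
    rwa [Multiset.prod_singleton] at this
  have hne : l ≠ 0 := fun h => hZ0 (by rw [hlZ, h, Multiset.prod_zero, Scheme.IdealSheafData.one_eq_top])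
  obtain ⟨C₀, hC₀⟩ := Multiset.exists_mem_of_ne_zero hne
  refine ⟨?_, fun h1 => ?_⟩
  · obtain ⟨B, hB, h0⟩ := hC C₀ hC₀
    have h := h0_quot_mul_le k C₀ B.prod (isEffCartier_curve k hdim (hl _ hC₀).1 (hl _ hC₀).2) hL
    rw [← hB, h0] at h
    have := (h0_curve k hdim (hl _ hC₀).1 (hl _ hC₀).2 hL (hdeg _ (hl _ hC₀).1 (hl _ hC₀).2 (hle _ hC₀))).1
    omega
  let i := Z.subschemeι
  let N := (Scheme.Modules.pullback i).obj L
  have hN : PicF.IsInvertible N := PicClLib.isInvertible_pullback i hL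
  obtain ⟨e₀⟩ := tensor_quot_iso_push i (M := L)
  let eM : CohB1.tensorMod L (ClSub.quotMod Z) ≅ (Scheme.Modules.pushforward i).obj N :=
    eqToIso (by rw [Scheme.IdealSheafData.ker_subschemeι]) ≪≫ e₀
  obtain ⟨τ, hτ⟩ : ∃ τ : Γ((Scheme.Modules.pushforward i).obj N, ⊤), τ ≠ 0 := by
    have h' : Module.finrank k (Coh.HH X ((Scheme.Modules.pushforward i).obj N) 0) ≠ 0 := by
      rw [← (CurveCohLib.hhEquiv (k := k) eM 0).finrank_eq, h1]; exact one_ne_zero
    obtain ⟨φ, hφ⟩ := CurveRR.exists_hom_ne_zero k h'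
    exact ⟨InvX.one φ, fun h => hφ (CurveRR.hom_ext_one h)⟩
  have htop : locus (show Γ(N, ⊤) from τ) = ⊤ := by
    refine top_le_iff.1 fun z _ => ?_
    have hz : i z ∈ (Z.support : Set X) := by
      rw [← Scheme.IdealSheafData.range_subschemeι]; exact ⟨z, rfl⟩
    have hsupp : (Z.support : Set X) = (l.prod.support : Set X) := congrArg (fun J : X.IdealSheafData => (J.support : Set X)) hlZ
    obtain ⟨C, hCl, hzC⟩ := exists_mem_support l (hsupp.le hz)
    obtain ⟨hint, hd⟩ := hl C hCl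
    obtain ⟨B, hB, h0⟩ := hC C hCl
    obtain ⟨T, hT, c1, c2, c3⟩ := exists_quot_ses C B.prod (isEffCartier_curve k hdim hint hd) hL
    rw [← PicMul.cl_tensor, ← PicMul.cl_tensor] at c1
    rw [← PicMul.cl_tensor] at c2 c3
    rw [← hB] at c2
    obtain ⟨e2⟩ := PicMul.cl_eq_iff.1 c2
    have hX1 : Module.finrank k (Coh.HH X T.X₁ 0) = 0 := (h0_congr k c1).trans h0
    obtain ⟨e1⟩ := PicMul.cl_eq_iff.1 c1
    obtain ⟨e3'⟩ := PicMul.cl_eq_iff.1 c3
    let u : (Scheme.Modules.pushforward i).obj N ≅ T.X₂ := eM.symm ≪≫ e2.symm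
    obtain ⟨hne3, hX3⟩ := section_map k hT hX1
      (SheafHomX.isCoh_of_iso e1.symm (isCoh_tensor_quot k
        (PicMul.isInvertible_tensor hL ((S8914.result C).2 (isEffCartier_curve k hdim hint hd))) _))
      (SheafHomX.isCoh_of_iso e3'.symm (isCoh_tensor_quot k hL C)) u τ hτ
    have hC0 : Module.finrank k (Coh.HH X (CohB1.tensorMod L (ClSub.quotMod C)) 0) ≠ 0 :=
      fun h => hX3 ((h0_congr k c3).trans h)
    obtain ⟨-, ⟨q⟩⟩ := (h0_curve k hdim hint hd hL (hdeg C hint hd (hle C hCl))).2 hC0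
    obtain ⟨e3⟩ := PicMul.cl_eq_iff.1 c3
    let g : (Scheme.Modules.pushforward i).obj N ⟶ ClSub.quotMod C := u.hom ≫ T.g ≫ (e3 ≪≫ q).hom
    have hg : g.app ⊤ τ ≠ 0 := fun h =>
      hne3 (QCoh.app_injective (e3 ≪≫ q).hom ⊤ (h.trans (map_zero _).symm))
    letI : C.subscheme.Over (Spec (CommRingCat.of k)) := ⟨C.subschemeι ≫ (X ↘ (Spec (CommRingCat.of k)))⟩
    haveI : IsProper (C.subscheme ↘ Spec (CommRingCat.of k)) :=
      show IsProper (C.subschemeι ≫ (X ↘ Spec (CommRingCat.of k))) from inferInstance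
    haveI := hint
    have hunit : IsUnit (show Γ(C.subscheme, ⊤) from g.app ⊤ τ) := by
      letI := (GeomField.isField_globalFunctions k C.subscheme).toField
      exact isUnit_iff_ne_zero.2 hg
    have hzC' : i z ∈ Set.range C.subschemeι := by rwa [Scheme.IdealSheafData.range_subschemeι]
    obtain ⟨c, hc⟩ := hzC'
    exact mem_locus_of_map i C.subschemeι hN τ g hunit z c hc.symm
  obtain ⟨w⟩ := triv_of_frame (locus_eq_top_iff.1 htop)
  exact ⟨eM ≪≫ (Scheme.Modules.pushforward i).mapIso w⟩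

end Groth.Agent.SurfRows
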