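import Groth.Agent.SurfRows.RatFacts
import Groth.Agent.AffCompl.InterFinite
import Groth.Agent.CurveCohLib.RegularCurve
import Mathlib.Tactic.Positivity

/-!
Zariski's lemma on connected configurations of curves.
-/

set_option autoImplicit false
set_option linter.style.haveILetI false
set_option linter.unusedSectionVars false
set_option backward.isDefEq.respectTransparency false
set_option backward.isDefEq.respectTransparency.types false
set_option maxHeartbeats 800000

universe u

open CategoryTheory CategoryTheory.Limits AlgebraicGeometry TopologicalSpace Opposite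
open Groth.Agent.H23

noncomputable section

namespace Groth.Agent.SurfRows

open Groth.Agent

attribute [local instance] PicMul.clMonoid

/-- Zariski's lemma. -/
theorem zariski_lemma {ι : Type*} [Fintype ι] [DecidableEq ι] (G : ι → ι → ℤ) (hsymm : ∀ i j, G i j = G j i)
    (hoff : ∀ i j, i ≠ j → 0 ≤ G i j)
    (hconn : ∀ S : Finset ι, S.Nonempty → Sᶜ.Nonempty → ∃ i ∈ S, ∃ j ∈ Sᶜ, 1 ≤ G i j)
    (e : ι → ℤ) (he : ∀ i, 0 < e i) (hGe : ∀ i, ∑ j, e j * G i j ≤ 0) (a : ι → ℤ) :
    ∑ i, ∑ j, a i * a j * G i j ≤ 0 ∧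
      (∑ i, ∑ j, a i * a j * G i j = 0 →
        (∀ i j, a i * e j = a j * e i) ∧ ∀ i, a i ≠ 0 → ∑ j, e j * G i j = 0) := by
  classical
  have he' : ∀ i, (0 : ℚ) < e i := fun i => by exact_mod_cast he i
  let c : ι → ℚ := fun i => (a i : ℚ) / e i
  have hc : ∀ i, (a i : ℚ) = c i * e i := fun i => by rw [div_mul_cancel₀ _ (he' i).ne']
  let S : ι → ι → ℚ := fun i j => (e i : ℚ) * e j * G i j * (c i - c j) ^ 2
  let T : ι → ℚ := fun i => (e i : ℚ) * c i ^ 2 * ((∑ j, e j * G i j : ℤ) : ℚ)
  have hS : ∀ i j, 0 ≤ S i j := fun i j => by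
    rcases eq_or_ne i j with rfl | hij
    · simp [S]
    · have h : (0 : ℚ) ≤ G i j := by exact_mod_cast hoff i j hij
      have := he' i; have := he' j
      positivity
  have hT : ∀ i, T i ≤ 0 := fun i =>
    mul_nonpos_of_nonneg_of_nonpos (mul_nonneg (he' i).le (sq_nonneg _)) (by exact_mod_cast hGe i)
  have hQ : 2 * ((∑ i, ∑ j, a i * a j * G i j : ℤ) : ℚ) = 2 * ∑ i, T i - ∑ i, ∑ j, S i j := by
    have h1 : ∀ i j, S i j = (e i : ℚ) * c i ^ 2 * ((e j : ℚ) * G i j) + (e j : ℚ) * c j ^ 2 * ((e i : ℚ) * G j i) -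
        2 * ((a i : ℚ) * a j * G i j) := fun i j => by
      simp only [S, hc, hsymm j i]
      ring
    simp only [h1, Finset.sum_sub_distrib, Finset.sum_add_distrib]
    rw [Finset.sum_comm (f := fun i j => (e j : ℚ) * c j ^ 2 * ((e i : ℚ) * G j i))]
    simp only [T, Int.cast_sum, Int.cast_mul, ← Finset.mul_sum]
    ring
  have hSsum : 0 ≤ ∑ i, ∑ j, S i j := Finset.sum_nonneg fun i _ => Finset.sum_nonneg fun j _ => hS i j
  have hTsum : ∑ i, T i ≤ 0 := Finset.sum_nonpos fun i _ => hT i
  refine ⟨by exact_mod_cast (by linarith : ((∑ i, ∑ j, a i * a j * G i j : ℤ) : ℚ) ≤ 0), fun h0 => ?_⟩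
  rw [h0, Int.cast_zero, mul_zero] at hQ
  have hS0 : ∀ i j, S i j = 0 := fun i j =>
    (Finset.sum_eq_zero_iff_of_nonneg fun j _ => hS i j).1
      ((Finset.sum_eq_zero_iff_of_nonneg fun i _ => Finset.sum_nonneg fun j _ => hS i j).1 (by linarith) i (Finset.mem_univ i))
      j (Finset.mem_univ j)
  have hT0 : ∀ i, T i = 0 := fun i =>
    (Finset.sum_eq_zero_iff_of_nonpos fun i _ => hT i).1 (by linarith) i (Finset.mem_univ i)
  have hcc : ∀ i j, c i = c j := by
    intro i₀ j₀
    by_contra hne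
    obtain ⟨i, hi, j, hj, hij⟩ := hconn (Finset.univ.filter fun i => c i = c i₀)
      ⟨i₀, by simp⟩ ⟨j₀, by simpa using Ne.symm hne⟩
    have h := hS0 i j
    have hG : (1 : ℚ) ≤ G i j := by exact_mod_cast hij
    simp only [S, mul_eq_zero, pow_eq_zero_iff two_ne_zero, sub_eq_zero] at h
    rcases h with ((h | h) | h) | h
    · exact (he' i).ne' h
    · exact (he' j).ne' h
    · linarith
    · exact (Finset.mem_compl.1 hj) (Finset.mem_filter.2 ⟨Finset.mem_univ j, h ▸ (Finset.mem_filter.1 hi).2⟩)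
  refine ⟨fun i j => ?_, fun i hi => ?_⟩
  · have h : (a i : ℚ) * e j = a j * e i := by rw [hc i, hc j, hcc i j]; ring
    exact_mod_cast h
  · have h := hT0 i
    simp only [T, mul_eq_zero, pow_eq_zero_iff two_ne_zero] at h
    rcases h with (h | h) | h
    · exact absurd h (he' i).ne'
    · exact absurd (show (a i : ℚ) = 0 by rw [hc i, h, zero_mul]) (by exact_mod_cast hi)
    · exact_mod_cast h

variable (k : Type u) [Field k] [IsAlgClosed k] {X : Scheme.{u}} [X.Over (Spec (CommRingCat.of k))]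
  [IsProper (X ↘ Spec (CommRingCat.of k))] [Smooth (X ↘ Spec (CommRingCat.of k))] [IsIntegral X]

include k in
/-- Two distinct curves through a common point meet positively. -/
theorem one_le_pair_of_meet (hdim : topologicalKrullDim X = 2) {I J : X.IdealSheafData}
    (hI : IsIntegral I.subscheme) (hId : topologicalKrullDim (I.support : Set X) = 1)
    (hJ : IsIntegral J.subscheme) (hJd : topologicalKrullDim (J.support : Set X) = 1) (hne : I ≠ J)
    {z : X} (hzI : z ∈ I.support) (hzJ : z ∈ J.support) :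
    1 ≤ SurfPairing.pair k (PicF.cl (ClSub.idealMod I)) (PicF.cl (ClSub.idealMod J)) := by
  have hIi := SurfNef.invertible_ideal k hdim hI hId
  have hJi := SurfNef.invertible_ideal k hdim hJ hJd
  have hzs : z ∈ ((I ⊔ J).support : Set X) := by
    rw [Scheme.IdealSheafData.support_sup]
    exact ⟨hzI, hzJ⟩
  have hfin : ((I ⊔ J).support : Set X).Finite := by
    let i' := I.subschemeι
    haveI := hI
    letI : I.subscheme.Over (Spec (CommRingCat.of k)) := ⟨i' ≫ (X ↘ (Spec (CommRingCat.of k)))⟩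
    haveI : IsProper (I.subscheme ↘ Spec (CommRingCat.of k)) :=
      show IsProper (i' ≫ (X ↘ Spec (CommRingCat.of k))) from inferInstance
    haveI := CurveCohLib.isNoetherian_of_proper (k := k) (X := I.subscheme)
    have hrange : Set.range i' = (I.support : Set X) := I.range_subschemeι
    have hd' : topologicalKrullDim I.subscheme = 1 := topologicalKrullDim_subscheme.trans hId
    have hT : IsClosed (i' ⁻¹' (J.support : Set X)) := J.support.isClosed.preimage i'.continuous
    have hclosed : ∀ w ∈ i' ⁻¹' (J.support : Set X), IsClosed ({w} : Set I.subscheme) := fun w hw => by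
      by_contra hw'
      rw [CurveCohLib.eq_genericPoint_of_not_isClosed hd' hw'] at hw
      haveI := hJ
      refine hne (SurfNegDef.eq_of_support_subset k hId hJd fun y hy => ?_)
      obtain ⟨v, rfl⟩ := hrange.ge hy
      exact (genericPoint_specializes v).mem_closed hT hw
    obtain ⟨S', hSf, hSc, hSi, hS⟩ := TopologicalSpace.NoetherianSpace.exists_finite_set_isClosed_irreducible hT
    have hfinT : (i' ⁻¹' (J.support : Set X)).Finite := by
      rw [hS]
      refine hSf.sUnion fun t ht => ?_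
      obtain ⟨τ, hτ⟩ := QuasiSober.sober (hSi t ht) (hSc t ht)
      rw [← hτ.def, (hclosed τ (hS.ge ⟨t, ht, hτ.mem⟩)).closure_eq]
      exact Set.finite_singleton τ
    refine (hfinT.image i').subset fun y hy => ?_
    rw [Scheme.IdealSheafData.support_sup] at hy
    obtain ⟨v, rfl⟩ := hrange.ge hy.1
    exact ⟨v, hy.2, rfl⟩
  have hd2 : ∀ Z ∈ irreducibleComponents (X : Type u), topologicalKrullDim Z = 2 := fun Z hZ => by
    rw [irreducibleComponents_eq_singleton] at hZ
    rw [Set.mem_singleton_iff.1 hZ, (Homeomorph.Set.univ X).isHomeomorph.topologicalKrullDim_eq, hdim]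
  have h := InterFinite.intNum_eq k hd2 (fun x => by
    haveI := SurfHodge.regular k x
    exact AvramovLib.isCM_of_regular _) I J ((S8914.result _).1 hIi) ((S8914.result _).1 hJi) hfin
  rw [SurfPairing.intNum_eq_pair k hdim.le hIi hJi] at h
  rw [h]
  have := one_le_h0 k (D := I ⊔ J) fun htop => by
    rw [htop, Scheme.IdealSheafData.support_top] at hzs
    exact hzs
  exact_mod_cast this

/-- A finite family of curves with connected union has a connected incidence graph. -/
theorem graph_connected (hdim : topologicalKrullDim X = 2) {ι : Type*} [Fintype ι] [DecidableEq ι]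
    (C : ι → X.IdealSheafData) (hC : Function.Injective C) (hint : ∀ i, IsIntegral (C i).subscheme)
    (hd : ∀ i, topologicalKrullDim ((C i).support : Set X) = 1)
    (hconn : _root_.IsPreconnected (⋃ i, ((C i).support : Set X))) (S : Finset ι) (hS : S.Nonempty) (hS' : Sᶜ.Nonempty) :
    ∃ i ∈ S, ∃ j ∈ Sᶜ, 1 ≤ SurfPairing.pair k (PicF.cl (ClSub.idealMod (C i))) (PicF.cl (ClSub.idealMod (C j))) := by
  obtain ⟨i₀, hi₀⟩ := hS
  obtain ⟨j₀, hj₀⟩ := hS'
  have hne : ∀ i, ((C i).support : Set X).Nonempty := fun i => by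
    haveI := hint i
    obtain ⟨z⟩ : Nonempty (C i).subscheme := inferInstance
    exact ⟨_, (C i).range_subschemeι.le ⟨z, rfl⟩⟩
  have hA : IsClosed (⋃ i ∈ S, ((C i).support : Set X)) := isClosed_biUnion_finset fun i _ => (C i).support.isClosed
  have hB : IsClosed (⋃ i ∈ Sᶜ, ((C i).support : Set X)) := isClosed_biUnion_finset fun i _ => (C i).support.isClosed
  obtain ⟨z, hz, hzA, hzB⟩ := (isPreconnected_closed_iff.1 hconn) _ _ hA hB (fun z hz => by
      obtain ⟨i, hi⟩ := Set.mem_iUnion.1 hz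
      by_cases h : i ∈ S
      · exact Or.inl (Set.mem_biUnion h hi)
      · exact Or.inr (Set.mem_biUnion (Finset.mem_compl.2 h) hi))
    (by obtain ⟨z, hz⟩ := hne i₀; exact ⟨z, Set.mem_iUnion.2 ⟨i₀, hz⟩, Set.mem_biUnion hi₀ hz⟩)
    (by obtain ⟨z, hz⟩ := hne j₀; exact ⟨z, Set.mem_iUnion.2 ⟨j₀, hz⟩, Set.mem_biUnion hj₀ hz⟩)
  obtain ⟨i, hi, hzi⟩ := Set.mem_iUnion₂.1 hzA
  obtain ⟨j, hj, hzj⟩ := Set.mem_iUnion₂.1 hzB
  exact ⟨i, hi, j, hj, one_le_pair_of_meet k hdim (hint i) (hd i) (hint j) (hd j)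
    (fun e => (Finset.mem_compl.1 hj) (hC e ▸ hi)) hzi hzj⟩

end Groth.Agent.SurfRows
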