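import Groth.Agent.SurfRows.FibrationNodal
import Groth.Agent.SurfRows.Zariski
import Groth.Agent.SurfRows.Decomp
import Groth.Agent.SurfRows.NumConn
import Groth.Agent.SurfRows.OrthClass

/-!
Fibrations: vertical curves.
-/

set_option autoImplicit false
set_option linter.style.haveILetI false
set_option linter.unusedSectionVars false
set_option backward.isDefEq.respectTransparency false
set_option backward.isDefEq.respectTransparency.types false
set_option maxHeartbeats 1000000

universe u

open CategoryTheory CategoryTheory.Limits AlgebraicGeometry TopologicalSpace Opposite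
open Groth.Agent.H23 Groth.Agent.H23.TrivBasic

noncomputable section

namespace Groth.Agent.SurfRows

open Groth.Agent Groth.Agent.CurveBundle Groth.Agent.CurveSlope Groth.Agent.CurveStable

attribute [local instance] PicMul.clMonoid

variable (k : Type u) [Field k] [IsAlgClosed k]
  {S : Scheme.{u}} [S.Over (Spec (CommRingCat.of k))] [IsProper (S ↘ Spec (CommRingCat.of k))]
  [Smooth (S ↘ Spec (CommRingCat.of k))] [IsIntegral S]
  {C : Scheme.{u}} [C.Over (Spec (CommRingCat.of k))] [IsProper (C ↘ Spec (CommRingCat.of k))]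
  [Smooth (C ↘ Spec (CommRingCat.of k))] [IsIntegral C]
  (f : S ⟶ C) [f.IsOver (Spec (CommRingCat.of k))] [Surjective f]
  (hdim : topologicalKrullDim S = 2) (hdimC : topologicalKrullDim C = 1)
  (hconn : IsIso (ClSub.unitToPush f)) (p : C) (hp : IsClosed ({p} : Set C)) (g : ℕ)
  (hg : Curv2.euler k S (ClSub.quotMod (f.fiberι p).ker) = 1 - (g : ℤ))
  {W : S.Modules} (hW : ExtPow.IsExtPow 2 (Omega.sheaf (S ↘ Spec (CommRingCat.of k))) W)

include k hdimC hconn in
/-- The fibres are connected. -/
theorem fibre_preconnected (c : C) : _root_.IsPreconnected (f ⁻¹' ({c} : Set C)) := by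
  obtain ⟨hpr, hfl, hlfp, hln⟩ := fibred_morphism k f hdimC
  haveI := hpr
  haveI : GeometricallyConnected f := SteinConn.geometricallyConnected_of_bijective_app f fun W _ =>
    ConcreteCategory.bijective_of_isIso ((ClSub.unitToPush f).app W)
  rw [← f.range_fiberι c]
  exact isPreconnected_range (f.fiberι c).continuous

include hdim hdimC in
/-- A pulled back module is orthogonal to a vertical curve. -/
theorem vertical_pullback_pair {N : C.Modules} (hN : PicF.IsInvertible N) (c : C) (hc : IsClosed ({c} : Set C))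
    {D : S.IdealSheafData} (hD : IsIntegral D.subscheme) (hD1 : topologicalKrullDim (D.support : Set S) = 1)
    (hsub : (D.support : Set S) ⊆ f ⁻¹' {c}) :
    SurfPairing.pair k (PicF.cl (ClSub.idealMod D)) (PicF.cl ((Scheme.Modules.pullback f).obj N)) = 0 := by
  haveI := hD
  have hDi := SurfNef.invertible_ideal k hdim hD hD1
  let i := D.subschemeι
  letI : D.subscheme.Over (Spec (CommRingCat.of k)) := ⟨i ≫ (S ↘ (Spec (CommRingCat.of k)))⟩
  haveI : IsProper (D.subscheme ↘ Spec (CommRingCat.of k)) :=
    show IsProper (i ≫ (S ↘ Spec (CommRingCat.of k))) from inferInstance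
  haveI : IsClosedImmersion (C.fromSpecResidueField c) :=
    IsClosedImmersion.of_isPreimmersion _ (by rw [Scheme.range_fromSpecResidueField]; exact hc)
  obtain ⟨q, hq⟩ := H23.RedSub.exists_lift_closed (i ≫ f) (C.fromSpecResidueField c) (by
    rintro _ ⟨z, rfl⟩
    rw [Scheme.range_fromSpecResidueField]
    exact hsub (D.range_subschemeι.le ⟨z, rfl⟩))
  obtain ⟨e₂⟩ := PicMul.cl_eq_iff.1
    ((cl_eq_one_of_subsingleton (PicClLib.isInvertible_pullback (C.fromSpecResidueField c) hN)).trans PicMul.one_def)
  obtain ⟨e₃⟩ := PicClLib.nonempty_pullback_structureModule q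
  let E : (Scheme.Modules.pullback i).obj ((Scheme.Modules.pullback f).obj N) ≅ Coh.structureModule D.subscheme :=
    (Scheme.Modules.pullbackComp i f).app _ ≪≫ (Scheme.Modules.pullbackCongr hq.symm).app _ ≪≫
      ((Scheme.Modules.pullbackComp q (C.fromSpecResidueField c)).app _).symm ≪≫
      (Scheme.Modules.pullback q).mapIso e₂ ≪≫ e₃
  have hp' := CurveOnSurf.pair_ideal (k := k) i (PicClLib.isInvertible_pullback f hN)
    (by rw [Scheme.IdealSheafData.ker_subschemeι]; exact hDi)
  rw [Scheme.IdealSheafData.ker_subschemeι] at hp'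
  rw [hp', CurveRR.deg_congr k E, CurveDeg.deg_structureModule, neg_zero]

variable [HasInjectiveResolutions S.Modules]

include hdim hdimC hconn hp hg hW in
/-- The class of a fibre. -/
theorem fibre_class (c : C) (hc : IsClosed ({c} : Set C)) :
    SurfPairing.pair k (PicF.cl (ClSub.idealMod ((Scheme.IdealSheafData.vanishingIdeal ⟨{c}, hc⟩).comap f))) (PicF.cl W) =
      2 * (1 - (g : ℤ)) := by
  haveI := CurveCohLib.isNoetherian_of_proper (k := k) (X := C)
  have hn : IsIntegrallyClosed (C.presheaf.stalk c) := by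
    haveI := GrpSchLib.isRegularLocalRing_stalk_of_smooth (C ↘ Spec (CommRingCat.of k)) c
    exact RegLoc6.isIntegrallyClosed_of_isRegularLocalRing _
  obtain ⟨hIF, hsupp, horth⟩ := fibre_facts k hdim hdimC f c hc
  obtain ⟨e⟩ := H26.InterDiv.nonempty_pullback_idealMod f _ (CurveEmbed.isEffCartier_point k hdimC hc hn) hIF
  have hd : Curv2.deg k C (CurvePoint.ptMod c hc) 1 = -1 := by
    rw [CurveEmbed.deg_point k hc]
    letI := Curv2.resAlgebra k C c
    rw [← (LinearEquiv.ofBijective (Algebra.linearMap k (C.residueField c))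
      ⟨(Curv2.resMap k C c).injective, CurveSection.surjective_resMap k hc⟩).finrank_eq, Module.finrank_self]
    norm_num
  have h1 := fibration_euler_pullback k f hdim hdimC hconn (CurvePoint.isInvertible_ptMod c hc k hdimC)
  have h2 := fibration_euler_pullback k f hdim hdimC hconn (CurveDeg.isInvertible_structureModule (X := C))
  rw [Euler.euler_congr k (show (Scheme.Modules.pullback f).obj (CurvePoint.ptMod c hc) ≅ _ from e), hd,
    fibration_rk_R1 k f hdim hdimC hconn p hp g hg] at h1
  obtain ⟨u⟩ := PicClLib.nonempty_pullback_structureModule f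
  rw [Euler.euler_congr k u, CurveDeg.deg_structureModule] at h2
  have hI := (S8914.result _).2 hIF
  obtain ⟨s, hs, hse⟩ := exists_curves k hdim hIF
  have hsq : SurfPairing.pair k (PicF.cl (ClSub.idealMod ((Scheme.IdealSheafData.vanishingIdeal ⟨{c}, hc⟩).comap f)))
      (PicF.cl (ClSub.idealMod ((Scheme.IdealSheafData.vanishingIdeal ⟨{c}, hc⟩).comap f))) = 0 := by
    conv_lhs => arg 2; rw [hse]
    rw [(eff_prod k hdim s hs).2 _ hI]
    refine Multiset.sum_eq_zero fun x hx => ?_
    obtain ⟨D, hD, rfl⟩ := Multiset.mem_map.1 hx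
    refine horth D (hs D hD).1 (hs D hD).2 (fun x hx => hsupp.le ?_)
    rw [hse]
    exact Scheme.IdealSheafData.support_antitone (eq_top_or_le s hD) hx
  have hrr := SurfAdj.rr k hdim hW hI
  rw [hsq] at hrr
  linarith

include hdim hdimC hconn hp hg hW in
/-- Vertical curves have non-positive square, and fibre type ones have positive canonical degree. -/
theorem vertical_neg (hg2 : 2 ≤ g) (c : C) (hc : IsClosed ({c} : Set C))
    {D : S.IdealSheafData} (hD : IsIntegral D.subscheme) (hD1 : topologicalKrullDim (D.support : Set S) = 1)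
    (hsub : (D.support : Set S) ⊆ f ⁻¹' {c}) :
    SurfPairing.pair k (PicF.cl (ClSub.idealMod D)) (PicF.cl (ClSub.idealMod D)) ≤ 0 ∧
      (SurfPairing.pair k (PicF.cl (ClSub.idealMod D)) (PicF.cl (ClSub.idealMod D)) = 0 →
        SurfPairing.pair k (PicF.cl (ClSub.idealMod D)) (PicF.cl W) < 0) := by
  classical
  obtain ⟨hIF, hsupp, horth⟩ := fibre_facts k hdim hdimC f c hc
  obtain ⟨s, hs, hse⟩ := exists_curves k hdim hIF
  have hle : ∀ E ∈ s, (E.support : Set S) ⊆ f ⁻¹' {c} := fun E hE x hx => hsupp.le (by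
    rw [hse]
    exact Scheme.IdealSheafData.support_antitone (eq_top_or_le s hE) hx)
  haveI := hD
  have hDs : D ∈ s := by
    obtain ⟨z⟩ : Nonempty D.subscheme := inferInstance
    let x := D.subschemeι (genericPoint D.subscheme)
    have hx : x ∈ (D.support : Set S) := D.range_subschemeι.le ⟨_, rfl⟩
    have hx' : x ∈ (s.prod.support : Set S) := by
      rw [← hse]
      exact hsupp.ge (hsub hx)
    obtain ⟨E, hE, hxE⟩ := exists_mem_support s hx'
    haveI := (hs E hE).1
    have hDE : (D.support : Set S) ⊆ E.support := fun y hy => by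
      obtain ⟨v, rfl⟩ := D.range_subschemeι.ge hy
      exact ((genericPoint_specializes v).map D.subschemeι.continuous).mem_closed E.support.isClosed hxE
    rwa [SurfNegDef.eq_of_support_subset (k := k) hD1 (hs E hE).2 hDE]
  let ι := {E // E ∈ s.toFinset}
  have hmem : ∀ i : ι, i.1 ∈ s := fun i => Multiset.mem_toFinset.1 i.2
  let G : ι → ι → ℤ := fun i j =>
    SurfPairing.pair k (PicF.cl (ClSub.idealMod i.1)) (PicF.cl (ClSub.idealMod j.1))
  let e : ι → ℤ := fun i => s.count i.1
  have hsum : ∀ (M : S.Modules), PicF.IsInvertible M →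
      SurfPairing.pair k (PicF.cl (ClSub.idealMod s.prod)) (PicF.cl M) =
        ∑ i : ι, e i * SurfPairing.pair k (PicF.cl (ClSub.idealMod i.1)) (PicF.cl M) := fun M hM => by
    rw [(eff_prod k hdim s hs).2 M hM, Finset.sum_multiset_map_count]
    rw [← Finset.sum_coe_sort]
    simp only [e, nsmul_eq_mul]
    rfl
  have hGe : ∀ i, ∑ j, e j * G i j ≤ 0 := fun i => le_of_eq (by
    have h := hsum _ (SurfNef.invertible_ideal k hdim (hs _ (hmem i)).1 (hs _ (hmem i)).2)
    rw [← hse, SurfPairing.pair_comm, horth _ (hs _ (hmem i)).1 (hs _ (hmem i)).2 (hle _ (hmem i))] at h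
    refine Eq.trans (Finset.sum_congr rfl fun j _ => ?_) h.symm
    simp only [G, SurfPairing.pair_comm k (PicF.cl (ClSub.idealMod i.1))])
  have hconnU : _root_.IsPreconnected (⋃ i : ι, ((i.1 : S.IdealSheafData).support : Set S)) := by
    have hU : (⋃ i : ι, ((i.1 : S.IdealSheafData).support : Set S)) = f ⁻¹' {c} := by
      refine Set.Subset.antisymm (Set.iUnion_subset fun i => hle _ (hmem i)) fun x hx => ?_
      have hx' : x ∈ (s.prod.support : Set S) := by
        rw [← hse]
        exact hsupp.ge hx
      obtain ⟨E, hE, hxE⟩ := exists_mem_support s hx'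
      exact Set.mem_iUnion.2 ⟨⟨E, Multiset.mem_toFinset.2 hE⟩, hxE⟩
    rw [hU]
    exact fibre_preconnected k f hdimC hconn c
  let d : ι := ⟨D, Multiset.mem_toFinset.2 hDs⟩
  let a : ι → ℤ := fun i => if i = d then 1 else 0
  have hQ : ∑ i, ∑ j, a i * a j * G i j = G d d := by
    rw [Finset.sum_eq_single d (fun i _ hi => by simp [a, hi]) (by simp), Finset.sum_eq_single d (fun i _ hi => by simp [a, hi]) (by simp)]
    simp [a]
  obtain ⟨h1, h2⟩ := zariski_lemma G (fun i j => SurfPairing.pair_comm k _ _)
    (fun i j hij => pair_curves_nonneg k hdim (hs _ (hmem i)).1 (hs _ (hmem i)).2 (hs _ (hmem j)).1 (hs _ (hmem j)).2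
      fun h => hij (Subtype.ext h))
    (graph_connected k hdim (fun i : ι => i.1) Subtype.val_injective (fun i => (hs _ (hmem i)).1)
      (fun i => (hs _ (hmem i)).2) hconnU) e
    (fun i => Int.natCast_pos.2 (Multiset.count_pos.2 (hmem i))) hGe a
  rw [hQ] at h1 h2
  refine ⟨h1, fun h0 => ?_⟩
  obtain ⟨hprop, -⟩ := h2 h0
  have hall : ∀ i, i = d := fun i => by
    by_contra hne
    have h := hprop d i
    simp only [a, if_true, if_neg hne, one_mul, zero_mul] at h
    have hcount : 0 < e i := Int.natCast_pos.2 (Multiset.count_pos.2 (hmem i))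
    omega
  have h := hsum W (SurfAdj.isInvertible_W k hdim hW)
  rw [← hse, fibre_class k f hdim hdimC hconn p hp g hg hW c hc,
    Finset.sum_eq_single d (fun i _ hi => absurd (hall i) hi) (fun hn => absurd (Finset.mem_univ d) hn)] at h
  have he : 0 ≤ e d := Int.natCast_nonneg _
  show SurfPairing.pair k (PicF.cl (ClSub.idealMod d.1)) (PicF.cl W) < 0
  nlinarith [h, he, (show (2 : ℤ) ≤ g by exact_mod_cast hg2)]

end Groth.Agent.SurfRows
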