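import Groth.Agent.Lib.ExtGlobal

/-!
Global `Ext` is the sections of the local `Ext` when the local ones below the degree have no higher cohomology.
-/

set_option linter.style.haveILetI false
set_option linter.unusedSectionVars false
set_option backward.isDefEq.respectTransparency false
set_option backward.isDefEq.respectTransparency.types false
set_option maxHeartbeats 1000000

universe u

open CategoryTheory CategoryTheory.Limits AlgebraicGeometry TopologicalSpace Opposite
open CategoryTheory.Abelian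

noncomputable section

namespace Groth.Agent.ExtGlobal

open Groth.Agent.SheafHomX Groth.Agent.KFlatLib

variable {X : Scheme.{u}}

section Complex

variable (C : CochainComplex X.Modules ℕ) (hC : ∀ q, Acyclic (C.X q))

include hC in
theorem acyclic_bd_lt (q : ℕ) (h : ∀ q' < q, Acyclic (C.homology q')) : Acyclic (bd C q) := by
  rcases q with _ | q
  · haveI : IsIso (C.homologyπ 0) := C.isIso_homologyπ _ 0 rfl (C.shape _ _ (by simp))
    exact acyclic_of_isZero (isZero_kernel_of_mono _)
  · obtain ⟨w, hw⟩ := shortExact_bd C q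
    exact Acyclic.X₃ hw (acyclic_parts C hC q fun q' hq' => h q' (by omega)).2 (hC q)

include hC in
theorem exists_lift_lt (q : ℕ) (h : ∀ q' < q, Acyclic (C.homology q'))
    (φ : Coh.structureModule X ⟶ C.homology q) :
    ∃ a : Coh.structureModule X ⟶ C.cycles q, a ≫ C.homologyπ q = φ :=
  PnNegVan.surjective_sections_of_epi (C.homologyπ q) (acyclic_bd_lt C hC q h 0) φ

include hC in
theorem exists_of_comp_eq_zero_lt (q : ℕ) (h : ∀ q' < q, Acyclic (C.homology q'))
    (a : Coh.structureModule X ⟶ C.cycles q) (ha : a ≫ C.homologyπ q = 0) :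
    ∃ b : Coh.structureModule X ⟶ C.X (q - 1), b ≫ C.toCycles (q - 1) q = a := by
  rcases q with _ | q
  · haveI : IsIso (C.homologyπ 0) := C.isIso_homologyπ _ 0 rfl (C.shape _ _ (by simp))
    refine ⟨0, ?_⟩
    rw [zero_comp]
    exact ((cancel_mono (C.homologyπ 0)).1 (ha.trans zero_comp.symm)).symm
  obtain ⟨w, hw⟩ := shortExact_bd C q
  haveI := hw.epi_g
  haveI : Subsingleton (Coh.HH X (kernel (toBd C q (q + 1))) 1) :=
    QCoh.subsingleton_HH_of_iso (IsLimit.conePointUniqueUpToIso hw.fIsKernel (kernelIsKernel _)) 1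
      ((acyclic_parts C hC q fun q' hq' => h q' (by omega)).2 0)
  obtain ⟨b, hb⟩ := PnNegVan.surjective_sections_of_epi (toBd C q (q + 1)) inferInstance (kernel.lift _ a ha)
  refine ⟨b, ?_⟩
  show b ≫ C.toCycles q (q + 1) = a
  rw [← toBd_ι, ← Category.assoc, show b ≫ toBd C q (q + 1) = kernel.lift _ a ha from hb, kernel.lift_ι]

end Complex

variable {A : Type u} [CommRing A] [X.Over (Spec (CommRingCat.of A))] [HasExt.{u} X.Modules]

/-- Global `Ext` is the sections of local `Ext` when these have no higher cohomology below the degree. -/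
theorem nonempty_ext_equiv_lt (F L : X.Modules) [ModSite.HasSheafHom (O := X.sheaf) F]
    [HasInjectiveResolutions (ModSite.Mod X.sheaf)] (i : ℕ)
    (h : ∀ q < i, Acyclic ((ModSite.extSh (O := X.sheaf) F q).obj L)) :
    Nonempty (Ext.{u} F L i ≃ₗ[A] Coh.HH X ((ModSite.extSh (O := X.sheaf) F i).obj L) 0) := by
  haveI : HasInjectiveResolutions X.Modules := inferInstanceAs (HasInjectiveResolutions (ModSite.Mod X.sheaf))
  let I : InjectiveResolution L := InjectiveResolution.of _
  let C := ExtShShift.cx I F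
  have hC : ∀ q, Acyclic (C.X q) := fun q =>
    haveI := I.injective q; acyclic_hom_injective F (I.cocomplex.X q)
  have hH : ∀ q < i, Acyclic (C.homology q) := fun q hq p => by
    obtain ⟨a⟩ := ExtShShift.nonempty_extSh_iso I F q
    exact QCoh.subsingleton_HH_of_iso a (p + 1) (h q hq p)
  -- cocycles
  let Z : AddSubgroup (F ⟶ I.cocomplex.X i) :=
    (AddMonoidHom.mk' (fun f : F ⟶ I.cocomplex.X i => f ≫ I.cocomplex.d i (i + 1))
      fun _ _ => Preadditive.add_comp _ _ _ _ _ _).ker
  have hd : ∀ f : Z, (ev F _).symm (f : F ⟶ I.cocomplex.X i) ≫ C.d i (i + 1) = 0 := fun f => by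
    apply (ev F _).injective
    rw [map_zero]
    refine (ev_naturality F _ _).trans ?_
    rw [AddEquiv.apply_symm_apply]
    exact f.2
  let lc : Z → (Coh.structureModule X ⟶ C.cycles i) := fun f =>
    C.liftCycles ((ev F _).symm (f : F ⟶ I.cocomplex.X i)) (i + 1) (by simp) (hd f)
  have hlc : ∀ f, lc f ≫ C.iCycles i = (ev F _).symm (f : F ⟶ I.cocomplex.X i) := fun f => C.liftCycles_i _ _ _ _
  let toExt : Z →+ Ext.{u} F L i := AddMonoidHom.mk' (fun f => I.extMk f.1 (i + 1) rfl f.2)
    fun f g => (I.add_extMk _ _ _ _ _ _).symm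
  let toHom : Z →+ (Coh.structureModule X ⟶ C.homology i) := AddMonoidHom.mk'
    (fun f => lc f ≫ C.homologyπ i) fun f g => by
      rw [← Preadditive.add_comp]
      congr 1
      rw [← cancel_mono (C.iCycles i), Preadditive.add_comp, hlc, hlc, hlc]
      exact map_add _ _ _
  have hs1 : Function.Surjective toExt := fun x => by
    obtain ⟨f, hf, rfl⟩ := I.extMk_surjective x (i + 1) rfl
    exact ⟨⟨f, hf⟩, rfl⟩
  have hs2 : Function.Surjective toHom := fun φ => by
    obtain ⟨a, rfl⟩ := exists_lift_lt C hC i hH φ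
    have hf : ev F _ (a ≫ C.iCycles i) ≫ I.cocomplex.d i (i + 1) = 0 := by
      rw [← ev_naturality, Category.assoc,
        show C.iCycles i ≫ (hom F).map (I.cocomplex.d i (i + 1)) = 0 from C.iCycles_d i (i + 1), comp_zero, map_zero]
    refine ⟨⟨_, hf⟩, ?_⟩
    show lc _ ≫ C.homologyπ i = a ≫ C.homologyπ i
    congr 1
    rw [← cancel_mono (C.iCycles i), hlc]
    exact (ev F _).symm_apply_apply _
  have hker : ∀ f, toExt f = 0 ↔ toHom f = 0 := fun f => by
    refine (ExtClosed.extMk_eq_zero_iff I i f.1 f.2).trans ⟨?_, ?_⟩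
    · rintro ⟨g, hg⟩
      show lc f ≫ C.homologyπ i = 0
      have h1 : lc f = (ev F _).symm g ≫ C.toCycles (i - 1) i := by
        rw [← cancel_mono (C.iCycles i), hlc, Category.assoc, C.toCycles_i, ← hg]
        apply (ev F _).injective
        rw [AddEquiv.apply_symm_apply]
        refine Eq.symm ((ev_naturality F _ _).trans ?_)
        rw [AddEquiv.apply_symm_apply]
      rw [h1, Category.assoc, C.toCycles_comp_homologyπ, comp_zero]
    · intro h0
      obtain ⟨b, hb⟩ := exists_of_comp_eq_zero_lt C hC i hH (lc f) h0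
      refine ⟨ev F _ b, ?_⟩
      rw [← ev_naturality, show b ≫ (hom F).map (I.cocomplex.d (i - 1) i) = lc f ≫ C.iCycles i by
        rw [← hb, Category.assoc, C.toCycles_i]; rfl, hlc, AddEquiv.apply_symm_apply]
  obtain ⟨e, he⟩ := PnCoh.exists_equiv_of_surjective toExt toHom hs1 hs2 hker
  obtain ⟨a⟩ := ExtShShift.nonempty_extSh_iso I F i
  let e' : Ext.{u} F L i ≃+ Coh.HH X ((ModSite.extSh (O := X.sheaf) F i).obj L) 0 :=
    e.trans (({ toEquiv := (Iso.homToEquiv a.symm)
                map_add' := fun x y => Preadditive.add_comp _ _ _ _ _ _ } :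
      (Coh.structureModule X ⟶ C.homology i) ≃+ (Coh.structureModule X ⟶ _)).trans (secEquiv _))
  refine ⟨{ e' with map_smul' := fun c x => ?_ }⟩
  obtain ⟨f, rfl⟩ := hs1 x
  let sZ : Z := ⟨Formal.smulMod A F c ≫ f.1, by
    show (Formal.smulMod A F c ≫ f.1) ≫ I.cocomplex.d i (i + 1) = 0
    rw [Category.assoc, show f.1 ≫ I.cocomplex.d i (i + 1) = 0 from f.2, comp_zero]⟩
  have hx : c • toExt f = toExt sZ := by
    show c • I.extMk f.1 (i + 1) rfl f.2 = I.extMk (Formal.smulMod A F c ≫ f.1) (i + 1) rfl sZ.2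
    rw [← I.mk₀_comp_extMk f.1 (i + 1) rfl f.2, ← KLin.smul_id, Ext.mk₀_smul, Ext.smul_comp, Ext.mk₀_id_comp]
  have hT : toHom sZ = toHom f ≫ Formal.smulMod A (C.homology i) c := by
    show lc sZ ≫ C.homologyπ i = (lc f ≫ C.homologyπ i) ≫ _
    rw [Category.assoc, show C.homologyπ i ≫ Formal.smulMod A (C.homology i) c =
        Formal.smulMod A (C.cycles i) c ≫ C.homologyπ i from KLin.comp_smulModΓ _ _, ← Category.assoc]
    congr 1
    rw [← cancel_mono (C.iCycles i), hlc, Category.assoc, show Formal.smulMod A (C.cycles i) c ≫ C.iCycles i =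
        C.iCycles i ≫ Formal.smulMod A (C.X i) c from (KLin.comp_smulModΓ _ _).symm, ← Category.assoc, hlc]
    apply (ev F _).injective
    rw [AddEquiv.apply_symm_apply, show Formal.smulMod A (C.X i) c = (hom F).map (Formal.smulMod A (I.cocomplex.X i) c)
      from (SheafHomX.hom_map_smulMod F _ c).symm, ev_naturality, AddEquiv.apply_symm_apply]
    exact (KLin.comp_smulModΓ _ _).symm
  show e' (c • toExt f) = c • e' (toExt f)
  rw [hx]
  show secEquiv _ (e (toExt sZ) ≫ a.inv) = c • secEquiv _ (e (toExt f) ≫ a.inv)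
  rw [he, he, hT, Category.assoc, show Formal.smulMod A (C.homology i) c ≫ a.inv = a.inv ≫ Formal.smulMod A _ c
    from (KLin.comp_smulModΓ _ _).symm, ← Category.assoc, secEquiv_comp]
  rfl

end Groth.Agent.ExtGlobal
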