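import Groth.Agent.SurfRows.FibrationTorsion

/-!
Fibrations: sections surjecting onto a fibre, and the first cohomology of the direct image.
-/

set_option autoImplicit false
set_option linter.style.haveILetI false
set_option linter.unusedSectionVars false
set_option backward.isDefEq.respectTransparency false
set_option backward.isDefEq.respectTransparency.types false
set_option maxHeartbeats 1000000

universe u

open CategoryTheory CategoryTheory.Limits AlgebraicGeometry TopologicalSpace Opposite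
open Groth.Agent.H23 Groth.Agent.H23.TrivBasic

noncomputable section

namespace Groth.Agent.SurfRows

open Groth.Agent Groth.Agent.CurveBundle Groth.Agent.CurveSlope Groth.Agent.CurveStable

attribute [local instance] PicMul.clMonoid

/-- The restriction sequence of an invertible module to a closed subscheme. -/
theorem exists_restrict_ses {X : Scheme.{u}} {L : X.Modules} (hL : PicF.IsInvertible L) (J : X.IdealSheafData) :
    ∃ (a : CohB1.tensorMod L (ClSub.idealMod J) ⟶ L) (b : L ⟶ CohB1.tensorMod L (ClSub.quotMod J)) (w : a ≫ b = 0),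
      (ShortComplex.mk a b w).ShortExact := by
  have hS := CurveTensor.shortExact_tensor (locFree hL) _ _ _ (DivisorExt.ideal_shortExact J)
  obtain ⟨u⟩ : Nonempty ((DCoh.tensorBi.obj L).obj (Coh.structureModule X) ≅ L) := PicMul.unit L
  let a : (DCoh.tensorBi.obj L).obj (ClSub.idealMod J) ⟶ L :=
    (DCoh.tensorBi.obj L).map (ClSub.idealModι J) ≫ u.hom
  let b : L ⟶ (DCoh.tensorBi.obj L).obj (ClSub.quotMod J) :=
    u.inv ≫ (DCoh.tensorBi.obj L).map (ClSub.toSubscheme J)
  let S₀ : ShortComplex X.Modules := ShortComplex.mk ((DCoh.tensorBi.obj L).map (ClSub.idealModι J))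
    ((DCoh.tensorBi.obj L).map (ClSub.toSubscheme J))
    (by rw [← Functor.map_comp, show ClSub.idealModι J ≫ ClSub.toSubscheme J = 0 from kernel.condition _, Functor.map_zero])
  have hS₀ : S₀.ShortExact := hS
  have w : a ≫ b = 0 := by
    have h := S₀.zero
    simp only [a, b, Category.assoc, Iso.hom_inv_id_assoc]
    exact h
  let S₁ : ShortComplex X.Modules := ShortComplex.mk a b w
  let φ : S₀ ≅ S₁ := ShortComplex.isoMk (Iso.refl _) u (Iso.refl _)
    (show 𝟙 _ ≫ a = (DCoh.tensorBi.obj L).map (ClSub.idealModι J) ≫ u.hom from Category.id_comp _)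
    (show u.hom ≫ b = (DCoh.tensorBi.obj L).map (ClSub.toSubscheme J) ≫ 𝟙 _ from by simp [b])
  exact ⟨a, b, w, ShortComplex.shortExact_of_iso φ hS₀⟩

/-- The restriction of an invertible module to a closed subscheme is coherent. -/
theorem isCoh_restrict {X : Scheme.{u}} [IsLocallyNoetherian X] {L : X.Modules} (hL : PicF.IsInvertible L)
    (J : X.IdealSheafData) : Coh.IsCoh (CohB1.tensorMod L (ClSub.quotMod J)) :=
  ParShLib.isCoh_tensorMod (CurveDeg.isCoh_of_isInvertible hL) (ParShLib.isCoh_quotMod J)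

variable (k : Type u) [Field k] [IsAlgClosed k]
  {S : Scheme.{u}} [S.Over (Spec (CommRingCat.of k))] [IsProper (S ↘ Spec (CommRingCat.of k))]
  [Smooth (S ↘ Spec (CommRingCat.of k))] [IsIntegral S]
  {C : Scheme.{u}} [C.Over (Spec (CommRingCat.of k))] [IsProper (C ↘ Spec (CommRingCat.of k))]
  [Smooth (C ↘ Spec (CommRingCat.of k))] [IsIntegral C]
  (f : S ⟶ C) [f.IsOver (Spec (CommRingCat.of k))] [Surjective f]
  (hdim : topologicalKrullDim S = 2) (hdimC : topologicalKrullDim C = 1)
  [HasInjectiveResolutions S.Modules]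

include k hdim hdimC in
/-- The point ideal pulls back to the fibre ideal. -/
theorem fibre_ideal_cl (q : C) (hq : IsClosed ({q} : Set C)) :
    PicF.IsInvertible (CurvePoint.ptMod q hq) ∧ Curv2.deg k C (CurvePoint.ptMod q hq) 1 = -1 ∧
      PicF.cl ((Scheme.Modules.pullback f).obj (CurvePoint.ptMod q hq)) =
        PicF.cl (ClSub.idealMod ((Scheme.IdealSheafData.vanishingIdeal ⟨{q}, hq⟩).comap f)) := by
  haveI := CurveCohLib.isNoetherian_of_proper (k := k) (X := C)
  have hn : IsIntegrallyClosed (C.presheaf.stalk q) := by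
    haveI := GrpSchLib.isRegularLocalRing_stalk_of_smooth (C ↘ Spec (CommRingCat.of k)) q
    exact RegLoc6.isIntegrallyClosed_of_isRegularLocalRing _
  have hIF := (fibre_facts k hdim hdimC f q hq).1
  obtain ⟨e⟩ := H26.InterDiv.nonempty_pullback_idealMod f _ (CurveEmbed.isEffCartier_point k hdimC hq hn) hIF
  refine ⟨CurvePoint.isInvertible_ptMod q hq k hdimC, ?_, PicMul.cl_eq_iff.2
    ⟨(show (Scheme.Modules.pullback f).obj (CurvePoint.ptMod q hq) ≅ _ from e)⟩⟩
  rw [CurveEmbed.deg_point k hq]
  letI := Curv2.resAlgebra k C q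
  rw [← (LinearEquiv.ofBijective (Algebra.linearMap k (C.residueField q))
    ⟨(Curv2.resMap k C q).injective, CurveSection.surjective_resMap k hq⟩).finrank_eq, Module.finrank_self]
  norm_num

include k hdim hdimC in
/-- If sections surject onto a fibre, twisting down does not increase the first cohomology. -/
theorem fibration_restrict {L : S.Modules} (hL : PicF.IsInvertible L) (hR : IsZero ((Coh.Rpush f 1).obj L))
    (q : C) (hq : IsClosed ({q} : Set C))
    (hres : Module.finrank k (Coh.HH S L 0) =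
      Module.finrank k (Coh.HH S (CohB1.tensorMod L (ClSub.idealMod ((Scheme.IdealSheafData.vanishingIdeal ⟨{q}, hq⟩).comap f))) 0) +
        Module.finrank k (Coh.HH S (CohB1.tensorMod (ClSub.quotMod ((Scheme.IdealSheafData.vanishingIdeal ⟨{q}, hq⟩).comap f)) L) 0)) :
    Module.finrank k (Coh.HH S L 1) = Module.finrank k (Coh.HH C ((Coh.push f).obj L) 1) ∧
      Module.finrank k (Coh.HH S (CohB1.tensorMod L (ClSub.idealMod ((Scheme.IdealSheafData.vanishingIdeal ⟨{q}, hq⟩).comap f))) 1) =
        Module.finrank k (Coh.HH C (CohB1.tensorMod (CurvePoint.ptMod q hq) ((Coh.push f).obj L)) 1) ∧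
      Module.finrank k (Coh.HH C (CohB1.tensorMod (CurvePoint.ptMod q hq) ((Coh.push f).obj L)) 1) ≤
        Module.finrank k (Coh.HH C ((Coh.push f).obj L) 1) := by
  haveI := CurveCohLib.isNoetherian_of_proper (k := k) (X := S)
  obtain ⟨hN, -, hcl⟩ := fibre_ideal_cl k f hdim hdimC q hq
  let J := (Scheme.IdealSheafData.vanishingIdeal ⟨{q}, hq⟩).comap f
  have hJ : PicF.IsInvertible (ClSub.idealMod J) := (S8914.result _).2 (fibre_facts k hdim hdimC f q hq).1
  let T := CohB1.tensorMod L (ClSub.idealMod J)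
  have hT : PicF.IsInvertible T := PicMul.isInvertible_tensor hL hJ
  obtain ⟨tT⟩ : Nonempty (CohB1.tensorMod ((Scheme.Modules.pullback f).obj (CurvePoint.ptMod q hq)) L ≅ T) :=
    PicMul.cl_eq_iff.1 (by rw [PicMul.cl_tensor, PicMul.cl_tensor, hcl, mul_comm])
  obtain ⟨pT⟩ := fibration_projection f hN L
  obtain ⟨e₂⟩ := S0927.result f L (CurvePoint.ptMod q hq) (locFree hN) 1
  have hRT : IsZero ((Coh.Rpush f 1).obj T) :=
    ((isZero_tensorMod _ hR).of_iso e₂.symm).of_iso ((Coh.Rpush f 1).mapIso tT).symm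
  obtain ⟨hL0, hL1, hL2, hL3, -⟩ := fibration_leray k f hdim hdimC hL
  obtain ⟨hT0, hT1, hT2, hT3, -⟩ := fibration_leray k f hdim hdimC hT
  have hz : ∀ {F : S.Modules}, IsZero ((Coh.Rpush f 1).obj F) → ∀ j,
      Module.finrank k (Coh.HH C ((Coh.Rpush f 1).obj F) j) = 0 := fun h j =>
    @Module.finrank_zero_of_subsingleton _ _ _ _ _ _ (Euler.subsingleton_HH_of_isZero h j)
  rw [hz hR, add_zero] at hL1
  rw [hz hR] at hL2
  rw [hz hRT, add_zero, (CurveCohLib.hhEquiv (k := k) ((Coh.push f).mapIso tT) 1).finrank_eq.symm,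
    (CurveCohLib.hhEquiv (k := k) pT 1).finrank_eq.symm] at hT1
  rw [hz hRT] at hT2
  refine ⟨hL1, hT1, ?_⟩
  obtain ⟨a, b, w, hS⟩ := exists_restrict_ses hL J
  let Q := CohB1.tensorMod L (ClSub.quotMod J)
  have hQc : Coh.IsCoh Q := isCoh_restrict hL J
  haveI := CurveCohLib.finite_HH (k := k) (CurveDeg.isCoh_of_isInvertible hL) 2
  have hQhigh : ∀ i, 2 ≤ i → Subsingleton (Coh.HH S Q i) := fun i hi => by
    have h2 : Subsingleton (Coh.HH S L i) := by
      rcases hi.eq_or_lt with rfl | h
      · exact Module.finrank_zero_iff.1 hL2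
      · exact hL3 i h
    exact LerayCorner.subsingleton_HH_X₃ hS i h2 (hT3 (i + 1) (by omega))
  have hχ := CurveBundle.euler_add' k _ _ _ hS (CurveDeg.isCoh_of_isInvertible hT)
    (CurveDeg.isCoh_of_isInvertible hL) hQc
  change Curv2.euler k S L = Curv2.euler k S T + Curv2.euler k S Q at hχ
  rw [Euler.euler_eq_sum k L 3 hL3, Euler.euler_eq_sum k T 3 hT3,
    Euler.euler_eq_sum k Q 2 hQhigh] at hχ
  simp only [Finset.sum_range_succ, Finset.sum_range_zero] at hχ
  obtain ⟨c⟩ := PicMul.comm L (ClSub.quotMod J)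
  rw [← (CurveCohLib.hhEquiv (k := k) c 0).finrank_eq] at hres
  change Module.finrank k (Coh.HH S L 0) = Module.finrank k (Coh.HH S T 0) + Module.finrank k (Coh.HH S Q 0) at hres
  rw [← hL1, ← hT1]
  rw [hres, hL2, hT2] at hχ
  push_cast at hχ
  omega

end Groth.Agent.SurfRows
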