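import Groth.Agent.Synt29.BlowPts
import Groth.Agent.SurfRows.Sections
import Groth.Agent.SurfRows.RatFacts
import Groth.Agent.SurfRows.FibrationRestrict
import Groth.Agent.CurveVA.SectionBound
import Groth.Agent.Lib.EulerOneDeg
import Groth.Agent.CurveCohLib.Rank
import Groth.Agent.S12640
import Groth.Agent.Lib.SmoothDuality
import Groth.Agent.Lib.TopPower

/-!
The plane blown up in finitely many points: the structure sheaf, the class of a line, and sections along curves
of negative degree.
-/

set_option autoImplicit false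
set_option linter.style.haveILetI false
set_option linter.unusedSectionVars false
set_option backward.isDefEq.respectTransparency false
set_option backward.isDefEq.respectTransparency.types false
set_option maxHeartbeats 1000000

universe u

open CategoryTheory CategoryTheory.Limits AlgebraicGeometry TopologicalSpace Opposite
open Groth.Agent.H23 Groth.Agent.H23.TrivBasic

noncomputable section

namespace Groth.Agent.SurfRows

open Groth.Agent Groth.Agent.Synt29

attribute [local instance] PicMul.clMonoid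

/-- The twist by one is generated. -/
theorem gg_twist_one (n : ℕ) (k : Type u) [Field k] : Curv2.IsGloballyGenerated (Twist.twistProjSpace n k 1) := by
  refine InvX.isGloballyGenerated_of_generated
    (s := fun i : ULift.{u} (Fin (n + 1)) => H28.PBField.co n k i.down) fun x => ?_
  rw [show Set.range (fun i : ULift.{u} (Fin (n + 1)) =>
      ((Twist.twistProjSpace n k 1).presheaf.germ ⊤ x trivial).hom (H28.PBField.co n k i.down)) =
    Set.range (fun i : Fin (n + 1) => ((Twist.twistProjSpace n k 1).presheaf.germ ⊤ x trivial).hom (H28.PBField.co n k i))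
    from ULift.down_surjective.range_comp
      (fun i => ((Twist.twistProjSpace n k 1).presheaf.germ ⊤ x trivial).hom (H28.PBField.co n k i))]
  exact H28.PBField.generated_co n k x

variable (k : Type u) [Field k] [IsAlgClosed k] {X : Scheme.{u}} [X.Over (Spec (CommRingCat.of k))]
  [IsProper (X ↘ Spec (CommRingCat.of k))] [Smooth (X ↘ Spec (CommRingCat.of k))] [IsIntegral X]

/-- Generated invertible modules are nef. -/
theorem nef_of_gg (hdim : topologicalKrullDim X = 2) {A : X.Modules} (hA : PicF.IsInvertible A)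
    (hg : Curv2.IsGloballyGenerated A) : SurfNef.Nef k A := fun C hC hCd => by
  haveI := hC
  obtain ⟨t, ht⟩ := GenLocusGG.exists_mem_locus hA hg (C.subschemeι (genericPoint C.subscheme))
  have h := SurfNegDef.deg_nonneg_of_locus (k := k) C.subschemeι
    (topologicalKrullDim_subscheme.trans hCd).le hA (genericPoint C.subscheme) ht
  have hCi := SurfNef.invertible_ideal k hdim hC hCd
  have hp := CurveOnSurf.pair_ideal (k := k) C.subschemeι hA (by rw [Scheme.IdealSheafData.ker_subschemeι]; exact hCi)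
  rw [Scheme.IdealSheafData.ker_subschemeι] at hp
  linarith

/-- A module of negative degree against a nef module has no sections. -/
theorem h0_zero_of_pair_neg (hdim : topologicalKrullDim X = 2) {N : X.Modules} (hN : PicF.IsInvertible N)
    (hnef : SurfNef.Nef k N) {L : X.Modules} (hL : PicF.IsInvertible L)
    (h : SurfPairing.pair k (PicF.cl N) (PicF.cl L) < 0) : Subsingleton (Coh.HH X L 0) := by
  by_contra hne
  obtain ⟨s, hs⟩ := CurveAmple.exists_section_ne_zero (not_subsingleton_iff_nontrivial.1 hne)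
  exact absurd (SurfNef.nef_section k hdim hN hnef hL hs) (not_le.2 h)

/-- A section lifts past a curve of negative degree. -/
theorem exists_section_sub (hdim : topologicalKrullDim X = 2) {C : X.IdealSheafData} (hC : IsIntegral C.subscheme)
    (hd : topologicalKrullDim (C.support : Set X) = 1) {L : X.Modules} (hL : PicF.IsInvertible L) {s : Γ(L, ⊤)}
    (hs : s ≠ 0) (hneg : 0 < SurfPairing.pair k (PicF.cl (ClSub.idealMod C)) (PicF.cl L)) :
    ∃ t : Γ(CohB1.tensorMod L (ClSub.idealMod C), ⊤), t ≠ 0 := by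
  haveI := hC
  exact SurfAmple.exists_lift_section C hL hs (SurfNef.subset_of_pair_pos k hdim hL hC hd hneg)

omit [IsAlgClosed k] [Smooth (X ↘ Spec (CommRingCat.of k))] [IsIntegral X] in
/-- Sections in a short exact sequence. -/
theorem h0_bounds {A B Q : X.Modules} (a : A ⟶ B) (b : B ⟶ Q) (w : a ≫ b = 0)
    (hS : (ShortComplex.mk a b w).ShortExact) (hA : Coh.IsCoh A) (hB : Coh.IsCoh B) (hQ : Coh.IsCoh Q) :
    Module.finrank k (Coh.HH X B 0) ≤ Module.finrank k (Coh.HH X A 0) + Module.finrank k (Coh.HH X Q 0) ∧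
      Module.finrank k (Coh.HH X A 0) ≤ Module.finrank k (Coh.HH X B 0) := by
  haveI := CurveCohLib.finite_HH (k := k) hB 0
  haveI : Mono a := hS.mono_f
  exact ⟨CurveVA.finrank_h0_le_add (k := k) (S := ShortComplex.mk a b w) hS hA hB hQ,
    LinearMap.finrank_le_finrank_of_injective (mapLin_injective (k := k) a)⟩

/-- Subtracting a curve of negative degree does not change the sections. -/
theorem h0_sub_eq (hdim : topologicalKrullDim X = 2) {C : X.IdealSheafData} (hC : IsIntegral C.subscheme)
    (hd : topologicalKrullDim (C.support : Set X) = 1) {L : X.Modules} (hL : PicF.IsInvertible L)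
    (hneg : 0 < SurfPairing.pair k (PicF.cl (ClSub.idealMod C)) (PicF.cl L)) :
    Module.finrank k (Coh.HH X (CohB1.tensorMod L (ClSub.idealMod C)) 0) = Module.finrank k (Coh.HH X L 0) := by
  haveI := CurveCohLib.isNoetherian_of_proper (k := k) (X := X)
  obtain ⟨a, b, w, hS⟩ := exists_restrict_ses hL C
  have hLI := CurveDeg.isCoh_of_isInvertible (PicMul.isInvertible_tensor hL (SurfNef.invertible_ideal k hdim hC hd))
  have hLc := CurveDeg.isCoh_of_isInvertible hL
  obtain ⟨hle, h2⟩ := h0_bounds k a b w hS hLI hLc (isCoh_restrict hL C)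
  have hz : Module.finrank k (Coh.HH X (CohB1.tensorMod L (ClSub.quotMod C)) 0) = 0 := by
    by_contra h0
    exact hneg.ne' ((h0_curve k hdim hC hd hL hneg.le).2 h0).1
  omega

include k in
/-- Powers of the ideal of a curve. -/
theorem ideal_pow_cl (hdim : topologicalKrullDim X = 2) {C : X.IdealSheafData} (hC : IsIntegral C.subscheme)
    (hd : topologicalKrullDim (C.support : Set X) = 1) (j : ℕ) :
    PicF.IsInvertible (ClSub.idealMod (C ^ (j + 1))) ∧
      PicF.cl (ClSub.idealMod (C ^ (j + 1))) = PicF.cl (ClSub.idealMod C) ^ (j + 1) := by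
  have hCi := SurfNef.invertible_ideal k hdim hC hd
  induction j with
  | zero => simp [hCi]
  | succ j ih =>
    refine ⟨?_, ?_⟩
    · rw [pow_succ C]
      obtain ⟨e⟩ := PicMul.cl_eq_iff.1 ((IdealModMul.cl_mul ih.1 hCi).trans (PicMul.cl_tensor _ _).symm)
      exact PicMul.isInvertible_of_iso e.symm (PicMul.isInvertible_tensor ih.1 hCi)
    · rw [pow_succ C, IdealModMul.cl_mul ih.1 hCi, ih.2, ← pow_succ]

variable {r : ℕ} {P : Fin r → ↥(CohB1.ProjSpace 2 k)} (hPc : ∀ i, IsClosed ({P i} : Set ↥(CohB1.ProjSpace 2 k)))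
  (hZ : IsClosed (Set.range P)) (σ : X ⟶ CohB1.ProjSpace 2 k)
  (hσk : σ ≫ CohB1.ProjSpace.toSpec 2 k = X ↘ (Spec (CommRingCat.of k)))
  (hσ : BlowUp.IsBlowUp σ (Scheme.IdealSheafData.vanishingIdeal ⟨Set.range P, hZ⟩))

include hPc hσk hσ in
/-- Euler characteristics of pullbacks of twists. -/
theorem euler_planeBlow (c : ℤ) : Curv2.euler k X ((Scheme.Modules.pullback σ).obj (Twist.twistProjSpace 2 k c)) =
    Ring.choose (c + 2) 2 := by
  haveI : IsProper (CohB1.ProjSpace.toSpec 2 k) := PnCoh.Chow.isProper_toSpec 2 k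
  haveI : IsProper (CohB1.ProjSpace 2 k ↘ Spec (CommRingCat.of k)) := ‹IsProper (CohB1.ProjSpace.toSpec 2 k)›
  have hpt : ∀ x ∈ Set.range P, IsClosed ({x} : Set ↥(CohB1.ProjSpace 2 k)) := by rintro _ ⟨i, rfl⟩; exact hPc i
  obtain ⟨hX, hprop⟩ := BlowPts.geom (Set.range P) hZ hσ
  haveI := hX; haveI := hprop
  haveI : HasInjectiveResolutions X.Modules := KFlatLib.hasInjectiveResolutions_modules
  haveI := SpObjSS.enoughInjectives_of_hasInjectiveResolutions (C := X.Modules)
  haveI := QCoh.preservesFiniteLimits_push σ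
  show Curv2.euler k X (BlowPts.pO σ c) = _
  rw [EulerOneDeg.euler_eq k σ hσk
    (AmpleVan.isCoh_invertible (PicClLib.isInvertible_pullback σ (BlowPts.isInvertible_twist c))) 0 fun m hm => by
      obtain ⟨m, rfl⟩ : ∃ r, m = r + 1 := ⟨m - 1, by omega⟩
      exact H28.BlowExact.isZero_Rpush_of_rz σ m
        (BlowPts.rz_pO _ (Set.finite_range P) hpt hZ (by norm_num) hσ c m)]
  obtain ⟨ep⟩ := H28.BlowExact.push_pull σ (BlowPts.isIso_app _ (Set.finite_range P) hpt hZ (by norm_num) hσ)
    (BlowPts.lf_twist (n := 2) (k := k) c)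
  have e : (Coh.Rpush σ 0).obj (BlowPts.pO σ c) ≅ Twist.twistProjSpace 2 k c :=
    (Scheme.Modules.pushforward σ).rightDerivedZeroIsoSelf.app _ ≪≫ ep
  rw [pow_zero, one_mul, CurveCohLib.euler_congr (k := k) e,
    Euler.euler_eq_sum k _ 3 fun i hi => S0844.result k 2 c i (fun h => by omega) (fun h => by omega)]
  exact S12640.euler_twist k 2 c (fun h => by omega)

include hPc hσk hσ in
/-- The structure sheaf of the blown-up plane. -/
theorem structure_planeBlow : Curv2.euler k X (Coh.structureModule X) = 1 ∧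
    Subsingleton (Coh.HH X (Coh.structureModule X) 1) ∧ Subsingleton (Coh.HH X (Coh.structureModule X) 2) := by
  have hpt : ∀ x ∈ Set.range P, IsClosed ({x} : Set ↥(CohB1.ProjSpace 2 k)) := by rintro _ ⟨i, rfl⟩; exact hPc i
  obtain ⟨e⟩ := BlowPts.pO_zero σ
  refine ⟨?_, ?_, ?_⟩
  · rw [← CurveCohLib.euler_congr (k := k) e, euler_planeBlow k hPc hZ σ hσk hσ 0]
    norm_num
    exact (show Ring.choose (2 : ℤ) 2 = 1 from rfl)
  all_goals exact QCoh.subsingleton_HH_of_iso e _ (BlowPts.hh_vanish _ (Set.finite_range P) hpt hZ (by norm_num) hσ 0 _ (fun h => by omega) (fun h => by omega))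

include hPc hσk hσ in
/-- The class of a line. -/
theorem line_planeBlow (hdim : topologicalKrullDim X = 2) {W : X.Modules}
    (hW : ExtPow.IsExtPow 2 (Omega.sheaf (X ↘ (Spec (CommRingCat.of k)))) W) :
    SurfPairing.pair k (PicF.cl W) (PicF.cl ((Scheme.Modules.pullback σ).obj (Twist.twistProjSpace 2 k 1))) = -3 := by
  have hH : ∀ c : ℤ, PicF.IsInvertible (BlowPts.pO σ c) := fun c =>
    PicClLib.isInvertible_pullback σ (BlowPts.isInvertible_twist c)
  have h1 := euler_planeBlow k hPc hZ σ hσk hσ 1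
  have h2 := euler_planeBlow k hPc hZ σ hσk hσ 2
  obtain ⟨h0, -, -⟩ := structure_planeBlow k hPc hZ σ hσk hσ
  have hr1 := SurfAdj.rr k hdim hW (hH 1)
  have hWi := SurfAdj.isInvertible_W k hdim hW
  have hr2 := SurfAdj.rr k hdim hW (hH 2)
  have hcl : PicF.cl (BlowPts.pO σ 2) = PicF.cl (BlowPts.pO σ 1) * PicF.cl (BlowPts.pO σ 1) := by
    rw [← PicMul.cl_tensor, PicMul.cl_eq_iff.2 (BlowPts.cl_pO_mul σ 1 1)]
    rfl
  rw [h0] at hr1 hr2
  change Curv2.euler k X (BlowPts.pO σ 1) = _ at h1
  change Curv2.euler k X (BlowPts.pO σ 2) = _ at h2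
  rw [h2] at hr2
  rw [h1] at hr1
  have e1 : SurfPairing.pair k (PicF.cl (BlowPts.pO σ 2)) (PicF.cl (BlowPts.pO σ 2)) =
      4 * SurfPairing.pair k (PicF.cl (BlowPts.pO σ 1)) (PicF.cl (BlowPts.pO σ 1)) := by
    conv_lhs => arg 2; rw [hcl]
    rw [SurfPairing.pair_comm, SurfPairing.pair_mul k hdim.le (hH 2) (hH 1) (hH 1), SurfPairing.pair_comm, hcl,
      SurfPairing.pair_mul k hdim.le (hH 1) (hH 1) (hH 1)]
    ring
  have e2 : SurfPairing.pair k (PicF.cl (BlowPts.pO σ 2)) (PicF.cl W) =
      2 * SurfPairing.pair k (PicF.cl W) (PicF.cl (BlowPts.pO σ 1)) := by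
    rw [SurfPairing.pair_comm, hcl, SurfPairing.pair_mul k hdim.le hWi (hH 1) (hH 1)]
    ring
  rw [e1, e2] at hr2
  rw [SurfPairing.pair_comm k (PicF.cl (BlowPts.pO σ 1)) (PicF.cl W)] at hr1
  norm_num at hr1 hr2
  change SurfPairing.pair k (PicF.cl W) (PicF.cl (BlowPts.pO σ 1)) = _
  rw [show Ring.choose (3 : ℤ) 2 = 3 from rfl] at hr1
  rw [show Ring.choose (4 : ℤ) 2 = 6 from rfl] at hr2
  linarith

include hPc hσk hσ in
/-- No second cohomology above the critical degree. -/
theorem h2_planeBlow (hdim : topologicalKrullDim X = 2) {L : X.Modules} (hL : PicF.IsInvertible L)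
    (hLH : -2 ≤ SurfPairing.pair k (PicF.cl L)
      (PicF.cl ((Scheme.Modules.pullback σ).obj (Twist.twistProjSpace 2 k 1)))) :
    Subsingleton (Coh.HH X L 2) := by
  haveI := CurveCohLib.isNoetherian_of_proper (k := k) (X := X)
  obtain ⟨A, hA⟩ := SurfAdj.exists_ample k hdim
  haveI := CurveFin.smoothOfRelativeDimension_of_dim (f := X ↘ Spec (CommRingCat.of k)) (d := 2) hdim
  obtain ⟨n, ι, hi, hι⟩ := AmpleEmbed.exists_closedImmersion (X ↘ Spec (CommRingCat.of k)) hA
  haveI := hi
  obtain ⟨W, hW, hWi⟩ := TopPower.exists_canonical (X ↘ Spec (CommRingCat.of k)) 2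
  obtain ⟨L', hL', e⟩ := PicInv.exists_inverse hL
  have h : PicF.cl L * PicF.cl L' = 1 := by
    rw [← PicMul.cl_tensor, PicMul.one_def]
    exact PicMul.cl_eq_iff.2 e
  have hH : PicF.IsInvertible ((Scheme.Modules.pullback σ).obj (Twist.twistProjSpace 2 k 1)) :=
    PicClLib.isInvertible_pullback σ (BlowPts.isInvertible_twist 1)
  have hz := h0_zero_of_pair_neg k hdim hH (nef_of_gg k hdim hH (GGDesc7.pullback_gg σ (gg_twist_one 2 k)))
    (PicMul.isInvertible_tensor hL' hWi) (by
      rw [PicMul.cl_tensor, SurfPairing.pair_mul k hdim.le hH hL' hWi,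
        SurfPairing.pair_inv k hdim.le hH hL hL' h, SurfPairing.pair_comm k _ (PicF.cl L),
        SurfPairing.pair_comm k _ (PicF.cl W), line_planeBlow k hPc hZ σ hσk hσ hdim hW]
      linarith)
  haveI := CurveCohLib.finite_HH (k := k) (AmpleVan.isCoh_invertible hL) 2
  exact Module.finrank_zero_iff.1 ((SmoothDuality.finrank_dual ι hι hW hL h 2 le_rfl).symm.trans
    (@Module.finrank_zero_of_subsingleton _ _ _ _ _ _ hz))

end Groth.Agent.SurfRows
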