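import Groth.Agent.SurfRows.Fibre
import Groth.Agent.Lib.SurfNegDef

/-!
Components of a fibre of a surface over a curve are orthogonal to the fibre.
-/

set_option autoImplicit false
set_option linter.style.haveILetI false
set_option linter.unusedSectionVars false
set_option backward.isDefEq.respectTransparency false
set_option backward.isDefEq.respectTransparency.types false

universe u

open CategoryTheory CategoryTheory.Limits AlgebraicGeometry TopologicalSpace Opposite
open Groth.Agent.H23 Groth.Agent.H23.TrivBasic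

noncomputable section

namespace Groth.Agent.SurfRows

open Groth.Agent

attribute [local instance] PicMul.clMonoid

variable (k : Type u) [Field k] {S : Scheme.{u}} [S.Over (Spec (CommRingCat.of k))]
  [IsProper (S ↘ Spec (CommRingCat.of k))] [Smooth (S ↘ Spec (CommRingCat.of k))] [IsIntegral S]

/-- The ideal of a fibre: effective Cartier, with the fibre as support and orthogonal to every component. -/
theorem fibre_facts (hdim : topologicalKrullDim S = 2) {C : Scheme.{u}} [C.Over (Spec (CommRingCat.of k))]
    [IsProper (C ↘ Spec (CommRingCat.of k))] [Smooth (C ↘ Spec (CommRingCat.of k))] [IsIntegral C]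
    (hdimC : topologicalKrullDim C = 1) (f : S ⟶ C) [f.IsOver (Spec (CommRingCat.of k))] [Surjective f]
    (p : C) (hp : IsClosed ({p} : Set C)) :
    BlowUp.IsEffCartierIdeal ((Scheme.IdealSheafData.vanishingIdeal ⟨{p}, hp⟩).comap f) ∧
    (((Scheme.IdealSheafData.vanishingIdeal ⟨{p}, hp⟩).comap f).support : Set S) = f ⁻¹' {p} ∧
    ∀ Γc : S.IdealSheafData, IsIntegral Γc.subscheme → topologicalKrullDim (Γc.support : Set S) = 1 →
      (Γc.support : Set S) ⊆ f ⁻¹' {p} →
      SurfPairing.pair k (PicF.cl (ClSub.idealMod Γc))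
        (PicF.cl (ClSub.idealMod ((Scheme.IdealSheafData.vanishingIdeal ⟨{p}, hp⟩).comap f))) = 0 := by
  haveI := CurveCohLib.isNoetherian_of_proper (k := k) (X := C)
  have hgen : f (genericPoint S) = genericPoint C := by
    obtain ⟨z, hz⟩ := f.surjective (genericPoint C)
    have h : f (genericPoint S) ⤳ genericPoint C := hz ▸ (genericPoint_specializes z).map f.continuous
    exact (h.antisymm (genericPoint_specializes _)).eq
  haveI : Flat f := H23.CurveCorr.flat_of_dominant (C ↘ Spec (CommRingCat.of k)) hdimC.le f hgen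
  have hn : IsIntegrallyClosed (C.presheaf.stalk p) := by
    haveI := GrpSchLib.isRegularLocalRing_stalk_of_smooth (C ↘ Spec (CommRingCat.of k)) p
    exact RegLoc6.isIntegrallyClosed_of_isRegularLocalRing _
  haveI : IsClosedImmersion (C.fromSpecResidueField p) :=
    IsClosedImmersion.of_isPreimmersion _ (by rw [Scheme.range_fromSpecResidueField]; exact hp)
  have hk := S7837.ker_fromSpecResidueField C p hp
  have hI : BlowUp.IsEffCartierIdeal (C.fromSpecResidueField p).ker := by
    rw [hk]
    exact CurveEmbed.isEffCartier_point k hdimC hp hn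
  rw [show Scheme.IdealSheafData.vanishingIdeal ⟨{p}, hp⟩ = (C.fromSpecResidueField p).ker from hk.symm]
  have hIF := S10855.result f _ hI
  have hsupp : ((((C.fromSpecResidueField p).ker).comap f).support : Set S) = f ⁻¹' {p} := by
    rw [hk, Scheme.IdealSheafData.support_comap]
    simp
  refine ⟨hIF, hsupp, fun Γc hΓ hd hsub => ?_⟩
  haveI := hΓ
  have hΓi := SurfNef.invertible_ideal k hdim hΓ hd
  have hFi := (S8914.result _).2 hIF
  obtain ⟨e⟩ := H26.InterDiv.nonempty_pullback_idealMod f _ hI hIF
  let i := Γc.subschemeι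
  letI : Γc.subscheme.Over (Spec (CommRingCat.of k)) := ⟨i ≫ (S ↘ (Spec (CommRingCat.of k)))⟩
  haveI : IsProper (Γc.subscheme ↘ Spec (CommRingCat.of k)) :=
    show IsProper (i ≫ (S ↘ Spec (CommRingCat.of k))) from inferInstance
  obtain ⟨g, hg⟩ := H23.RedSub.exists_lift_closed (i ≫ f) (C.fromSpecResidueField p) (by
    rintro _ ⟨z, rfl⟩
    rw [Scheme.range_fromSpecResidueField]
    exact hsub (Γc.range_subschemeι.le ⟨z, rfl⟩))
  have hJ := PicClLib.isInvertible_pullback (C.fromSpecResidueField p) ((S8914.result _).2 hI)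
  obtain ⟨e₂⟩ := PicMul.cl_eq_iff.1 ((cl_eq_one_of_subsingleton hJ).trans PicMul.one_def)
  obtain ⟨e₃⟩ := PicClLib.nonempty_pullback_structureModule g
  let E : (Scheme.Modules.pullback i).obj (ClSub.idealMod ((C.fromSpecResidueField p).ker.comap f)) ≅
      Coh.structureModule Γc.subscheme :=
    (Scheme.Modules.pullback i).mapIso e.symm ≪≫
      (Scheme.Modules.pullbackComp i f).app _ ≪≫ (Scheme.Modules.pullbackCongr hg.symm).app _ ≪≫
      ((Scheme.Modules.pullbackComp g (C.fromSpecResidueField p)).app _).symm ≪≫
      (Scheme.Modules.pullback g).mapIso e₂ ≪≫ e₃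
  have hp' := CurveOnSurf.pair_ideal (k := k) i hFi (by rw [Scheme.IdealSheafData.ker_subschemeι]; exact hΓi)
  rw [Scheme.IdealSheafData.ker_subschemeι] at hp'
  rw [hp', CurveRR.deg_congr k E, CurveDeg.deg_structureModule, neg_zero]

end Groth.Agent.SurfRows
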