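import Groth.Agent.SurfRows.RatFacts
import Groth.Agent.SurfRows.Fibre
import Groth.Agent.SurfRows.NumEquiv
import Groth.Agent.SurfRows.Decomp
import Groth.Agent.AffCompl.InterFinite
import Groth.Agent.AffCompl.Curves
import Groth.Agent.CurveCohLib.RegularCurve
import Groth.Agent.CurveEmbed.Points
import Groth.Agent.Lib.DivisorExt
import Groth.Agent.Pic13Lib.Hodge.SurfGeneral
import Groth.Agent.H23.CurveCorr
import Groth.Agent.S10855
import Groth.Agent.S1659

/-!
Regular proper surfaces over an arbitrary field: curves, divisors and their pairings.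
-/

set_option autoImplicit false
set_option linter.style.haveILetI false
set_option linter.unusedSectionVars false
set_option backward.isDefEq.respectTransparency false
set_option backward.isDefEq.respectTransparency.types false
set_option maxHeartbeats 1000000

universe u

open CategoryTheory CategoryTheory.Limits AlgebraicGeometry TopologicalSpace Opposite
open Groth.Agent.H23 Groth.Agent.H23.TrivBasic

noncomputable section

namespace Groth.Agent.SurfRows.Reg

open Groth.Agent

attribute [local instance] PicMul.clMonoid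

/-- The ideal of an integral subscheme. -/
theorem integral_ker {X Y : Scheme.{u}} (ι : Y ⟶ X) [IsClosedImmersion ι] [IsIntegral Y]
    (hY : topologicalKrullDim Y = 1) :
    IsIntegral ι.ker.subscheme ∧ (ι.ker.support : Set X) = Set.range ι ∧
      topologicalKrullDim (ι.ker.support : Set X) = 1 := by
  have hs : (ι.ker.support : Set X) = Set.range ι :=
    (Scheme.Hom.support_ker _).trans ι.isClosedEmbedding.isClosed_range.closure_eq
  refine ⟨?_, hs, ?_⟩
  · haveI : Nonempty ι.image := ⟨ι.toImage (Classical.arbitrary _)⟩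
    exact isIntegral_of_isOpenImmersion (inv ι.toImage)
  · rw [hs, ← IsHomeomorph.topologicalKrullDim_eq _ (ι.isEmbedding.toHomeomorph).isHomeomorph, hY]

variable (k : Type u) [Field k] {X : Scheme.{u}} [X.Over (Spec (CommRingCat.of k))]
  [IsProper (X ↘ Spec (CommRingCat.of k))] [IsIntegral X]
  (hdim : topologicalKrullDim X = 2) (hreg : ∀ x : X, IsRegularLocalRing (X.presheaf.stalk x))

include k hdim hreg in
/-- Integral curves are divisors. -/
theorem curve_invertible {I : X.IdealSheafData} (hint : IsIntegral I.subscheme)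
    (hd : topologicalKrullDim (I.support : Set X) = 1) : PicF.IsInvertible (ClSub.idealMod I) := by
  haveI := hint
  have hd' : topologicalKrullDim I.subscheme = 1 := by
    rw [IsHomeomorph.topologicalKrullDim_eq _
      ((I.subschemeι.isEmbedding.toHomeomorph).trans (Homeomorph.setCongr I.range_subschemeι)).isHomeomorph, hd]
  have h := CurveOnSurf.isInvertible_ideal (X ↘ Spec (CommRingCat.of k)) hdim hreg I.subschemeι hd'
  rwa [Scheme.IdealSheafData.ker_subschemeι] at h

include hdim hreg in
/-- The intersection number with a curve. -/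
theorem intNum_curve {Y : Scheme.{u}} (ι : Y ⟶ X) [IsClosedImmersion ι] [IsIntegral Y]
    (hY : topologicalKrullDim Y = 1) {L : X.Modules} (hL : PicF.IsInvertible L) :
    FGA.intNum k X 2 ![L] ((Coh.push ι).obj (Coh.structureModule Y)) =
      SurfPairing.pair k (PicF.cl (ClSub.idealMod ι.ker)) (PicF.cl L) := by
  classical
  haveI := CurveCohLib.isNoetherian_of_proper (k := k) (X := X)
  obtain ⟨h1, -, h3⟩ := integral_ker ι hY
  have hI := curve_invertible k hdim hreg h1 h3
  have he := SurfNegDef.euler_quot_tensor (k := k) ι.ker hI hL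
  obtain ⟨e⟩ := DivisorExt.nonempty_quotMod_iso ι
  let F := (Coh.push ι).obj (Coh.structureModule Y)
  let e' : ClSub.quotMod ι.ker ≅ F := e
  have hF : Coh.IsCoh F := QCoh.isCoh_push_structure ι
  have hO := CurveDeg.isCoh_of_isInvertible (InvX.isInvertible_structureModule (X := X))
  have hLc := CurveDeg.isCoh_of_isInvertible hL
  have hu : (Finset.univ : Finset (Finset (Fin 1))) = {∅, {0}} := by decide
  unfold FGA.intNum
  rw [hu, Finset.sum_insert (by decide), Finset.sum_singleton]
  simp only [Finset.sort_empty, Finset.sort_singleton, Finset.card_empty, Finset.card_singleton, pow_zero,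
    pow_one, one_mul, List.map_nil, List.map_cons, Matrix.cons_val_zero]
  show FGA.eulerCharLE k X (CohB1.tensorMod (Coh.structureModule X) F) 2 +
      -1 * FGA.eulerCharLE k X (CohB1.tensorMod (CohB1.tensorMod L (Coh.structureModule X)) F) 2 = _
  rw [SurfPairing.eulerCharLE_eq k hdim.le (ParShLib.isCoh_tensorMod hO hF).1,
    SurfPairing.eulerCharLE_eq k hdim.le
      (ParShLib.isCoh_tensorMod (ParShLib.isCoh_tensorMod hLc hO) hF).1]
  obtain ⟨a⟩ := PicMul.comm (Coh.structureModule X) F
  obtain ⟨b⟩ := PicMul.unit F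
  obtain ⟨c⟩ := PicMul.unit L
  obtain ⟨d⟩ := PicMul.comm L F
  obtain ⟨t⟩ : Nonempty (CohB1.tensorMod (CohB1.tensorMod L (Coh.structureModule X)) F ≅
      CohB1.tensorMod (ClSub.quotMod ι.ker) L) :=
    PicMul.cl_eq_iff.1 (by
      rw [PicMul.cl_tensor, PicMul.cl_tensor, PicMul.cl_tensor, ← PicMul.one_def, mul_one,
        ← PicMul.cl_eq_iff.2 ⟨e'⟩, mul_comm])
  rw [Euler.euler_congr k (show CohB1.tensorMod (Coh.structureModule X) F ≅ ClSub.quotMod ι.ker from
    a ≪≫ b ≪≫ e'.symm), Euler.euler_congr k t]
  linarith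

include k hdim hreg in
/-- An effective divisor is a sum of integral curves lying on it. -/
theorem exists_curves {D : X.IdealSheafData} (hD : BlowUp.IsEffCartierIdeal D) :
    ∃ s : Multiset X.IdealSheafData,
      (∀ C ∈ s, IsIntegral C.subscheme ∧ topologicalKrullDim (C.support : Set X) = 1 ∧
        (C.support : Set X) ⊆ D.support) ∧ D = s.prod := by
  classical
  haveI := CurveCohLib.isNoetherian_of_proper (k := k) (X := X)
  have hDi := (S8914.result D).2 hD
  obtain ⟨L, hL, hLD⟩ := PicInv.exists_inverse hDi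
  obtain ⟨c⟩ := PicMul.comm L (ClSub.idealMod D)
  have hinv : ClSub.IsInverseOf L (ClSub.idealMod D) := let ⟨e⟩ := hLD; ⟨c ≪≫ e⟩
  obtain ⟨s, hs, hloc⟩ := AVAmple.exists_divisor_section_ne_zero D hD hL hinv
  obtain ⟨S, hSf, hSc, hSi, hS⟩ := NoetherianSpace.exists_finite_set_isClosed_irreducible
    (locus s).isOpen.isClosed_compl
  have hη : ∀ t : S, ∃ η : X, η ∉ locus s ∧ VarDim.deg (X ↘ Spec (CommRingCat.of k)) η = 1 ∧
      (t : Set X) ⊆ closure {η} := fun t => by
    obtain ⟨τ, hτ⟩ := QuasiSober.sober (hSi t t.2) (hSc t t.2)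
    obtain ⟨η, hη, hsp, hd⟩ := AffCompl.exists_zero_curve_point k hdim hL hs (x := τ)
      (fun h => (hS.ge ⟨t, t.2, hτ.mem⟩ : τ ∈ (locus s : Set X)ᶜ) h)
    refine ⟨η, hη, hd, ?_⟩
    rw [← hτ.def]
    exact isClosed_closure.closure_subset_iff.2 (Set.singleton_subset_iff.2 (specializes_iff_mem_closure.1 hsp))
  choose g hg hgd hgs using hη
  haveI := hSf.to_subtype
  obtain ⟨n, ⟨e⟩⟩ := Finite.exists_equiv_fin S
  let f : Fin n → X.IdealSheafData := fun i => AffCompl.curveOf (g (e.symm i))
  have hm : ∀ i, IsIntegral (f i).subscheme ∧ topologicalKrullDim ((f i).support : Set X) = 1 := fun i =>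
    ⟨AffCompl.isIntegral_curveOf _, AffCompl.dim_curveOf k (hgd _)⟩
  obtain ⟨a, ha⟩ := S1659.result X D hD n f
    (fun i => (S8914.result _).1 (curve_invertible k hdim hreg (hm i).1 (hm i).2))
    (fun i => (hm i).1) (fun x hx => by
      have hxl : x ∈ (locus s : Set X)ᶜ := fun h => (hloc x).1 h hx
      rw [hS] at hxl
      obtain ⟨t, htS, hxt⟩ := hxl
      refine Set.mem_iUnion.2 ⟨e ⟨t, htS⟩, ?_⟩
      show x ∈ ((AffCompl.curveOf (g (e.symm (e ⟨t, htS⟩)))).support : Set X)
      rw [e.symm_apply_apply, AffCompl.coe_support_curveOf]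
      exact hgs _ hxt)
  refine ⟨∑ i, Multiset.replicate (a i) (f i), fun C hC => ?_, ?_⟩
  · obtain ⟨i, -, hi⟩ := Multiset.mem_sum.1 hC
    rw [Multiset.eq_of_mem_replicate hi]
    refine ⟨(hm i).1, (hm i).2, ?_⟩
    show ((AffCompl.curveOf (g (e.symm i))).support : Set X) ⊆ _
    rw [AffCompl.coe_support_curveOf]
    refine D.support.isClosed.closure_subset_iff.2 (Set.singleton_subset_iff.2 ?_)
    by_contra hn
    exact hg _ ((hloc _).2 hn)
  · rw [ha, Multiset.prod_sum]
    exact Finset.prod_congr rfl fun i _ => (Multiset.prod_replicate _ _).symm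

include k hdim hreg in
/-- Orthogonality to the components of an effective divisor gives orthogonality to the divisor. -/
theorem pair_eq_zero {D : X.IdealSheafData} (hD : BlowUp.IsEffCartierIdeal D) {M : X.Modules}
    (hM : PicF.IsInvertible M)
    (h : ∀ C : X.IdealSheafData, IsIntegral C.subscheme → topologicalKrullDim (C.support : Set X) = 1 →
      (C.support : Set X) ⊆ D.support → SurfPairing.pair k (PicF.cl (ClSub.idealMod C)) (PicF.cl M) = 0) :
    SurfPairing.pair k (PicF.cl (ClSub.idealMod D)) (PicF.cl M) = 0 := by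
  obtain ⟨s, hs, rfl⟩ := exists_curves k hdim hreg hD
  have key : ∀ t : Multiset X.IdealSheafData, (∀ C ∈ t, C ∈ s) →
      PicF.IsInvertible (ClSub.idealMod t.prod) ∧
        SurfPairing.pair k (PicF.cl (ClSub.idealMod t.prod)) (PicF.cl M) = 0 := by
    intro t
    induction t using Multiset.induction with
    | empty =>
      intro _
      have h1 : BlowUp.IsEffCartierIdeal ((0 : Multiset X.IdealSheafData).prod) := by
        rw [Multiset.prod_zero, Scheme.IdealSheafData.one_eq_top]
        intro x
        obtain ⟨U, hU, hxU, -⟩ := exists_isAffineOpen_mem_and_subset (x := x) (U := ⊤) trivial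
        exact ⟨⟨U, hU⟩, hxU, 1, one_mem _, by simp⟩
      have h2 := (S8914.result _).2 h1
      have hc := IdealModMul.cl_mul h2 h2
      rw [Multiset.prod_zero, one_mul] at hc
      rw [Multiset.prod_zero] at h2 ⊢
      refine ⟨h2, ?_⟩
      have h3 := SurfPairing.pair_mul k hdim.le hM h2 h2
      rw [← hc] at h3
      rw [SurfPairing.pair_comm]
      linarith
    | cons C t ih =>
      intro hmem
      obtain ⟨ht, ht0⟩ := ih fun E hE => hmem E (Multiset.mem_cons_of_mem hE)
      obtain ⟨hC1, hC2, hC3⟩ := hs C (hmem C (Multiset.mem_cons_self _ _))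
      have hCi := curve_invertible k hdim hreg hC1 hC2
      rw [Multiset.prod_cons]
      refine ⟨IdealModMul.isInvertible_mul hCi ht, ?_⟩
      rw [IdealModMul.cl_mul hCi ht, SurfPairing.pair_comm k (_ * _), SurfPairing.pair_mul k hdim.le hM hCi ht,
        SurfPairing.pair_comm k (PicF.cl M), h C hC1 hC2 hC3, SurfPairing.pair_comm k (PicF.cl M), ht0, add_zero]
  exact (key s fun _ hC => hC).2

include k hdim hreg in
/-- A curve meeting a divisor that does not contain it meets it positively. -/
theorem pair_pos_of_meet {I J : X.IdealSheafData} (hI : IsIntegral I.subscheme)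
    (hId : topologicalKrullDim (I.support : Set X) = 1) (hJ : BlowUp.IsEffCartierIdeal J)
    (hIJ : ¬ (I.support : Set X) ⊆ J.support) {z : X} (hzI : z ∈ I.support) (hzJ : z ∈ J.support) :
    0 < SurfPairing.pair k (PicF.cl (ClSub.idealMod I)) (PicF.cl (ClSub.idealMod J)) := by
  haveI := CurveCohLib.isNoetherian_of_proper (k := k) (X := X)
  have hIi := curve_invertible k hdim hreg hI hId
  have hJi := (S8914.result _).2 hJ
  have hfin : ((I ⊔ J).support : Set X).Finite := by
    let i' := I.subschemeι
    haveI := hI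
    letI : I.subscheme.Over (Spec (CommRingCat.of k)) := ⟨i' ≫ (X ↘ (Spec (CommRingCat.of k)))⟩
    haveI : IsProper (I.subscheme ↘ Spec (CommRingCat.of k)) :=
      show IsProper (i' ≫ (X ↘ Spec (CommRingCat.of k))) from inferInstance
    haveI := CurveCohLib.isNoetherian_of_proper (k := k) (X := I.subscheme)
    have hrange : Set.range i' = (I.support : Set X) := I.range_subschemeι
    have hd' : topologicalKrullDim I.subscheme = 1 := topologicalKrullDim_subscheme.trans hId
    have hT : IsClosed (i' ⁻¹' (J.support : Set X)) := J.support.isClosed.preimage i'.continuous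
    have hclosed : ∀ w ∈ i' ⁻¹' (J.support : Set X), IsClosed ({w} : Set I.subscheme) := fun w hw => by
      by_contra hw'
      rw [CurveCohLib.eq_genericPoint_of_not_isClosed hd' hw'] at hw
      refine hIJ fun y hy => ?_
      obtain ⟨v, rfl⟩ := hrange.ge hy
      exact (genericPoint_specializes v).mem_closed hT hw
    obtain ⟨S', hSf, hSc, hSi, hS⟩ := TopologicalSpace.NoetherianSpace.exists_finite_set_isClosed_irreducible hT
    have hfinT : (i' ⁻¹' (J.support : Set X)).Finite := by
      rw [hS]
      refine hSf.sUnion fun t ht => ?_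
      obtain ⟨τ, hτ⟩ := QuasiSober.sober (hSi t ht) (hSc t ht)
      rw [← hτ.def, (hclosed τ (hS.ge ⟨t, ht, hτ.mem⟩)).closure_eq]
      exact Set.finite_singleton τ
    refine (hfinT.image i').subset fun y hy => ?_
    rw [Scheme.IdealSheafData.support_sup] at hy
    obtain ⟨v, rfl⟩ := hrange.ge hy.1
    exact ⟨v, hy.2, rfl⟩
  have hd2 : ∀ Z ∈ irreducibleComponents (X : Type u), topologicalKrullDim Z = 2 := fun Z hZ => by
    rw [irreducibleComponents_eq_singleton] at hZ
    rw [Set.mem_singleton_iff.1 hZ, (Homeomorph.Set.univ X).isHomeomorph.topologicalKrullDim_eq, hdim]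
  have h := InterFinite.intNum_eq k hd2 (fun x => by
    haveI := hreg x
    exact AvramovLib.isCM_of_regular _) I J ((S8914.result _).1 hIi) hJ hfin
  rw [SurfPairing.intNum_eq_pair k hdim.le hIi hJi] at h
  rw [h]
  refine Int.natCast_pos.2 (Nat.pos_of_ne_zero fun h0 => ?_)
  haveI := CurveCohLib.finite_HH (k := k) (ParShLib.isCoh_quotMod (I ⊔ J)) 0
  haveI : Subsingleton (Coh.HH X (ClSub.quotMod (I ⊔ J)) 0) := Module.finrank_zero_iff.1 h0
  haveI : Nonempty (I ⊔ J).subscheme := by
    obtain ⟨v, -⟩ : z ∈ Set.range (I ⊔ J).subschemeι := by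
      rw [Scheme.IdealSheafData.range_subschemeι, Scheme.IdealSheafData.support_sup]
      exact ⟨hzI, hzJ⟩
    exact ⟨v⟩
  exact CurveOnSurf.mapLin_toSubscheme_ne_zero (k := k) (I ⊔ J) (LinearMap.ext fun _ => Subsingleton.elim _ _)

include hdim hreg in
/-- A numerically trivial module is orthogonal to every curve. -/
theorem pair_of_numEquivZero {M : X.Modules} (hM : PicF.IsInvertible M) (h : Pic13.IsNumEquivZero k X M)
    {Y : Scheme.{u}} (ι : Y ⟶ X) [IsClosedImmersion ι] [IsIntegral Y] (hY : topologicalKrullDim Y = 1) :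
    SurfPairing.pair k (PicF.cl (ClSub.idealMod ι.ker)) (PicF.cl M) = 0 := by
  obtain ⟨h1, -, h3⟩ := integral_ker ι hY
  letI : Y.Over (Spec (CommRingCat.of k)) := ⟨ι ≫ (X ↘ (Spec (CommRingCat.of k)))⟩
  haveI : IsProper (Y ↘ Spec (CommRingCat.of k)) :=
    show IsProper (ι ≫ (X ↘ Spec (CommRingCat.of k))) from inferInstance
  rw [CurveOnSurf.pair_ideal (k := k) ι hM (curve_invertible k hdim hreg h1 h3),
    ← curveDeg_eq (k := k) hY.le _ (PicClLib.isInvertible_pullback ι hM)]
  exact neg_eq_zero.2 (h Y ι ‹_› hY)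

include hdim hreg in
/-- A pullback from a point is trivial on curves over that point. -/
theorem pair_pullback_point {C : Scheme.{u}} (f : X ⟶ C) {N : C.Modules} (hN : PicF.IsInvertible N) (c : C)
    (hc : IsClosed ({c} : Set C)) {D : X.IdealSheafData} (hD : IsIntegral D.subscheme)
    (hD1 : topologicalKrullDim (D.support : Set X) = 1) (hsub : (D.support : Set X) ⊆ f ⁻¹' {c}) :
    SurfPairing.pair k (PicF.cl (ClSub.idealMod D)) (PicF.cl ((Scheme.Modules.pullback f).obj N)) = 0 := by
  haveI := hD
  have hDi := curve_invertible k hdim hreg hD hD1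
  let i := D.subschemeι
  letI : D.subscheme.Over (Spec (CommRingCat.of k)) := ⟨i ≫ (X ↘ (Spec (CommRingCat.of k)))⟩
  haveI : IsProper (D.subscheme ↘ Spec (CommRingCat.of k)) :=
    show IsProper (i ≫ (X ↘ Spec (CommRingCat.of k))) from inferInstance
  haveI : IsClosedImmersion (C.fromSpecResidueField c) :=
    IsClosedImmersion.of_isPreimmersion _ (by rw [Scheme.range_fromSpecResidueField]; exact hc)
  obtain ⟨q, hq⟩ := H23.RedSub.exists_lift_closed (i ≫ f) (C.fromSpecResidueField c) (by
    rintro _ ⟨z, rfl⟩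
    rw [Scheme.range_fromSpecResidueField]
    exact hsub (D.range_subschemeι.le ⟨z, rfl⟩))
  obtain ⟨e₂⟩ := PicMul.cl_eq_iff.1
    ((cl_eq_one_of_subsingleton (PicClLib.isInvertible_pullback (C.fromSpecResidueField c) hN)).trans PicMul.one_def)
  obtain ⟨e₃⟩ := PicClLib.nonempty_pullback_structureModule q
  let E : (Scheme.Modules.pullback i).obj ((Scheme.Modules.pullback f).obj N) ≅ Coh.structureModule D.subscheme :=
    (Scheme.Modules.pullbackComp i f).app _ ≪≫ (Scheme.Modules.pullbackCongr hq.symm).app _ ≪≫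
      ((Scheme.Modules.pullbackComp q (C.fromSpecResidueField c)).app _).symm ≪≫
      (Scheme.Modules.pullback q).mapIso e₂ ≪≫ e₃
  have hp' := CurveOnSurf.pair_ideal (k := k) i (PicClLib.isInvertible_pullback f hN)
    (by rw [Scheme.IdealSheafData.ker_subschemeι]; exact hDi)
  rw [Scheme.IdealSheafData.ker_subschemeι] at hp'
  rw [hp', CurveRR.deg_congr k E, CurveDeg.deg_structureModule, neg_zero]

end Groth.Agent.SurfRows.Reg
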