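import Groth.Agent.SurfRows.RatFacts

/-!
Computation sequences of fundamental cycles.
-/

set_option autoImplicit false
set_option linter.style.haveILetI false
set_option linter.unusedSectionVars false
set_option linter.unusedVariables false
set_option backward.isDefEq.respectTransparency false
set_option backward.isDefEq.respectTransparency.types false
set_option maxHeartbeats 1000000

universe u

open CategoryTheory CategoryTheory.Limits AlgebraicGeometry TopologicalSpace Opposite
open Groth.Agent.H23 Groth.Agent.H23.TrivBasic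

noncomputable section

namespace Groth.Agent.SurfRows

open Groth.Agent

attribute [local instance] PicMul.clMonoid

variable (k : Type u) [Field k] [IsAlgClosed k] {X : Scheme.{u}} [X.Over (Spec (CommRingCat.of k))]
  [IsProper (X ↘ Spec (CommRingCat.of k))] [Smooth (X ↘ Spec (CommRingCat.of k))] [IsIntegral X]

/-- A configuration with a fundamental cycle. -/
structure FC (r : ℕ) (C : Fin r → X.IdealSheafData) (s₀ : Multiset X.IdealSheafData) : Prop where
  dim : topologicalKrullDim X = 2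
  inj : Function.Injective C
  int : ∀ i, IsIntegral (C i).subscheme
  dim1 : ∀ i, topologicalKrullDim ((C i).support : Set X) = 1
  neg : ∀ a : Fin r → ℤ, a ≠ 0 → ∑ i, ∑ j, a i * a j *
      SurfPairing.pair k (PicF.cl (ClSub.idealMod (C i))) (PicF.cl (ClSub.idealMod (C j))) < 0
  mem : ∀ D ∈ s₀, ∃ i, D = C i
  ne : s₀ ≠ 0
  le : ∀ i, SurfPairing.pair k (PicF.cl (ClSub.idealMod (C i))) (PicF.cl (ClSub.idealMod s₀.prod)) ≤ 0
  min : ∀ s : Multiset X.IdealSheafData, (∀ D ∈ s, ∃ i, D = C i) → s ≠ 0 →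
      (∀ i, SurfPairing.pair k (PicF.cl (ClSub.idealMod (C i))) (PicF.cl (ClSub.idealMod s.prod)) ≤ 0) →
      s.prod ≤ s₀.prod

/-- The data from the hypotheses on a fundamental cycle. -/
theorem FC.mk' (hdim : topologicalKrullDim X = 2) {r : ℕ} (C : Fin r → X.IdealSheafData)
    (hC : Function.Injective C) (hCi : ∀ i, IsIntegral (C i).subscheme)
    (hCd : ∀ i, topologicalKrullDim ((C i).support : Set X) = 1)
    (hneg : ∀ a : Fin r → ℤ, a ≠ 0 →
      ∑ i, ∑ j, a i * a j * FGA.intNum k X 2 ![(ClSub.idealMod (C i)), (ClSub.idealMod (C j))] (Coh.structureModule X) < 0)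
    (Z₀ : X.IdealSheafData) (hZ₀ : FGA.IsEffCartier Z₀) (hZ₀0 : Z₀ ≠ ⊤)
    (hZ₀s : (Z₀.support : Set X) ⊆ ⋃ i, ((C i).support : Set X))
    (hZ₀C : ∀ i, 0 ≤ Curv2.euler k X (CohB1.tensorMod (ClSub.quotMod (C i)) (ClSub.idealMod Z₀)) -
      Curv2.euler k X (ClSub.quotMod (C i)))
    (hZ₀min : ∀ Z : X.IdealSheafData, FGA.IsEffCartier Z → Z ≠ ⊤ → (Z.support : Set X) ⊆ ⋃ i, ((C i).support : Set X) →
      (∀ i, 0 ≤ Curv2.euler k X (CohB1.tensorMod (ClSub.quotMod (C i)) (ClSub.idealMod Z)) -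
        Curv2.euler k X (ClSub.quotMod (C i))) → Z ≤ Z₀) :
    ∃ s₀, FC k r C s₀ ∧ Z₀ = s₀.prod := by
  have hI : ∀ i, PicF.IsInvertible (ClSub.idealMod (C i)) := fun i => SurfNef.invertible_ideal k hdim (hCi i) (hCd i)
  have hpair : ∀ (i : Fin r) {Z : X.IdealSheafData}, FGA.IsEffCartier Z →
      ((0 ≤ Curv2.euler k X (CohB1.tensorMod (ClSub.quotMod (C i)) (ClSub.idealMod Z)) -
        Curv2.euler k X (ClSub.quotMod (C i))) ↔
        SurfPairing.pair k (PicF.cl (ClSub.idealMod (C i))) (PicF.cl (ClSub.idealMod Z)) ≤ 0) := fun i {Z} hZ => by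
    rw [SurfNegDef.euler_quot_tensor (k := k) (C i) (hI i) ((S8914.result Z).2 hZ), neg_nonneg]
  obtain ⟨s₀, hs₀, rfl⟩ := exists_curves_config k hdim C hCi hCd hZ₀ hZ₀s
  refine ⟨s₀, ⟨hdim, hC, hCi, hCd, fun a ha => ?_, hs₀, ?_, fun i => (hpair i hZ₀).1 (hZ₀C i), ?_⟩, rfl⟩
  · have := hneg a ha
    simpa only [SurfPairing.intNum_eq_pair k hdim.le (hI _) (hI _)] using this
  · exact fun h0 => hZ₀0 (by rw [h0, Multiset.prod_zero, Scheme.IdealSheafData.one_eq_top])
  · intro s hs hne hle
    have hse := (eff_prod k hdim s fun D hD => by obtain ⟨i, rfl⟩ := hs D hD; exact ⟨hCi i, hCd i⟩).1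
    obtain ⟨D, hD⟩ := Multiset.exists_mem_of_ne_zero hne
    refine hZ₀min _ hse ?_ (fun x hx => ?_) fun i => (hpair i hse).2 (hle i)
    · obtain ⟨i, rfl⟩ := hs D hD
      exact ne_top_of_mem hD (hCi i)
    · obtain ⟨E, hE, hx⟩ := exists_mem_support s hx
      obtain ⟨i, rfl⟩ := hs E hE
      exact Set.mem_iUnion.2 ⟨i, hx⟩

variable {k}
variable {r : ℕ} {C : Fin r → X.IdealSheafData} {s₀ : Multiset X.IdealSheafData}

theorem FC.curve (h : FC k r C s₀) {s : Multiset X.IdealSheafData} (hs : ∀ D ∈ s, ∃ i, D = C i) :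
    ∀ D ∈ s, IsIntegral D.subscheme ∧ topologicalKrullDim (D.support : Set X) = 1 := fun D hD => by
  obtain ⟨i, rfl⟩ := hs D hD
  exact ⟨h.int i, h.dim1 i⟩

theorem FC.off_nonneg (h : FC k r C s₀) (i j : Fin r) (hij : i ≠ j) :
    0 ≤ SurfPairing.pair k (PicF.cl (ClSub.idealMod (C i))) (PicF.cl (ClSub.idealMod (C j))) := by
  haveI := h.int i
  haveI := h.int j
  refine SurfNegDef.pair_ideal_nonneg (k := k) h.dim (SurfHodge.regular k) (h.dim1 i)
    (isEffCartier_curve k h.dim (h.int j) (h.dim1 j)) fun hsub => hij ?_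
  exact h.inj (SurfNegDef.eq_of_support_subset k (h.dim1 i) (h.dim1 j) hsub)

theorem FC.inv (h : FC k r C s₀) {s : Multiset X.IdealSheafData} (hs : ∀ D ∈ s, ∃ i, D = C i) :
    PicF.IsInvertible (ClSub.idealMod s.prod) :=
  (S8914.result _).2 (eff_prod k h.dim s (h.curve hs)).1

/-- Every curve of a connected configuration occurs in the fundamental cycle. -/
theorem FC.mem_all (h : FC k r C s₀)
    (hconn : ∀ S : Finset (Fin r), S.Nonempty → Sᶜ.Nonempty →
      ∃ i ∈ S, ∃ j ∈ Sᶜ, FGA.intNum k X 2 ![(ClSub.idealMod (C i)), (ClSub.idealMod (C j))] (Coh.structureModule X) ≠ 0)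
    (j : Fin r) : C j ∈ s₀ := by
  classical
  by_contra hj
  obtain ⟨D, hD⟩ := Multiset.exists_mem_of_ne_zero h.ne
  obtain ⟨i₀, rfl⟩ := h.mem D hD
  obtain ⟨i, hi, l, hl, hne⟩ := hconn (Finset.univ.filter fun i => C i ∈ s₀) ⟨i₀, by simp [hD]⟩ ⟨j, by simp [hj]⟩
  simp only [Finset.mem_compl, Finset.mem_filter, Finset.mem_univ, true_and] at hi hl
  have hI : ∀ i, PicF.IsInvertible (ClSub.idealMod (C i)) := fun i =>
    SurfNef.invertible_ideal k h.dim (h.int i) (h.dim1 i)
  obtain ⟨a, ha, hp⟩ := pair_config k h.dim C h.inj h.int h.dim1 s₀ h.mem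
  have h1 := h.le l
  rw [SurfPairing.pair_comm, hp _ (hI l)] at h1
  have hnn : ∀ m ∈ Finset.univ, 0 ≤ (a m : ℤ) *
      SurfPairing.pair k (PicF.cl (ClSub.idealMod (C m))) (PicF.cl (ClSub.idealMod (C l))) := fun m _ => by
    by_cases hm : C m ∈ s₀
    · exact mul_nonneg (Int.natCast_nonneg _) (h.off_nonneg m l fun e => hl (e ▸ hm))
    · rw [show a m = 0 from by_contra fun hne => hm ((ha m).2 hne), Nat.cast_zero, zero_mul]
  have h0 := (Finset.sum_eq_zero_iff_of_nonneg hnn).1 (le_antisymm h1 (Finset.sum_nonneg hnn)) i (Finset.mem_univ i)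
  refine hne ?_
  rw [SurfPairing.intNum_eq_pair k h.dim.le (hI i) (hI l)]
  exact (mul_eq_zero.1 h0).resolve_left (by exact_mod_cast (ha i).1 hi)

/-- The computation sequence reaches the fundamental cycle. -/
theorem FC.chain (h : FC k r C s₀) (Q : Multiset X.IdealSheafData → Prop)
    (hbase : ∀ i, C i ∈ s₀ → Q {C i})
    (hstep : ∀ i s, s ≠ 0 → (∀ D ∈ s, ∃ l, D = C l) → C i ::ₘ s ≤ s₀ →
      0 < SurfPairing.pair k (PicF.cl (ClSub.idealMod (C i))) (PicF.cl (ClSub.idealMod s.prod)) →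
      Q s → Q (C i ::ₘ s)) : Q s₀ := by
  classical
  have hI : ∀ i, PicF.IsInvertible (ClSub.idealMod (C i)) := fun i =>
    SurfNef.invertible_ideal k h.dim (h.int i) (h.dim1 i)
  suffices hm : ∀ (m : ℕ) (s : Multiset X.IdealSheafData), s ≠ 0 → s ≤ s₀ →
      Multiset.card s₀ ≤ Multiset.card s + m → Q s → Q s₀ by
    obtain ⟨D, hD⟩ := Multiset.exists_mem_of_ne_zero h.ne
    obtain ⟨i, rfl⟩ := h.mem D hD
    exact hm _ {C i} (Multiset.singleton_ne_zero _) (Multiset.singleton_le.2 hD) (Nat.le_add_left _ _) (hbase i hD)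
  intro m
  induction m with
  | zero => exact fun s _ hle hcard hQ => Multiset.eq_of_le_of_card_le hle (by simpa using hcard) ▸ hQ
  | succ m ih =>
    intro s hne hle hcard hQ
    have hs : ∀ D ∈ s, ∃ l, D = C l := fun D hD => h.mem D (Multiset.mem_of_le hle hD)
    by_cases hex : ∃ i, C i ::ₘ s ≤ s₀ ∧
        0 < SurfPairing.pair k (PicF.cl (ClSub.idealMod (C i))) (PicF.cl (ClSub.idealMod s.prod))
    · obtain ⟨i, hi, hpos⟩ := hex
      exact ih _ Multiset.cons_ne_zero hi (by rw [Multiset.card_cons]; omega) (hstep i s hne hs hi hpos hQ)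
    push Not at hex
    obtain ⟨t, rfl⟩ := Multiset.le_iff_exists_add.1 hle
    suffices ht : t = 0 by rwa [ht, add_zero]
    by_contra ht
    have htm : ∀ D ∈ t, ∃ l, D = C l := fun D hD => h.mem D (Multiset.mem_add.2 (Or.inr hD))
    have hsplit : ∀ i, SurfPairing.pair k (PicF.cl (ClSub.idealMod (C i))) (PicF.cl (ClSub.idealMod (s + t).prod)) =
        SurfPairing.pair k (PicF.cl (ClSub.idealMod (C i))) (PicF.cl (ClSub.idealMod s.prod)) +
        SurfPairing.pair k (PicF.cl (ClSub.idealMod (C i))) (PicF.cl (ClSub.idealMod t.prod)) := fun i => by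
      rw [Multiset.prod_add, IdealModMul.cl_mul (h.inv hs) (h.inv htm),
        SurfPairing.pair_mul k h.dim.le (hI i) (h.inv hs) (h.inv htm)]
    have hall : ∀ i, SurfPairing.pair k (PicF.cl (ClSub.idealMod (C i))) (PicF.cl (ClSub.idealMod s.prod)) ≤ 0 := by
      intro i
      by_cases hit : C i ∈ t
      · refine hex i ?_
        obtain ⟨t', rfl⟩ := Multiset.exists_cons_of_mem hit
        rw [Multiset.add_cons]
        exact Multiset.cons_le_cons _ (Multiset.le_add_right _ _)
      have hnn : 0 ≤ SurfPairing.pair k (PicF.cl (ClSub.idealMod (C i))) (PicF.cl (ClSub.idealMod t.prod)) := by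
        rw [SurfPairing.pair_comm, (eff_prod k h.dim t (h.curve htm)).2 _ (hI i)]
        refine Multiset.sum_nonneg fun x hx => ?_
        obtain ⟨D, hD, rfl⟩ := Multiset.mem_map.1 hx
        obtain ⟨l, rfl⟩ := htm D hD
        exact h.off_nonneg l i fun e => hit (e ▸ hD)
      have := h.le i
      rw [hsplit i] at this
      linarith
    have heq : s.prod = (s + t).prod := le_antisymm (h.min s hs hne hall) (by
      rw [Multiset.prod_add]; exact fun U => Ideal.mul_le_left)
    have ht0 := self_neg_config k h.dim C h.inj h.int h.dim1 h.neg t htm ht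
    have hz : ∀ i, SurfPairing.pair k (PicF.cl (ClSub.idealMod (C i))) (PicF.cl (ClSub.idealMod t.prod)) = 0 := fun i => by
      have := hsplit i
      rw [← heq] at this
      linarith
    obtain ⟨a, -, hp⟩ := pair_config k h.dim C h.inj h.int h.dim1 t htm
    rw [hp _ (h.inv htm)] at ht0
    simp [hz] at ht0

/-- Global functions on the fundamental cycle. -/
theorem FC.h0_le_one (h : FC k r C s₀) : Module.finrank k (Coh.HH X (ClSub.quotMod s₀.prod) 0) ≤ 1 := by
  have hO := InvX.isInvertible_structureModule (X := X)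
  refine h.chain (fun s => Module.finrank k (Coh.HH X (ClSub.quotMod s.prod) 0) ≤ 1) (fun i _ => ?_)
    fun i s hne hs hle hpos hQ => ?_
  · rw [Multiset.prod_singleton, ← h0_congr k (cl_one_tensor _)]
    exact (h0_curve k h.dim (h.int i) (h.dim1 i) hO (by rw [← PicMul.one_def, SurfPairing.pair_one])).1
  · have hM := PicMul.isInvertible_tensor hO (h.inv hs)
    have hp : 0 < SurfPairing.pair k (PicF.cl (ClSub.idealMod (C i)))
        (PicF.cl (CohB1.tensorMod (Coh.structureModule X) (ClSub.idealMod s.prod))) := by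
      rw [cl_one_tensor]; exact hpos
    have h2 : Module.finrank k (Coh.HH X (CohB1.tensorMod (CohB1.tensorMod (Coh.structureModule X)
        (ClSub.idealMod s.prod)) (ClSub.quotMod (C i))) 0) = 0 := by
      by_contra hne'
      linarith [((h0_curve k h.dim (h.int i) (h.dim1 i) hM hp.le).2 hne').1]
    have hq := h0_quot_mul_le k s.prod (C i) (eff_prod k h.dim s (h.curve hs)).1 hO
    rw [h2, h0_congr k (cl_one_tensor _), h0_congr k (cl_one_tensor _)] at hq
    rw [Multiset.prod_cons, mul_comm]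
    omega

theorem FC.euler_eq_one (h : FC k r C s₀) (h1 : Subsingleton (Coh.HH X (ClSub.quotMod s₀.prod) 1)) :
    Curv2.euler k X (ClSub.quotMod s₀.prod) = 1 := by
  rw [euler_eq_prod k h.dim s₀ (h.curve h.mem),
    Module.finrank_zero_of_subsingleton (M := Coh.HH X (ClSub.quotMod s₀.prod) 1)]
  obtain ⟨D, hD⟩ := Multiset.exists_mem_of_ne_zero h.ne
  obtain ⟨i, rfl⟩ := h.mem D hD
  have := one_le_h0 k (ne_top_of_mem hD (h.int i))
  have := h.h0_le_one
  omega

/-- Modules nonnegative on the configuration have no first cohomology on a rational fundamental cycle. -/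
theorem FC.h1_twist (h : FC k r C s₀) (hχ : Curv2.euler k X (ClSub.quotMod s₀.prod) = 1) {M : X.Modules}
    (hM : PicF.IsInvertible M)
    (hMC : ∀ i, SurfPairing.pair k (PicF.cl (ClSub.idealMod (C i))) (PicF.cl M) ≤ 0) :
    Subsingleton (Coh.HH X (CohB1.tensorMod M (ClSub.quotMod s₀.prod)) 1) := by
  refine (h.chain (fun s => Curv2.euler k X (ClSub.quotMod s.prod) ≤ 1 ∧
    (Curv2.euler k X (ClSub.quotMod s.prod) = 1 → Subsingleton (Coh.HH X (CohB1.tensorMod M (ClSub.quotMod s.prod)) 1)))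
    (fun i _ => ?_) fun i s hne hs hle hpos hQ => ?_).2 hχ
  · rw [Multiset.prod_singleton]
    exact ⟨euler_curve_le_one k h.dim (h.int i) (h.dim1 i), fun he =>
      (h1_curve k h.dim (h.int i) (h.dim1 i) he.ge hM ((hMC i).trans zero_le_one)).1⟩
  · have hse := (eff_prod k h.dim s (h.curve hs)).1
    have hCe := isEffCartier_curve k h.dim (h.int i) (h.dim1 i)
    have he : Curv2.euler k X (ClSub.quotMod (C i ::ₘ s).prod) = Curv2.euler k X (ClSub.quotMod (C i)) +
        Curv2.euler k X (ClSub.quotMod s.prod) -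
        SurfPairing.pair k (PicF.cl (ClSub.idealMod (C i))) (PicF.cl (ClSub.idealMod s.prod)) := by
      rw [Multiset.prod_cons, euler_quot_mul k (C i) s.prod hCe hse]
    have hc1 := euler_curve_le_one k h.dim (h.int i) (h.dim1 i)
    refine ⟨by linarith [hQ.1], fun h1 => ?_⟩
    have hpi : SurfPairing.pair k (PicF.cl (ClSub.idealMod (C i))) (PicF.cl (CohB1.tensorMod M (ClSub.idealMod s.prod))) ≤ 1 := by
      rw [PicMul.cl_tensor, SurfPairing.pair_mul k h.dim.le (SurfNef.invertible_ideal k h.dim (h.int i) (h.dim1 i)) hM (h.inv hs)]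
      linarith [hMC i, hQ.1]
    have h2 := (h1_curve k h.dim (h.int i) (h.dim1 i) (by linarith [hQ.1])
      (PicMul.isInvertible_tensor hM (h.inv hs)) hpi).1
    rw [Multiset.prod_cons, mul_comm]
    exact h1_step k s.prod (C i) hse hM h2 (hQ.2 (by linarith))

/-- A rational fundamental cycle makes the configuration rational. -/
theorem FC.rational (h : FC k r C s₀) (hχ : Curv2.euler k X (ClSub.quotMod s₀.prod) = 1) (hall : ∀ i, C i ∈ s₀)
    (s : Multiset X.IdealSheafData) (hs : ∀ D ∈ s, ∃ i, D = C i) :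
    Subsingleton (Coh.HH X (ClSub.quotMod s.prod) 1) := by
  classical
  have hO := InvX.isInvertible_structureModule (X := X)
  have hn : ∀ n : ℕ, ∀ D ∈ (n + 1) • s₀, ∃ i, D = C i := fun n D hD => h.mem D (Multiset.mem_nsmul.1 hD).2
  have key : ∀ n : ℕ, Subsingleton (Coh.HH X (ClSub.quotMod ((n + 1) • s₀).prod) 1) := by
    intro n
    induction n with
    | zero =>
      rw [one_nsmul]
      exact hh_congr k (cl_one_tensor _) 1 (h.h1_twist hχ hO fun i => by rw [← PicMul.one_def, SurfPairing.pair_one])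
    | succ n ih =>
      rw [succ_nsmul, Multiset.prod_add]
      refine hh_congr k (cl_one_tensor _) 1 (h1_step k _ _ (eff_prod k h.dim _ (h.curve (hn n))).1 hO ?_
        (hh_congr k (cl_one_tensor _).symm 1 ih))
      refine h.h1_twist hχ (PicMul.isInvertible_tensor hO (h.inv (hn n))) fun i => ?_
      have hI := SurfNef.invertible_ideal k h.dim (h.int i) (h.dim1 i)
      rw [cl_one_tensor, SurfPairing.pair_comm, (eff_prod k h.dim _ (h.curve (hn n))).2 _ hI, Multiset.map_nsmul,
        Multiset.sum_nsmul, ← (eff_prod k h.dim _ (h.curve h.mem)).2 _ hI, SurfPairing.pair_comm]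
      exact nsmul_nonpos (h.le i) _
  have hle : s ≤ (Multiset.card s + 1) • s₀ := Multiset.le_iff_count.2 fun D => by
    rw [Multiset.count_nsmul]
    by_cases hD : D ∈ s
    · obtain ⟨i, rfl⟩ := hs D hD
      calc s.count (C i) ≤ Multiset.card s + 1 := (Multiset.count_le_card _ _).trans (Nat.le_succ _)
        _ = (Multiset.card s + 1) * 1 := (mul_one _).symm
        _ ≤ _ := Nat.mul_le_mul_left _ (Multiset.count_pos.2 (hall i))
    · rw [Multiset.count_eq_zero.2 hD]; exact Nat.zero_le _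
  obtain ⟨t, ht⟩ := Multiset.le_iff_exists_add.1 hle
  have htm : ∀ D ∈ t, ∃ i, D = C i := fun D hD => hn _ D (ht ▸ Multiset.mem_add.2 (Or.inr hD))
  have h2 := key (Multiset.card s)
  rw [ht, Multiset.prod_add] at h2
  exact hh_congr k (cl_one_tensor _) 1 (h1_sub k s.prod t.prod (eff_prod k h.dim s (h.curve hs)).1 hO
    (dim_prod k h.dim t (h.curve htm) (PicMul.isInvertible_tensor hO (h.inv hs)) 2 le_rfl)
    (hh_congr k (cl_one_tensor _).symm 1 h2))

end Groth.Agent.SurfRows
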