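import Groth.Agent.SurfRows.FibrationVertical
import Groth.Agent.SurfRows.FibrationRestrict
import Groth.Agent.H23.PullPush
import Groth.Agent.KFlatLib.Scheme.RpushLocus
import Groth.Agent.S2391
import Groth.Agent.QCoh.RpushExchange
import Groth.Agent.QCoh.RpushExchange2

/-!
Fibrations with integral fibres: modules trivial on general fibres come from the base.
-/

set_option autoImplicit false
set_option linter.style.haveILetI false
set_option linter.unusedSectionVars false
set_option backward.isDefEq.respectTransparency false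
set_option backward.isDefEq.respectTransparency.types false
set_option maxHeartbeats 1000000

universe u

open CategoryTheory CategoryTheory.Limits AlgebraicGeometry TopologicalSpace Opposite
open Groth.Agent.H23 Groth.Agent.H23.TrivBasic

noncomputable section

namespace Groth.Agent.SurfRows

open Groth.Agent Groth.Agent.CurveBundle Groth.Agent.CurveSlope Groth.Agent.CurveStable

attribute [local instance] PicMul.clMonoid

variable (k : Type u) [Field k] [IsAlgClosed k]
  {S : Scheme.{u}} [S.Over (Spec (CommRingCat.of k))] [IsProper (S ↘ Spec (CommRingCat.of k))]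
  [Smooth (S ↘ Spec (CommRingCat.of k))] [IsIntegral S]
  {C : Scheme.{u}} [C.Over (Spec (CommRingCat.of k))] [IsProper (C ↘ Spec (CommRingCat.of k))]
  [Smooth (C ↘ Spec (CommRingCat.of k))] [IsIntegral C]
  (f : S ⟶ C) [f.IsOver (Spec (CommRingCat.of k))] [Surjective f]
  (hdim : topologicalKrullDim S = 2) (hdimC : topologicalKrullDim C = 1)

include hdim hdimC in
/-- The pairing with a pullback only sees the degree. -/
theorem pair_pullback [HasInjectiveResolutions S.Modules] {L : S.Modules} (hL : PicF.IsInvertible L) :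
    ∃ c : ℤ, ∀ N : C.Modules, PicF.IsInvertible N →
      SurfPairing.pair k (PicF.cl ((Scheme.Modules.pullback f).obj N)) (PicF.cl L) = c * Curv2.deg k C N 1 := by
  obtain ⟨hpr, hfl, hlfp, hln⟩ := fibred_morphism k f hdimC
  haveI := hpr; haveI := hln
  haveI := CurveCohLib.isNoetherian_of_proper (k := k) (X := S)
  have key : ∀ {M : S.Modules}, PicF.IsInvertible M → ∃ c : ℤ, ∀ N : C.Modules, PicF.IsInvertible N →
      Curv2.euler k S (CohB1.tensorMod ((Scheme.Modules.pullback f).obj N) M) =
        Curv2.euler k S M + c * Curv2.deg k C N 1 := by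
    intro M hM
    refine ⟨(rk ((Coh.push f).obj M) : ℤ) - rk ((Coh.Rpush f 1).obj M), fun N hN => ?_⟩
    have hP : PicF.IsInvertible (CohB1.tensorMod ((Scheme.Modules.pullback f).obj N) M) :=
      PicMul.isInvertible_tensor (PicClLib.isInvertible_pullback f hN) hM
    obtain ⟨-, -, -, -, h⟩ := fibration_leray k f hdim hdimC hP
    obtain ⟨-, -, -, -, h'⟩ := fibration_leray k f hdim hdimC hM
    obtain ⟨e⟩ := fibration_projection f hN M
    obtain ⟨e'⟩ := S0927.result f M N (locFree hN) 1
    have hR := QCoh.isCoh_Rpush_of_finiteness f (CurveDeg.isCoh_of_isInvertible hM) 1 S0002.result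
    have t₀ := CurveTensor.euler_tensor k hdimC (InvEnd.isFinLocFreeOfRank_one hN)
      (fibration_push_locFree k f hdimC hM).1
    have t₁ := CurveTensor.euler_tensor k hdimC (InvEnd.isFinLocFreeOfRank_one hN) hR
    change Curv2.euler k C (CohB1.tensorMod N ((Coh.push f).obj M)) = _ at t₀
    change Curv2.euler k C (CohB1.tensorMod N ((Coh.Rpush f 1).obj M)) = _ at t₁
    rw [h, ← Euler.euler_congr k e, ← Euler.euler_congr k e', t₀, t₁, h']
    push_cast
    ring
  obtain ⟨a, ha⟩ := key hL
  obtain ⟨b, hb⟩ := key InvX.isInvertible_structureModule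
  refine ⟨a - b, fun N hN => ?_⟩
  have h1 := hb N hN
  rw [show Curv2.euler k S (CohB1.tensorMod ((Scheme.Modules.pullback f).obj N) (Coh.structureModule S)) =
    Curv2.euler k S ((Scheme.Modules.pullback f).obj N) from
      Euler.euler_congr k (PicMul.unit _).some] at h1
  unfold SurfPairing.pair
  rw [← PicMul.cl_tensor, SurfPairing.χ_cl, SurfPairing.χ_cl, SurfPairing.χ_cl, SurfPairing.χ_one, ha N hN, h1]
  ring

omit [Surjective f] in
/-- The pairing with the image of a curve immersed over the base field. -/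
theorem pair_section (s : C ⟶ S) [IsClosedImmersion s] {M : S.Modules} (hM : PicF.IsInvertible M)
    (hI : PicF.IsInvertible (ClSub.idealMod s.ker))
    (hsk : s ≫ (S ↘ Spec (CommRingCat.of k)) = C ↘ Spec (CommRingCat.of k)) :
    SurfPairing.pair k (PicF.cl (ClSub.idealMod s.ker)) (PicF.cl M) =
      -Curv2.deg k C ((Scheme.Modules.pullback s).obj M) 1 := by
  rw [← deg_over k s hsk]
  exact CurveOnSurf.pair_ideal (k := k) s hM hI

variable (hint : ∀ c : C, IsClosed ({c} : Set C) → IsIntegral (f.fiber c) ∧ topologicalKrullDim (f.fiber c) = 1)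

include k hint in
/-- An integral fibre as a curve. -/
theorem integral_fibre (c : C) (hc : IsClosed ({c} : Set C)) :
    IsClosedImmersion (f.fiberι c) ∧ (f.fiberι c).ker = (Scheme.IdealSheafData.vanishingIdeal ⟨{c}, hc⟩).comap f ∧
      IsIntegral ((Scheme.IdealSheafData.vanishingIdeal ⟨{c}, hc⟩).comap f).subscheme ∧
      topologicalKrullDim (((Scheme.IdealSheafData.vanishingIdeal ⟨{c}, hc⟩).comap f).support : Set S) = 1 := by
  haveI := CurveCohLib.isNoetherian_of_proper (k := k) (X := C)
  obtain ⟨h1, h2⟩ := hint c hc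
  haveI := h1
  haveI : IsClosedImmersion (C.fromSpecResidueField c) :=
    IsClosedImmersion.of_isPreimmersion _ (by rw [Scheme.range_fromSpecResidueField]; exact hc)
  haveI hcl : IsClosedImmersion (f.fiberι c) := MorphismProperty.pullback_fst _ _ inferInstance
  have hk : (f.fiberι c).ker = (Scheme.IdealSheafData.vanishingIdeal ⟨{c}, hc⟩).comap f := by
    exact (Scheme.IdealSheafData.ker_fst_of_isClosedImmersion (C.fromSpecResidueField c) f).trans
      (congrArg (fun I : C.IdealSheafData => I.comap f) (S7837.ker_fromSpecResidueField C c hc))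
  refine ⟨hcl, hk, ?_, ?_⟩
  · rw [← hk]
    haveI : IsIso (f.fiberι c).toImage := inferInstance
    haveI : Nonempty (f.fiberι c).image := ⟨(f.fiberι c).toImage (Classical.arbitrary _)⟩
    exact isIntegral_of_isOpenImmersion (inv (f.fiberι c).toImage)
  · rw [← hk, show (((f.fiberι c).ker.support : Closeds S) : Set S) = Set.range (f.fiberι c) from
        (Scheme.Hom.support_ker _).trans (f.fiberι c).isClosedEmbedding.isClosed_range.closure_eq,
      ← IsHomeomorph.topologicalKrullDim_eq _ ((f.fiberι c).isEmbedding.toHomeomorph).isHomeomorph, h2]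

variable {D : S.Modules} (hD : PicF.IsInvertible D) (U : C.Opens) (hU : (U : Set C).Nonempty)
  (htriv : ∀ b ∈ U, IsClosed ({b} : Set C) → Nonempty ((Scheme.Modules.pullback (f.fiberι b)).obj D ≅
    Coh.structureModule (f.fiber b)))

include k hdimC hint hD hU htriv in
/-- A module trivial on general fibres has a nonzero direct image. -/
theorem push_ne_zero [HasInjectiveResolutions S.Modules] : ¬ IsZero ((Coh.push f).obj D) := by
  obtain ⟨hpr, hfl, hlfp, hln⟩ := fibred_morphism k f hdimC
  haveI := hpr; haveI := hfl; haveI := hlfp; haveI := hln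
  haveI : JacobsonSpace C := LocallyOfFiniteType.jacobsonSpace (C ↘ Spec (CommRingCat.of k))
  have hfp := QCoh.isFP_of_isFinLocFree (locFree hD)
  have hflat := H28.FlatPr.isFlatOver_of_isFinLocFree f (locFree hD)
  have hrank : ∀ b ∈ U, IsClosed ({b} : Set C) → CohIII.fiberRank f D 0 b = 1 := by
    intro b hb hbc
    obtain ⟨e⟩ := htriv b hb hbc
    haveI := (hint b hbc).1
    haveI : IsAlgClosed (C.residueField b) := IsAlgClosed.of_ringEquiv k _
      (RingEquiv.ofBijective (Curv2.resMap k C b) ⟨(Curv2.resMap k C b).injective, CurveSection.surjective_resMap k hbc⟩)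
    letI : (f.fiber b).Over (Spec (CommRingCat.of ↥(C.residueField b))) := ⟨f.fiberToSpecResidueField b⟩
    haveI : IsProper (f.fiberToSpecResidueField b) := MorphismProperty.pullback_snd _ _ inferInstance
    haveI : IsProper (f.fiber b ↘ Spec (CommRingCat.of ↥(C.residueField b))) :=
      ‹IsProper (f.fiberToSpecResidueField b)›
    exact (CurveCohLib.hhEquiv (k := ↥(C.residueField b)) e 0).finrank_eq.trans
      (SurfAdj.finrank_h0 (C.residueField b) (f.fiber b))
  obtain ⟨V, hV⟩ : ∃ V : C.Opens, (V : Set C) = {s | CohIII.fiberRank f D 0 s < 2} :=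
    ⟨⟨_, KFlatLib.FibreEuler.isOpen_fiberRank_lt (f := f) hfp hflat 0 2⟩, rfl⟩
  obtain ⟨b₁, hb₁, hb₁c⟩ := nonempty_inter_closedPoints hU U.isOpen.isLocallyClosed
  let W : C.Opens := U ⊓ V
  have hb₁W : b₁ ∈ W := ⟨hb₁, hV.ge (show CohIII.fiberRank f D 0 b₁ < 2 by rw [hrank b₁ hb₁ hb₁c]; norm_num)⟩
  have hconst : ∀ y ∈ W, CohIII.fiberRank f D 0 y = 1 := by
    intro y hy
    have h2 : CohIII.fiberRank f D 0 y < 2 := hV.le hy.2
    by_contra h1
    obtain ⟨b, ⟨hb, hb'⟩, hbc⟩ := nonempty_inter_closedPoints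
      (Z := (U : Set C) ∩ {s | CohIII.fiberRank f D 0 s < 1}) ⟨y, hy.1, show _ < 1 by omega⟩
      (U.isOpen.inter (KFlatLib.FibreEuler.isOpen_fiberRank_lt (f := f) hfp hflat 0 1)).isLocallyClosed
    have hb'' : CohIII.fiberRank f D 0 b < 1 := hb'
    rw [hrank b hb hbc] at hb''
    exact lt_irrefl _ hb''
  intro hz
  let g := f ∣_ W
  haveI : IsReduced (W : Scheme.{u}) := isReduced_of_isOpenImmersion W.ι
  haveI : IsLocallyNoetherian (W : Scheme.{u}) := LocallyOfFiniteType.isLocallyNoetherian W.ι
  haveI : IsProper g := IsZariskiLocalAtTarget.restrict ‹IsProper f› W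
  haveI := CurveCohLib.isNoetherian_of_proper (k := k) (X := S)
  haveI : HasInjectiveResolutions ((f ⁻¹ᵁ W : S.Opens) : Scheme.{u}).Modules :=
    KFlatLib.hasInjectiveResolutions_modules
  let DW := (Scheme.Modules.pullback (f ⁻¹ᵁ W).ι).obj D
  have hDW : PicF.IsInvertible DW := PicClLib.isInvertible_pullback _ hD
  haveI : IsLocallyNoetherian ((f ⁻¹ᵁ W : S.Opens) : Scheme.{u}) :=
    LocallyOfFiniteType.isLocallyNoetherian (f ⁻¹ᵁ W).ι
  haveI : Flat g := IsZariskiLocalAtTarget.restrict ‹Flat f› W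
  have hc : IsLocallyConstant (CohIII.fiberRank g DW 0) := by
    refine IsLocallyConstant.of_constant _ fun a b => ?_
    rw [KFlatLib.Locus.fiberRank_baseChange hfp hflat (isPullback_morphismRestrict f W).flip 0 a,
      KFlatLib.Locus.fiberRank_baseChange hfp hflat (isPullback_morphismRestrict f W).flip 0 b]
    exact (hconst (W.ι a) a.2).trans (hconst (W.ι b) b.2).symm
  obtain ⟨-, h⟩ := S2391.result g DW (CurveDeg.isCoh_of_isInvertible hDW)
    (H28.FlatPr.isFlatOver_of_isFinLocFree g (locFree hDW)) 0 hc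
  obtain ⟨O, hO, ⟨e⟩⟩ := h ⟨b₁, hb₁W⟩
  rw [KFlatLib.Locus.fiberRank_baseChange hfp hflat (isPullback_morphismRestrict f W).flip 0,
    show CohIII.fiberRank f D 0 (W.ι ⟨b₁, hb₁W⟩) = 1 from hconst _ hb₁W] at e
  haveI := SpObjSS.enoughInjectives_of_hasInjectiveResolutions (C := ((f ⁻¹ᵁ W : S.Opens) : Scheme.{u}).Modules)
  haveI := QCoh.preservesFiniteLimits_push g
  have hz' : IsZero ((Coh.push g).obj DW) := by
    refine IsZero.of_iso ?_ ((Coh.push g).mapIso ((Scheme.Modules.restrictFunctorIsoPullback (f ⁻¹ᵁ W).ι).app D).symm)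
    exact IsZero.of_iso (Functor.map_isZero (Scheme.Modules.restrictFunctor W.ι) hz)
      (@asIso _ _ _ _ _ (PullPush.isIso_pushRestrict_app f W D)).symm
  have hz0 : IsZero ((Coh.Rpush g 0).obj DW) :=
    hz'.of_iso ((Scheme.Modules.pushforward g).rightDerivedZeroIsoSelf.app DW)
  have hfree : IsZero (FlatMod.freeMod (O : Scheme.{u}) 1) :=
    (Functor.map_isZero (Scheme.Modules.restrictFunctor O.ι) hz0).of_iso e.symm
  have hO' : IsZero (Coh.structureModule (O : Scheme.{u})) :=
    hfree.of_iso (coproductUniqueIso fun _ : Fin 1 => Coh.structureModule (O : Scheme.{u})).symm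
  haveI : Subsingleton Γ((O : Scheme.{u}), ⊤) := QCoh.subsingleton_Γ_of_isZero hO' ⊤
  haveI : Nonempty (O : Scheme.{u}) := ⟨⟨_, hO⟩⟩
  haveI : IsIntegral (W : Scheme.{u}) := by
    haveI : Nonempty (W : Scheme.{u}) := ⟨⟨b₁, hb₁W⟩⟩
    exact isIntegral_of_isOpenImmersion W.ι
  haveI : IsIntegral (O : Scheme.{u}) := isIntegral_of_isOpenImmersion O.ι
  haveI : Nonempty (⊤ : (O : Scheme.{u}).Opens) := ⟨⟨⟨_, hO⟩, trivial⟩⟩
  exact one_ne_zero (Subsingleton.elim (1 : Γ((O : Scheme.{u}), ⊤)) 0)

include k hdim hdimC hint in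
/-- Effective modules orthogonal to a fibre come from the base. -/
theorem exists_base_of_section (b : C) (hb : IsClosed ({b} : Set C)) {L : S.Modules} (hL : PicF.IsInvertible L)
    (h0 : SurfPairing.pair k (PicF.cl (ClSub.idealMod ((Scheme.IdealSheafData.vanishingIdeal ⟨{b}, hb⟩).comap f)))
      (PicF.cl L) = 0) {s : Γ(L, ⊤)} (hs : s ≠ 0) :
    ∃ N : C.Modules, PicF.IsInvertible N ∧ PicF.cl ((Scheme.Modules.pullback f).obj N) = PicF.cl L := by
  obtain ⟨hpr, hfl, hlfp, hln⟩ := fibred_morphism k f hdimC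
  haveI := hpr
  haveI := CurveCohLib.isNoetherian_of_proper (k := k) (X := C)
  obtain ⟨H, hH⟩ := SurfAdj.exists_ample k hdim
  let Fc : ∀ (c : C), IsClosed ({c} : Set C) → S.IdealSheafData :=
    fun c hc => (Scheme.IdealSheafData.vanishingIdeal ⟨{c}, hc⟩).comap f
  have hFi : ∀ c hc, PicF.IsInvertible (ClSub.idealMod (Fc c hc)) :=
    fun c hc => (S8914.result _).2 (fibre_facts k hdim hdimC f c hc).1
  obtain ⟨LF, hLF, hLFI⟩ := PicInv.exists_inverse (hFi b hb)
  obtain ⟨c'⟩ := PicMul.comm LF (ClSub.idealMod (Fc b hb))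
  have hnef : SurfNef.Nef k LF := by
    refine (fibre_nef k hdim hdimC f b hb (LF := LF) ?_).2.1
    rw [(integral_fibre k f hint b hb).2.1]
    exact let ⟨e⟩ := hLFI; ⟨c' ≪≫ e⟩
  have hcl : PicF.cl (ClSub.idealMod (Fc b hb)) * PicF.cl LF = 1 := by
    rw [← PicMul.cl_tensor, PicMul.one_def]; exact PicMul.cl_eq_iff.2 hLFI
  suffices key : ∀ n : ℕ, ∀ (L : S.Modules), PicF.IsInvertible L →
      SurfPairing.pair k (PicF.cl (ClSub.idealMod (Fc b hb))) (PicF.cl L) = 0 →
      ∀ (s : Γ(L, ⊤)), s ≠ 0 → SurfPairing.pair k (PicF.cl L) (PicF.cl H) < n →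
      ∃ N : C.Modules, PicF.IsInvertible N ∧ PicF.cl ((Scheme.Modules.pullback f).obj N) = PicF.cl L from
    key _ L hL h0 s hs (show _ < ((((SurfPairing.pair k (PicF.cl L) (PicF.cl H)).toNat + 1 : ℕ)) : ℤ) by
      push_cast; omega)
  clear hs s h0 hL L
  intro n
  induction n with
  | zero => exact fun L hL _ s hs h => absurd h (not_lt.2 (SurfAmple.pair_nonneg (k := k) hdim.le hL hH hs))
  | succ n ih =>
    intro L hL h0 s hs hlt
    by_cases htop : locus s = ⊤
    · refine ⟨Coh.structureModule C, InvX.isInvertible_structureModule, ?_⟩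
      exact (PicMul.cl_eq_iff.2 (PicClLib.nonempty_pullback_structureModule f)).trans
        (PicMul.cl_eq_iff.2 (triv_of_frame (locus_eq_top_iff.1 htop))).symm
    obtain ⟨J, hJ, hJd, hJs⟩ := SurfAmple.exists_curve k hdim hL hs htop
    haveI := hJ
    have hJd' : topologicalKrullDim (J.support : Set S) = 1 := by
      rw [← IsHomeomorph.topologicalKrullDim_eq _
        ((J.subschemeι.isEmbedding.toHomeomorph).trans (Homeomorph.setCongr J.range_subschemeι)).isHomeomorph, hJd]
    obtain ⟨t, ht⟩ := SurfAmple.exists_lift_section J hL hs hJs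
    have hI := SurfNef.invertible_ideal k hdim hJ hJd'
    have hLI := PicMul.isInvertible_tensor hL hI
    have hneg := SurfNegDef.pair_curve_ample_neg (k := k) hdim (SurfHodge.regular k) hJd' hH
    have hp : SurfPairing.pair k (PicF.cl (CohB1.tensorMod L (ClSub.idealMod J))) (PicF.cl H) < n := by
      rw [PicMul.cl_tensor, SurfPairing.pair_comm k _ (PicF.cl H), SurfPairing.pair_mul k hdim.le hH.1 hL hI,
        SurfPairing.pair_comm k (PicF.cl H) (PicF.cl L), SurfPairing.pair_comm k (PicF.cl H)]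
      push_cast at hlt
      linarith
    obtain ⟨c, hc, hJc⟩ : ∃ (c : C) (hc : IsClosed ({c} : Set C)), J = Fc c hc := by
      by_cases hJb : J = Fc b hb
      · exact ⟨b, hb, hJb⟩
      have h1 := SurfNef.nef_section k hdim hLF hnef hLI ht
      rw [PicMul.cl_tensor, SurfPairing.pair_mul k hdim.le hLF hL hI, SurfPairing.pair_comm k (PicF.cl LF),
        SurfPairing.pair_comm k (PicF.cl LF),
        SurfPairing.pair_inv k hdim.le hL (hFi b hb) hLF hcl,
        SurfPairing.pair_inv k hdim.le hI (hFi b hb) hLF hcl, SurfPairing.pair_comm k (PicF.cl L), h0] at h1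
      obtain ⟨-, -, hbint, hbd⟩ := integral_fibre k f hint b hb
      have hdisj : ∀ x ∈ (J.support : Set S), f x ≠ b := fun x hx hxb => by
        have hm := one_le_pair_of_meet k hdim hJ hJd' hbint hbd hJb hx
          (show x ∈ ((Fc b hb).support : Set S) from (fibre_facts k hdim hdimC f b hb).2.1.ge hxb)
        linarith
      have hirr : IsIrreducible (f '' (J.support : Set S)) := by
        refine IsIrreducible.image ?_ f f.continuous.continuousOn
        rw [← J.range_subschemeι, ← Set.image_univ]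
        exact (IrreducibleSpace.isIrreducible_univ _).image _ J.subschemeι.continuous.continuousOn
      have hcl' : IsClosed (f '' (J.support : Set S)) := f.isClosedMap _ J.support.isClosed
      obtain ⟨τ, hτ⟩ := QuasiSober.sober hirr hcl'
      have hτc : IsClosed ({τ} : Set C) := by
        by_contra hn
        obtain rfl := CurveCohLib.eq_genericPoint_of_not_isClosed hdimC hn
        obtain ⟨x, hx, hxb⟩ : b ∈ f '' (J.support : Set S) :=
          hτ.def.le (specializes_iff_mem_closure.1 (genericPoint_specializes b))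
        exact hdisj x hx hxb
      obtain ⟨-, -, hcint, hcd⟩ := integral_fibre k f hint τ hτc
      haveI := hcint
      refine ⟨τ, hτc, SurfNegDef.eq_of_support_subset k hJd' hcd fun x hx => (fibre_facts k hdim hdimC f τ hτc).2.1.ge ?_⟩
      show f x ∈ ({τ} : Set C)
      rw [← hτc.closure_eq, hτ.def]
      exact ⟨x, hx, rfl⟩
    subst hJc
    obtain ⟨hP, -, hPcl⟩ := fibre_ideal_cl k f hdim hdimC c hc
    have h0' : SurfPairing.pair k (PicF.cl (ClSub.idealMod (Fc b hb)))
        (PicF.cl (CohB1.tensorMod L (ClSub.idealMod (Fc c hc)))) = 0 := by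
      obtain ⟨-, -, hbint, hbd⟩ := integral_fibre k f hint b hb
      rw [PicMul.cl_tensor, SurfPairing.pair_mul k hdim.le (hFi b hb) hL (hFi c hc), h0, zero_add, ← hPcl]
      exact vertical_pullback_pair k f hdim hdimC hP b hb hbint hbd (fibre_facts k hdim hdimC f b hb).2.1.le
    obtain ⟨N', hN', hN'c⟩ := ih _ hLI h0' t ht hp
    obtain ⟨P', hP', hPP⟩ := PicInv.exists_inverse hP
    have hPP' : PicF.cl (CurvePoint.ptMod c hc) * PicF.cl P' = 1 := by
      rw [← PicMul.cl_tensor, PicMul.one_def]; exact PicMul.cl_eq_iff.2 hPP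
    have h2 := congrArg (PicMul.pullHom f) hPP'
    rw [map_mul, map_one] at h2
    change PicF.cl ((Scheme.Modules.pullback f).obj (CurvePoint.ptMod c hc)) *
      PicF.cl ((Scheme.Modules.pullback f).obj P') = 1 at h2
    refine ⟨CohB1.tensorMod N' P', PicMul.isInvertible_tensor hN' hP', ?_⟩
    have h3 : PicF.cl ((Scheme.Modules.pullback f).obj (CohB1.tensorMod N' P')) =
        PicF.cl ((Scheme.Modules.pullback f).obj N') * PicF.cl ((Scheme.Modules.pullback f).obj P') := by
      show PicMul.pullHom f (PicF.cl (CohB1.tensorMod N' P')) = _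
      rw [PicMul.cl_tensor, map_mul]
      rfl
    rw [h3, hN'c, PicMul.cl_tensor, ← hPcl, mul_assoc, h2, mul_one]

include k hdim hdimC hint hD hU htriv in
/-- A module trivial on general fibres comes from the base. -/
theorem exists_base [HasInjectiveResolutions S.Modules] :
    ∃ N : C.Modules, PicF.IsInvertible N ∧ PicF.cl ((Scheme.Modules.pullback f).obj N) = PicF.cl D := by
  haveI := CurveCohLib.isNoetherian_of_proper (k := k) (X := C)
  haveI : JacobsonSpace C := LocallyOfFiniteType.jacobsonSpace (C ↘ Spec (CommRingCat.of k))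
  obtain ⟨b, hb, hbc⟩ := nonempty_inter_closedPoints hU U.isOpen.isLocallyClosed
  obtain ⟨hE, hEf⟩ := fibration_push_locFree k f hdimC hD
  have hr : 1 ≤ rk ((Coh.push f).obj D) := by
    by_contra h0
    refine push_ne_zero k f hdimC hint hD U hU htriv ?_
    have hF := isFinLocFreeOfRank_rk hEf
    rw [show rk ((Coh.push f).obj D) = 0 by omega] at hF
    refine H28.PBAtlas.isZero_of_restrict _ fun y => ?_
    obtain ⟨O, hO, ⟨j⟩⟩ := hF y
    exact ⟨O, hO, (QCoh.isZero_freeMod_zero' _).of_iso
      (((Scheme.Modules.restrictFunctorIsoPullback O.ι).app _).symm ≪≫ j)⟩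
  obtain ⟨A, hA, hdA⟩ := CurveTwist.exists_isInvertible_deg k hdimC
    (1 + |Curv2.euler k C ((Coh.push f).obj D)|)
  have hfA := PicClLib.isInvertible_pullback f hA
  let D' := CohB1.tensorMod ((Scheme.Modules.pullback f).obj A) D
  have hD' : PicF.IsInvertible D' := PicMul.isInvertible_tensor hfA hD
  obtain ⟨e⟩ := fibration_projection f hA D
  have ht := CurveTensor.euler_tensor k hdimC (InvEnd.isFinLocFreeOfRank_one hA) hE
  change Curv2.euler k C (CohB1.tensorMod A ((Coh.push f).obj D)) = _ at ht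
  rw [Euler.euler_congr k e, CurveRR.euler_eq_h0_sub_h1 k hdimC.le (fibration_push_locFree k f hdimC hD').1.1,
    ← (fibration_leray k f hdim hdimC hD').1, hdA] at ht
  have hn : Nontrivial (Coh.HH S D' 0) := by
    refine not_subsingleton_iff_nontrivial.1 fun h => ?_
    rw [Module.finrank_zero_of_subsingleton (R := k) (M := Coh.HH S D' 0)] at ht
    have h1 : (1 : ℤ) ≤ rk ((Coh.push f).obj D) := by exact_mod_cast hr
    have h2 : (1 : ℤ) + |Curv2.euler k C ((Coh.push f).obj D)| ≤
        rk ((Coh.push f).obj D) * (1 + |Curv2.euler k C ((Coh.push f).obj D)|) :=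
      le_mul_of_one_le_left (by positivity) h1
    have h3 := neg_abs_le (Curv2.euler k C ((Coh.push f).obj D))
    push_cast at ht
    linarith
  obtain ⟨s, hs⟩ := CurveAmple.exists_section_ne_zero hn
  obtain ⟨hcl, hker, hbint, hbd⟩ := integral_fibre k f hint b hbc
  haveI := hcl
  haveI := (hint b hbc).1
  have hbi : PicF.IsInvertible (ClSub.idealMod (f.fiberι b).ker) := by
    rw [hker]; exact (S8914.result _).2 (fibre_facts k hdim hdimC f b hbc).1
  obtain ⟨eb⟩ := htriv b hb hbc
  letI : (f.fiber b).Over (Spec (CommRingCat.of k)) := ⟨f.fiberι b ≫ (S ↘ Spec (CommRingCat.of k))⟩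
  haveI : IsProper (f.fiber b ↘ Spec (CommRingCat.of k)) :=
    show IsProper (f.fiberι b ≫ (S ↘ Spec (CommRingCat.of k))) from inferInstance
  have hp0 := CurveOnSurf.pair_ideal (k := k) (f.fiberι b) hD hbi
  rw [hker, CurveRR.deg_congr k eb, CurveDeg.deg_structureModule, neg_zero] at hp0
  have h0 : SurfPairing.pair k (PicF.cl (ClSub.idealMod ((Scheme.IdealSheafData.vanishingIdeal ⟨{b}, hbc⟩).comap f)))
      (PicF.cl D') = 0 := by
    rw [PicMul.cl_tensor, SurfPairing.pair_mul k hdim.le (hker ▸ hbi) hfA hD, hp0, add_zero]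
    exact vertical_pullback_pair k f hdim hdimC hA b hbc hbint hbd (fibre_facts k hdim hdimC f b hbc).2.1.le
  obtain ⟨N, hN, hNc⟩ := exists_base_of_section k f hdim hdimC hint b hbc hD' h0 hs
  obtain ⟨A', hA', hAA⟩ := PicInv.exists_inverse hA
  have hAA' : PicF.cl A * PicF.cl A' = 1 := by
    rw [← PicMul.cl_tensor, PicMul.one_def]; exact PicMul.cl_eq_iff.2 hAA
  have h2 := congrArg (PicMul.pullHom f) hAA'
  rw [map_mul, map_one] at h2
  refine ⟨CohB1.tensorMod N A', PicMul.isInvertible_tensor hN hA', ?_⟩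
  show PicMul.pullHom f (PicF.cl (CohB1.tensorMod N A')) = _
  rw [PicMul.cl_tensor, map_mul]
  calc PicMul.pullHom f (PicF.cl N) * PicMul.pullHom f (PicF.cl A')
      = PicMul.pullHom f (PicF.cl A) * PicF.cl D * PicMul.pullHom f (PicF.cl A') := by
        rw [show PicMul.pullHom f (PicF.cl N) = PicF.cl D' from hNc]
        exact congrArg (· * _) (PicMul.cl_tensor ((Scheme.Modules.pullback f).obj A) D)
    _ = PicF.cl D := by rw [mul_right_comm, h2, one_mul]

end Groth.Agent.SurfRows
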