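import Groth.Agent.Lib.SurfNef
import Groth.Agent.Lib.CurveAmple
import Groth.Agent.Lib.FramesTrans
import Groth.Agent.OmegaLib.IdealMod
import Groth.Agent.H26.InterDiv

/-!
A function near a curve bounds the intersection of the curve with a divisor of the function.
-/

set_option autoImplicit false
set_option linter.style.haveILetI false
set_option linter.unusedSectionVars false
set_option backward.isDefEq.respectTransparency false
set_option backward.isDefEq.respectTransparency.types false
set_option maxHeartbeats 800000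

universe u

open CategoryTheory CategoryTheory.Limits AlgebraicGeometry TopologicalSpace Opposite
open Groth.Agent.H23 Groth.Agent.H23.TrivBasic

noncomputable section

namespace Groth.Agent.SurfRows

open Groth.Agent

attribute [local instance] PicMul.clMonoid

/-- A function on an open set lies in an ideal sheaf. -/
def LocMem {X : Scheme.{u}} {V : X.Opens} (h : Γ(X, V)) (I : X.IdealSheafData) : Prop :=
  ∀ x ∈ V, ∃ W : X.affineOpens, x ∈ W.1 ∧ ∃ hWV : W.1 ≤ V, X.presheaf.map (homOfLE hWV).op h ∈ I.ideal W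

theorem locMem_iff_app {X : Scheme.{u}} {V : X.Opens} (h : Γ(X, V)) (I : X.IdealSheafData) :
    LocMem h I ↔ I.subschemeι.app V h = 0 := by
  refine ⟨fun hm => ?_, fun h0 x hx => ?_⟩
  · choose W hxW hWV hW using hm
    refine TopCat.Sheaf.eq_of_locally_eq' I.subscheme.sheaf (fun x : V => I.subschemeι ⁻¹ᵁ (W x.1 x.2).1) _
      (fun x => homOfLE (I.subschemeι.preimage_mono (hWV x.1 x.2))) (fun z hz => ?_) _ _ fun x => ?_
    · exact Opens.mem_iSup.2 ⟨⟨_, hz⟩, hxW _ hz⟩
    · have h1 := hW x.1 x.2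
      rw [← I.ker_subschemeι_app, RingHom.mem_ker] at h1
      change ConcreteCategory.hom (I.subscheme.presheaf.map _) (I.subschemeι.app V h) =
        ConcreteCategory.hom (I.subscheme.presheaf.map _) 0
      rw [map_zero]
      exact ((congr($(I.subschemeι.naturality (homOfLE (hWV x.1 x.2)).op) h)).symm.trans h1)
  · obtain ⟨W, hW, hxW, hWV⟩ := exists_isAffineOpen_mem_and_subset hx
    refine ⟨⟨W, hW⟩, hxW, hWV, ?_⟩
    rw [← I.ker_subschemeι_app, RingHom.mem_ker]
    refine (congr($(I.subschemeι.naturality (homOfLE hWV).op) h)).trans ?_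
    show ConcreteCategory.hom (I.subscheme.presheaf.map _) (I.subschemeι.app V h) = 0
    rw [h0, map_zero]

variable (k : Type u) [Field k] [IsAlgClosed k] {X : Scheme.{u}} [X.Over (Spec (CommRingCat.of k))]
  [IsProper (X ↘ Spec (CommRingCat.of k))] [Smooth (X ↘ Spec (CommRingCat.of k))] [IsIntegral X]

/-- If a function defined around a curve `C` lies in `D` and not in `C + D`, then `C · D ≤ 0`, and in case of
equality its zeros near `C` lie in `D`. -/
theorem pair_le_zero_of_fun (hdim : topologicalKrullDim X = 2) {C D : X.IdealSheafData}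
    (hC : IsIntegral C.subscheme) (hCd : topologicalKrullDim (C.support : Set X) = 1) (hD : BlowUp.IsEffCartierIdeal D)
    {V : X.Opens} (hCV : (C.support : Set X) ⊆ V) (h : Γ(X, V)) (hm : LocMem h D) (hnm : ¬ LocMem h (C * D)) :
    SurfPairing.pair k (PicF.cl (ClSub.idealMod C)) (PicF.cl (ClSub.idealMod D)) ≤ 0 ∧
      (SurfPairing.pair k (PicF.cl (ClSub.idealMod C)) (PicF.cl (ClSub.idealMod D)) = 0 →
        ∀ x ∈ C.support, ∃ O : X.Opens, x ∈ O ∧ O ≤ V ∧ ∀ z ∈ O, z ∉ X.basicOpen h → z ∈ D.support) := by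
  haveI := hC
  have hDi := (S8914.result D).2 hD
  have hCi := SurfNef.invertible_ideal k hdim hC hCd
  let i := C.subschemeι
  letI : C.subscheme.Over (Spec (CommRingCat.of k)) := ⟨i ≫ (X ↘ (Spec (CommRingCat.of k)))⟩
  haveI : IsProper (C.subscheme ↘ Spec (CommRingCat.of k)) :=
    show IsProper (i ≫ (X ↘ Spec (CommRingCat.of k))) from inferInstance
  obtain ⟨κ, hκ⟩ := OmegaLib.exists_idealSect_eq D V h ((locMem_iff_app h D).1 hm)
  have htop : (⊤ : C.subscheme.Opens) ≤ i ⁻¹ᵁ V := fun z _ => hCV (C.range_subschemeι.le ⟨z, rfl⟩)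
  let P := (Scheme.Modules.pullback i).obj (ClSub.idealMod D)
  let σ : Γ(P, ⊤) := AModX.res P htop (InvX.pullElt i κ)
  have hPi : PicF.IsInvertible P := PicClLib.isInvertible_pullback i hDi
  -- local frames
  have key : ∀ x ∈ V, ∃ W : X.affineOpens, x ∈ W.1 ∧ ∃ (hWV : W.1 ≤ V) (s b : Γ(X, W.1))
      (e : Γ(P, i ⁻¹ᵁ W.1)), D.ideal W = Ideal.span {s} ∧ X.presheaf.map (homOfLE hWV).op h = b * s ∧
      InvX.IsFrame e ∧ AModX.res P le_top σ = i.app W.1 b • e := by
    intro x hx
    obtain ⟨U₀, hx₀, e₀, he₀⟩ := InvX.exists_frame hDi x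
    obtain ⟨W, hW, hxW, hWle⟩ := exists_isAffineOpen_mem_and_subset (show x ∈ V ⊓ U₀ from ⟨hx, hx₀⟩)
    have hWV : W ≤ V := hWle.trans inf_le_left
    let e := AModX.res (ClSub.idealMod D) (hWle.trans inf_le_right) e₀
    have he : InvX.IsFrame e := he₀.res _
    obtain ⟨b, hb⟩ := he.exists_coord le_rfl (AModX.res (ClSub.idealMod D) hWV κ)
    rw [AModX.res_self] at hb
    refine ⟨⟨W, hW⟩, hxW, hWV, OmegaSh.idealSect D W e, b, InvX.pullElt i e, ?_, ?_, InvX.isFrame_pullElt i he, ?_⟩
    · refine le_antisymm (fun g hg => ?_) ?_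
      · obtain ⟨c, hc⟩ := OmegaLib.exists_of_mem D ⟨W, hW⟩ g hg
        obtain ⟨r, hr⟩ := he.exists_coord le_rfl c
        rw [AModX.res_self] at hr
        rw [← hc, hr, OmegaLib.idealSect_smul]
        exact Ideal.mul_mem_left _ r (Ideal.mem_span_singleton_self _)
      · rw [Ideal.span_singleton_le_iff_mem]
        exact OmegaLib.idealSect_mem D ⟨W, hW⟩ e
    · rw [← hκ, ← OmegaLib.idealSect_map D hWV κ, ← OmegaLib.idealSect_smul]
      exact congrArg _ hb
    · show AModX.res P le_top (AModX.res P htop (InvX.pullElt i κ)) = _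
      rw [AModX.res_res, ← FramesTrans.pullElt_smul i b e, ← hb, FramesTrans.pullElt_res i hWV κ]
  have hσ0 : σ ≠ 0 := by
    intro h0
    refine hnm fun x hx => ?_
    obtain ⟨W, hxW, hWV, s, b, e, hs, hb, he, hσ⟩ := key x hx
    refine ⟨W, hxW, hWV, ?_⟩
    rw [h0] at hσ
    have h1 : i.app W.1 b = 0 := he.coord_unique le_rfl (by
      rw [AModX.res_self, ← hσ, zero_smul]
      exact (map_zero _))
    rw [Scheme.IdealSheafData.ideal_mul, Pi.mul_apply, hb, hs]
    exact Ideal.mul_mem_mul (by rw [← C.ker_subschemeι_app, RingHom.mem_ker]; exact h1)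
      (Ideal.mem_span_singleton_self _)
  have hd : topologicalKrullDim C.subscheme = 1 := by
    rw [IsHomeomorph.topologicalKrullDim_eq _
      ((i.isEmbedding.toHomeomorph).trans (Homeomorph.setCongr C.range_subschemeι)).isHomeomorph, hCd]
  have hpair := CurveOnSurf.pair_ideal (k := k) i hDi (by rw [Scheme.IdealSheafData.ker_subschemeι]; exact hCi)
  rw [Scheme.IdealSheafData.ker_subschemeι] at hpair
  rw [hpair]
  by_cases hloc : locus σ = ⊤
  · have hfr : InvX.IsFrame σ := locus_eq_top_iff.1 hloc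
    obtain ⟨e₁⟩ := triv_of_frame hfr
    have hdeg : Curv2.deg k C.subscheme P 1 = 0 :=
      (CurveRR.deg_congr k e₁ 1).trans (CurveDeg.deg_structureModule k)
    refine ⟨by linarith, fun _ x hx => ?_⟩
    obtain ⟨W, hxW, hWV, s, b, e, hs, hb, he, hσ⟩ := key x (hCV hx)
    have hunit : IsUnit (i.app W.1 b) := by
      obtain ⟨r, hr⟩ := (hfr.res (show i ⁻¹ᵁ W.1 ≤ ⊤ from le_top)).exists_coord le_rfl e
      rw [AModX.res_self] at hr
      rw [hσ, smul_smul] at hr
      exact IsUnit.of_mul_eq_one r (he.coord_unique le_rfl (r := i.app W.1 b * r) (r' := 1) (by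
        rw [mul_comm]
        rw [AModX.res_self, one_smul, ← hr]))
    obtain ⟨c, rfl⟩ := C.range_subschemeι.ge hx
    refine ⟨X.basicOpen b, ?_, (X.basicOpen_le b).trans hWV, fun z hz hzh => ?_⟩
    · have h1 : c ∈ C.subscheme.basicOpen (i.app W.1 b) := by
        rw [Scheme.basicOpen_of_isUnit _ hunit]
        exact hxW
      rw [← Scheme.preimage_basicOpen] at h1
      exact h1
    · have hzW : z ∈ W.1 := X.basicOpen_le b hz
      by_contra hzD
      refine hzh ?_
      have hzs : z ∈ X.basicOpen s := by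
        by_contra hns
        refine hzD ((D.coe_support_inter W).ge ⟨?_, hzW⟩).1
        rw [hs, Scheme.zeroLocus_span, Scheme.mem_zeroLocus_iff]
        intro f hf
        rw [Set.mem_singleton_iff.1 hf]
        exact hns
      have h2 : z ∈ X.basicOpen (b * s) := by
        rw [Scheme.basicOpen_mul]
        exact ⟨hz, hzs⟩
      rw [← hb, Scheme.basicOpen_res] at h2
      exact h2.2
  · have hpos := CurveAmple.deg_pos_of_section (k := k) hd hPi hσ0 hloc
    exact ⟨by linarith, fun h0 => absurd h0 (by linarith)⟩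

end Groth.Agent.SurfRows
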