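import Groth.Agent.Lib.SurfAdj
import Groth.Agent.S4417
import Groth.Agent.S14401
import Groth.Agent.AmpleVan.Components
import Groth.Agent.ParaFX.Closed

/-!
Projectivity of smooth proper surfaces, possibly disconnected.
-/

set_option autoImplicit false
set_option linter.style.haveILetI false
set_option backward.isDefEq.respectTransparency false
set_option backward.isDefEq.respectTransparency.types false

universe u

open CategoryTheory CategoryTheory.Limits AlgebraicGeometry TopologicalSpace Opposite

noncomputable section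

namespace Groth.Agent.SurfRows

open Groth.Agent

/-- Modules on the pieces of a finite disjoint open covering glue. -/
theorem exists_glue {X : Scheme.{u}} {ι : Type} [Finite ι] (U : ι → X.Opens)
    (hd : ∀ a b, a ≠ b → Disjoint (U a : Set X) (U b : Set X)) (L : ∀ a, (U a : Scheme.{u}).Modules) :
    ∃ M : X.Modules, ∀ a, Nonempty (M.restrict (U a).ι ≅ L a) := by
  classical
  haveI := Fintype.ofFinite ι
  let f : ι → X.Modules := fun a => (Scheme.Modules.pushforward (U a).ι).obj (L a)
  refine ⟨⨁ f, fun a => ?_⟩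
  haveI : PreservesColimitsOfSize.{0, 0} (Scheme.Modules.restrictFunctor (U a).ι) :=
    (Scheme.Modules.restrictAdjunction (U a).ι).leftAdjoint_preservesColimits
  haveI := preservesBinaryBiproducts_of_preservesBinaryCoproducts (Scheme.Modules.restrictFunctor (U a).ι)
  haveI : (Scheme.Modules.restrictFunctor (U a).ι).Additive := Functor.additive_of_preservesBinaryBiproducts _
  let R := Scheme.Modules.restrictFunctor (U a).ι
  refine ⟨(⟨R.map (biproduct.π f a), R.map (biproduct.ι f a), ?_, ?_⟩ : R.obj (⨁ f) ≅ R.obj (f a)) ≪≫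
    asIso ((Scheme.Modules.restrictAdjunction (U a).ι).counit.app (L a))⟩
  · rw [← R.map_comp, ← R.map_id (⨁ f), ← biproduct.total, Functor.map_sum, Finset.sum_eq_single a]
    · intro b _ hb
      have hz : IsZero (R.obj (f b)) := by
        refine S4417.isZero_restrict_pushforward (U a).ι (U b).ι ?_ (L b)
        rw [Scheme.Opens.range_ι, Scheme.Opens.range_ι]
        exact hd a b (Ne.symm hb)
      rw [R.map_comp, hz.eq_zero_of_tgt (R.map (biproduct.π f b)), zero_comp]
    · exact fun h => absurd (Finset.mem_univ a) h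
  · rw [← R.map_comp, biproduct.ι_π_self, R.map_id]

/-- The irreducible components of a smooth proper surface as integral open subschemes. -/
theorem component_pieces (k : Type u) [Field k] (X : Scheme.{u}) [X.Over (Spec (CommRingCat.of k))]
    [IsProper (X ↘ Spec (CommRingCat.of k))] [Smooth (X ↘ Spec (CommRingCat.of k))]
    (hdim : ∀ Z ∈ irreducibleComponents (X : Type u), topologicalKrullDim Z = 2) :
    ∃ (n : ℕ) (U : Fin n → X.Opens), (∀ x, ∃ a, x ∈ U a) ∧
      (∀ a b, a ≠ b → Disjoint (U a : Set X) (U b : Set X)) ∧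
      ∀ a, IsClosed (U a : Set X) ∧ IsIntegral (U a : Scheme.{u}) ∧
        topologicalKrullDim (U a : Scheme.{u}) = 2 := by
  haveI := CurveCohLib.isNoetherian_of_proper (k := k) (X := X)
  have hdom : ∀ x : X, IsDomain (X.presheaf.stalk x) := fun x => by
    haveI := GrpSchLib.isRegularLocalRing_stalk_of_smooth (X ↘ Spec (CommRingCat.of k)) x
    exact RegLoc6.isDomain_of_isRegularLocalRing _
  obtain ⟨ho, hu⟩ := S14401.result X hdom
  have hfin : (irreducibleComponents (X : Type u)).Finite := NoetherianSpace.finite_irreducibleComponents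
  obtain ⟨n, f, hf, hr⟩ : ∃ (n : ℕ) (f : Fin n → Set X), Function.Injective f ∧
      Set.range f = irreducibleComponents (X : Type u) := by
    obtain ⟨n, f, hf⟩ := hfin.fin_embedding
    exact ⟨n, f, f.injective, hf⟩
  have hm : ∀ a, f a ∈ irreducibleComponents (X : Type u) := fun a => hr ▸ ⟨a, rfl⟩
  refine ⟨n, fun a => ⟨f a, ho _ (hm a)⟩, fun x => ?_, fun a b hab => ?_, fun a => ⟨?_, ?_, hdim _ (hm a)⟩⟩
  · obtain ⟨Z, ⟨hZ, hx⟩, -⟩ := hu x
    obtain ⟨a, rfl⟩ := hr.symm ▸ hZ
    exact ⟨a, hx⟩
  · exact Set.disjoint_left.2 fun x hx hy => hab (hf ((hu x).unique ⟨hm a, hx⟩ ⟨hm b, hy⟩))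
  · exact isClosed_of_mem_irreducibleComponents _ (hm a)
  · let U : X.Opens := ⟨f a, ho _ (hm a)⟩
    haveI : IrreducibleSpace (U : Scheme.{u}) :=
      Homeomorph.irreducibleSpace_iff (Homeomorph.refl _) |>.1 (Subtype.irreducibleSpace (hm a).1)
    haveI : ∀ x : X, _root_.IsReduced (X.presheaf.stalk x) := fun x => by
      haveI := hdom x
      infer_instance
    haveI : IsReduced X := isReduced_of_isReduced_stalk X
    exact isIntegral_of_irreducibleSpace_of_isReduced (U : Scheme.{u})

/-- A smooth proper surface is projective. -/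
theorem exists_ample (k : Type u) [Field k] (X : Scheme.{u}) [X.Over (Spec (CommRingCat.of k))]
    [IsProper (X ↘ Spec (CommRingCat.of k))] [Smooth (X ↘ Spec (CommRingCat.of k))]
    (hdim : ∀ Z ∈ irreducibleComponents (X : Type u), topologicalKrullDim Z = 2) :
    SmoothOfRelativeDimension 2 (X ↘ Spec (CommRingCat.of k)) ∧ ∃ H : X.Modules, CohB1.IsAmple H := by
  classical
  obtain ⟨n, U, hcov, hd, hU⟩ := component_pieces k X hdim
  let π := X ↘ Spec (CommRingCat.of k)
  haveI := CurveCohLib.isNoetherian_of_proper (k := k) (X := X)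
  have hci : ∀ a, IsClosedImmersion (U a).ι := fun a =>
    IsClosedImmersion.of_isPreimmersion _ (by rw [Scheme.Opens.range_ι]; exact (hU a).1)
  have key : ∀ a, SmoothOfRelativeDimension 2 ((U a).ι ≫ π) ∧
      ∃ H : (U a : Scheme.{u}).Modules, CohB1.IsAmple H := fun a => by
    haveI := hci a
    letI : (U a : Scheme.{u}).Over (Spec (CommRingCat.of k)) := ⟨(U a).ι ≫ π⟩
    haveI := (hU a).2.1
    haveI : IsProper ((U a : Scheme.{u}) ↘ Spec (CommRingCat.of k)) := inferInstanceAs (IsProper ((U a).ι ≫ π))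
    haveI : Smooth ((U a : Scheme.{u}) ↘ Spec (CommRingCat.of k)) := inferInstanceAs (Smooth ((U a).ι ≫ π))
    exact ⟨CurveFin.smoothOfRelativeDimension_of_dim (f := (U a).ι ≫ π) (d := 2) (hU a).2.2,
      SurfAdj.exists_ample k (hU a).2.2⟩
  have htop : ⨆ a, U a = ⊤ := top_le_iff.1 fun x _ => Opens.mem_iSup.2 (hcov x)
  refine ⟨IsZariskiLocalAtSource.of_iSup_eq_top (P := @SmoothOfRelativeDimension 2) U htop fun a => (key a).1, ?_⟩
  choose L hL using fun a => (key a).2
  obtain ⟨M, hM⟩ := exists_glue U hd L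
  have hMi : PicF.IsInvertible M := ParaFX.isInvertible_of_cover U hcov fun a =>
    (hM a).elim fun e => ParaFX.isInvertible_of_iso e.symm (hL a).1
  let C : Fin n → Closeds X := fun a => ⟨U a, (hU a).1⟩
  refine ⟨M, AmpleVan.FiniteSurj.isAmple_of_finite_cover (A := k) hMi (Finset.univ.image C) ?_ ?_⟩
  · refine top_le_iff.1 fun x _ => ?_
    obtain ⟨a, ha⟩ := hcov x
    exact (Finset.le_sup (f := id) (Finset.mem_image_of_mem C (Finset.mem_univ a)) : C a ≤ _) ha
  · intro D hD
    obtain ⟨a, -, rfl⟩ := Finset.mem_image.1 hD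
    haveI := hci a
    haveI := H23.RedSub.isReduced_vanishingIdeal (C a)
    obtain ⟨g, hg⟩ := H23.RedSub.exists_lift_closed (Scheme.IdealSheafData.vanishingIdeal (C a)).subschemeι (U a).ι
      (by rw [AmpleVan.FiniteSurj.range_vanishingIdeal, Scheme.Opens.range_ι]; exact subset_rfl)
    haveI : IsClosedImmersion (g ≫ (U a).ι) := by rw [hg]; infer_instance
    haveI : IsClosedImmersion g := IsClosedImmersion.of_comp g (U a).ι
    haveI : CompactSpace (Scheme.IdealSheafData.vanishingIdeal (C a)).subscheme :=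
      (Scheme.IdealSheafData.vanishingIdeal (C a)).subschemeι.isClosedEmbedding.compactSpace
    obtain ⟨e⟩ := hM a
    exact AmpleX.isAmple_of_iso
      (((Scheme.Modules.pullback g).mapIso (e.symm ≪≫ (Scheme.Modules.restrictFunctorIsoPullback (U a).ι).app M) ≪≫
        (Scheme.Modules.pullbackComp g (U a).ι).app M ≪≫ (Scheme.Modules.pullbackCongr hg).app M))
      (AmpleVan.FiniteSurj.isAmple_pullback_of_isAffineHom g (hL a))

end Groth.Agent.SurfRows
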