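import Groth.Agent.Lib.SurfNef
import Groth.Agent.H26.EulerFibre
import Groth.Agent.ParShLib.ResStalk
import Groth.Agent.CurveVA.SectionBound

/-!
Sequences of divisors, and sections of invertible modules restricted to integral curves.
-/

set_option autoImplicit false
set_option linter.style.haveILetI false
set_option linter.unusedSectionVars false
set_option backward.isDefEq.respectTransparency false
set_option backward.isDefEq.respectTransparency.types false
set_option maxHeartbeats 1000000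

universe u

open CategoryTheory CategoryTheory.Limits AlgebraicGeometry TopologicalSpace Opposite
open Groth.Agent.H23 Groth.Agent.H23.TrivBasic

noncomputable section

namespace Groth.Agent.SurfRows

open Groth.Agent

attribute [local instance] PicMul.clMonoid

theorem cl_obj {X : Scheme.{u}} (L M : X.Modules) :
    PicF.cl ((DCoh.tensorBi.obj L).obj M) = PicF.cl L * PicF.cl M := rfl

/-- `0 → I_J ⊗ O_K → O_{J+K} → O_J → 0`. -/
theorem exists_quot_ses₀ {X : Scheme.{u}} (J K : X.IdealSheafData) (hJ : BlowUp.IsEffCartierIdeal J) :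
    ∃ (T : ShortComplex X.Modules) (_ : T.ShortExact),
      Nonempty (T.X₁ ≅ (DCoh.tensorBi.obj (ClSub.idealMod J)).obj (ClSub.quotMod K)) ∧
      Nonempty (T.X₂ ≅ ClSub.quotMod (J * K)) ∧ Nonempty (T.X₃ ≅ ClSub.quotMod J) := by
  let A := ClSub.idealMod J
  haveI := H26.IdealCl.isEquivalence_tensor (H26.IdealCl.isInvertible_idealMod hJ)
  haveI : Mono (ClSub.idealModι K) := inferInstanceAs (Mono (kernel.ι _))
  haveI : Mono (ClSub.idealModι J) := inferInstanceAs (Mono (kernel.ι _))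
  haveI : Mono (DivisorExt.mulIdeal K A) := by
    haveI : Mono ((DCoh.tensorBi.obj A).map (ClSub.idealModι K)) := inferInstance
    exact mono_comp _ _
  let f := DivisorExt.mulIdeal K A
  let g : A ⟶ Coh.structureModule X := ClSub.idealModι J
  let T : ShortComplex X.Modules :=
    ShortComplex.mk (cokernel.map f (f ≫ g) (𝟙 _) g (by simp)) (cokernel.map (f ≫ g) g f (𝟙 _) (by simp))
      ((kernelCokernelCompSequence_exact f g).toIsComplex.zero' 3 4 5)
  have hT : T.ShortExact := by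
    have h1 : T.Exact := (kernelCokernelCompSequence_exact f g).exact' 3 4 5
    haveI : Mono T.f := ((kernelCokernelCompSequence_exact f g).exact' 2 3 4).mono_g
      ((isZero_kernel_of_mono g).eq_of_src _ _)
    haveI : Epi T.g := inferInstanceAs (Epi ((kernelCokernelCompSequence f g).map' 4 5))
    exact ShortComplex.ShortExact.mk h1
  obtain ⟨e₁⟩ := DivisorExt.nonempty_cokernel_mulIdeal K A
  obtain ⟨e, he⟩ := H26.EulerFibre.exists_mul_iso K J hJ
  have hq : ∀ I : X.IdealSheafData, Nonempty (cokernel (ClSub.idealModι I) ≅ ClSub.quotMod I) := fun I =>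
    ⟨IsColimit.coconePointUniqueUpToIso (cokernelIsCokernel _) (DivisorExt.ideal_shortExact I).gIsCokernel⟩
  obtain ⟨qJ⟩ := hq J
  obtain ⟨qK⟩ := hq (J * K)
  exact ⟨T, hT, ⟨e₁⟩, ⟨cokernel.mapIso (f ≫ g) (ClSub.idealModι (J * K)) e (Iso.refl _)
      (by rw [Iso.refl_hom, Category.comp_id]; exact he.symm) ≪≫ qK⟩, ⟨qJ⟩⟩

/-- `0 → L ⊗ I_J ⊗ O_K → L ⊗ O_{J+K} → L ⊗ O_J → 0`. -/
theorem exists_quot_ses {X : Scheme.{u}} (J K : X.IdealSheafData) (hJ : BlowUp.IsEffCartierIdeal J) {L : X.Modules}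
    (hL : PicF.IsInvertible L) :
    ∃ (T : ShortComplex X.Modules) (_ : T.ShortExact),
      PicF.cl T.X₁ = PicF.cl L * PicF.cl (ClSub.idealMod J) * PicF.cl (ClSub.quotMod K) ∧
      PicF.cl T.X₂ = PicF.cl L * PicF.cl (ClSub.quotMod (J * K)) ∧
      PicF.cl T.X₃ = PicF.cl L * PicF.cl (ClSub.quotMod J) := by
  obtain ⟨T, hT, ⟨e₁⟩, ⟨e₂⟩, ⟨e₃⟩⟩ := exists_quot_ses₀ J K hJ
  haveI := CurveOnSurf.isEquivalence_tensor hL
  refine ⟨T.map (DCoh.tensorBi.obj L), hT.map_of_exact _, ?_, ?_, ?_⟩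
  · show PicF.cl ((DCoh.tensorBi.obj L).obj T.X₁) = _
    rw [cl_obj, PicMul.cl_eq_iff.2 ⟨e₁⟩, cl_obj, mul_assoc]
  · show PicF.cl ((DCoh.tensorBi.obj L).obj T.X₂) = _
    rw [cl_obj, PicMul.cl_eq_iff.2 ⟨e₂⟩]
  · show PicF.cl ((DCoh.tensorBi.obj L).obj T.X₃) = _
    rw [cl_obj, PicMul.cl_eq_iff.2 ⟨e₃⟩]

section Coh

variable (k : Type u) [Field k] {X : Scheme.{u}} [X.Over (Spec (CommRingCat.of k))]
  [IsProper (X ↘ Spec (CommRingCat.of k))]

theorem h0_congr {M N : X.Modules} (h : PicF.cl M = PicF.cl N) :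
    Module.finrank k (Coh.HH X M 0) = Module.finrank k (Coh.HH X N 0) :=
  (PicMul.cl_eq_iff.1 h).elim fun e => (CurveCohLib.hhEquiv (k := k) e 0).finrank_eq

include k in
theorem isCoh_tensor_quot {L : X.Modules} (hL : PicF.IsInvertible L) (K : X.IdealSheafData) :
    Coh.IsCoh (CohB1.tensorMod L (ClSub.quotMod K)) := by
  haveI := CurveCohLib.isNoetherian_of_proper (k := k) (X := X)
  exact ParShLib.isCoh_tensorMod (AmpleVan.isCoh_invertible hL) (ParShLib.isCoh_quotMod _)

/-- Sections on a sum of divisors. -/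
theorem h0_quot_mul_le (J K : X.IdealSheafData) (hJ : BlowUp.IsEffCartierIdeal J) {L : X.Modules}
    (hL : PicF.IsInvertible L) :
    Module.finrank k (Coh.HH X (CohB1.tensorMod L (ClSub.quotMod (J * K))) 0) ≤
      Module.finrank k (Coh.HH X (CohB1.tensorMod (CohB1.tensorMod L (ClSub.idealMod J)) (ClSub.quotMod K)) 0) +
        Module.finrank k (Coh.HH X (CohB1.tensorMod L (ClSub.quotMod J)) 0) := by
  haveI := CurveCohLib.isNoetherian_of_proper (k := k) (X := X)
  obtain ⟨T, hT, c1, c2, c3⟩ := exists_quot_ses J K hJ hL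
  rw [← PicMul.cl_tensor, ← PicMul.cl_tensor] at c1
  rw [← PicMul.cl_tensor] at c2 c3
  obtain ⟨e1⟩ := PicMul.cl_eq_iff.1 c1
  obtain ⟨e2⟩ := PicMul.cl_eq_iff.1 c2
  obtain ⟨e3⟩ := PicMul.cl_eq_iff.1 c3
  rw [← h0_congr k c1, ← h0_congr k c2, ← h0_congr k c3]
  exact CurveVA.finrank_h0_le_add k hT
    (SheafHomX.isCoh_of_iso e1.symm (isCoh_tensor_quot k
      (PicMul.isInvertible_tensor hL ((S8914.result J).2 hJ)) K))
    (SheafHomX.isCoh_of_iso e2.symm (isCoh_tensor_quot k hL _))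
    (SheafHomX.isCoh_of_iso e3.symm (isCoh_tensor_quot k hL _))

include k in
theorem h0_quot_top (L : X.Modules) :
    Module.finrank k (Coh.HH X (CohB1.tensorMod L (ClSub.quotMod (⊤ : X.IdealSheafData))) 0) = 0 := by
  haveI : IsEmpty (⊤ : X.IdealSheafData).subscheme := ⟨fun z => by
    have h : (⊤ : X.IdealSheafData).subschemeι z ∈ (⊤ : X.IdealSheafData).support := by
      have h' : (⊤ : X.IdealSheafData).subschemeι z ∈ Set.range (⊤ : X.IdealSheafData).subschemeι := ⟨z, rfl⟩
      rwa [Scheme.IdealSheafData.range_subschemeι] at h'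
    rw [Scheme.IdealSheafData.support_top] at h
    exact h⟩
  have hz : IsZero (ClSub.quotMod (⊤ : X.IdealSheafData)) :=
    (IsZero.iff_id_eq_zero _).2 (Scheme.Modules.hom_ext _ _ fun U => by
      ext s
      exact AModX.eq_of_locally (M := Coh.structureModule (⊤ : X.IdealSheafData).subscheme) _ _ fun z => isEmptyElim z)
  have hz' : IsZero (CohB1.tensorMod L (ClSub.quotMod (⊤ : X.IdealSheafData))) := by
    obtain ⟨q⟩ := PicMul.cl_eq_iff.1 ((PicMul.cl_tensor L (ClSub.quotMod (⊤ : X.IdealSheafData))).trans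
      (cl_obj L (ClSub.quotMod (⊤ : X.IdealSheafData))).symm)
    exact ((DCoh.tensorBi.obj L).map_isZero hz).of_iso q
  haveI : Subsingleton (Coh.HH X (CohB1.tensorMod L (ClSub.quotMod (⊤ : X.IdealSheafData))) 0) := by
    refine ⟨fun a b => ?_⟩
    have h1 : ∀ c : Coh.HH X (CohB1.tensorMod L (ClSub.quotMod (⊤ : X.IdealSheafData))) 0, c = 0 := fun c => by
      apply (Sheaf.H.equiv₀ (Coh.toAb (CohB1.tensorMod L (ClSub.quotMod (⊤ : X.IdealSheafData)))) isTerminalTop).injective
      rw [map_zero]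
      exact congr($((IsZero.iff_id_eq_zero _).1 hz').app ⊤ _)
    rw [h1 a, h1 b]
  exact Module.finrank_zero_of_subsingleton

/-- An invertible module on an integral curve, seen on the surface. -/
theorem tensor_quot_iso_push {C : Scheme.{u}} (i : C ⟶ X) [IsClosedImmersion i] {M : X.Modules} :
    Nonempty (CohB1.tensorMod M (ClSub.quotMod i.ker) ≅
      (Coh.push i).obj ((Scheme.Modules.pullback i).obj M)) := by
  obtain ⟨e₂⟩ := DivisorExt.nonempty_quotMod_iso i
  obtain ⟨c⟩ := PicMul.comm M ((Scheme.Modules.pushforward i).obj (Coh.structureModule C))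
  haveI := KFlatLib.isIso_projMod_of_isClosedImmersion i (Coh.structureModule C) M
  obtain ⟨u⟩ := PicMul.comm (Coh.structureModule C) ((Scheme.Modules.pullback i).obj M)
  exact ⟨PicGrp.tensorModIso (Iso.refl M) e₂ ≪≫ c ≪≫ asIso (KFlatLib.projMod i (Coh.structureModule C) M) ≪≫
      (Scheme.Modules.pushforward i).mapIso (u ≪≫ KFlatLib.tensorUnitIso _)⟩

/-- Sections on an integral curve of a module of nonpositive degree. -/
theorem h0_curve [IsAlgClosed k] [IsIntegral X] [Smooth (X ↘ Spec (CommRingCat.of k))]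
    (hdim : topologicalKrullDim X = 2) {I : X.IdealSheafData}
    (hint : IsIntegral I.subscheme) (hd : topologicalKrullDim (I.support : Set X) = 1) {M : X.Modules}
    (hM : PicF.IsInvertible M) (hle : 0 ≤ SurfPairing.pair k (PicF.cl (ClSub.idealMod I)) (PicF.cl M)) :
    Module.finrank k (Coh.HH X (CohB1.tensorMod M (ClSub.quotMod I)) 0) ≤ 1 ∧
      (Module.finrank k (Coh.HH X (CohB1.tensorMod M (ClSub.quotMod I)) 0) ≠ 0 →
        SurfPairing.pair k (PicF.cl (ClSub.idealMod I)) (PicF.cl M) = 0 ∧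
          Nonempty (CohB1.tensorMod M (ClSub.quotMod I) ≅ ClSub.quotMod I)) := by
  haveI := hint
  let i := I.subschemeι
  letI : I.subscheme.Over (Spec (CommRingCat.of k)) := ⟨i ≫ (X ↘ (Spec (CommRingCat.of k)))⟩
  haveI : IsProper (I.subscheme ↘ Spec (CommRingCat.of k)) :=
    show IsProper (i ≫ (X ↘ Spec (CommRingCat.of k))) from inferInstance
  haveI := CurveCohLib.isNoetherian_of_proper (k := k) (X := I.subscheme)
  have hd' : topologicalKrullDim I.subscheme ≤ 1 := by
    rw [IsHomeomorph.topologicalKrullDim_eq _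
      ((i.isEmbedding.toHomeomorph).trans (Homeomorph.setCongr I.range_subschemeι)).isHomeomorph, hd]
  have hker : i.ker = I := Scheme.IdealSheafData.ker_subschemeι I
  have hI := SurfNef.invertible_ideal k hdim hint hd
  have hp := CurveOnSurf.pair_ideal (k := k) i hM (by rw [hker]; exact hI)
  rw [hker] at hp
  let N := (Scheme.Modules.pullback i).obj M
  have hN : PicF.IsInvertible N := PicClLib.isInvertible_pullback i hM
  obtain ⟨e⟩ := tensor_quot_iso_push i (M := M)
  obtain ⟨a⟩ := PnCoh.exists_linearEquiv_push k i (P := X) rfl (AmpleVan.isCoh_invertible hN).1 0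
  have hh : Module.finrank k (Coh.HH X (CohB1.tensorMod M (ClSub.quotMod I)) 0) =
      Module.finrank k (Coh.HH I.subscheme N 0) :=
    (h0_congr k (PicMul.cl_eq_iff.2 ⟨eqToIso (by rw [hker]) ≪≫ e⟩)).trans a.finrank_eq.symm
  rw [hh]
  by_cases hne : Module.finrank k (Coh.HH I.subscheme N 0) = 0
  · exact ⟨by omega, fun h => absurd hne h⟩
  obtain ⟨φ, hφ⟩ := CurveRR.exists_hom_ne_zero k hne
  obtain ⟨h1, h2⟩ := CurveDeg.deg_le_and_isIso k hd' InvX.isInvertible_structureModule hN φ hφ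
  rw [CurveDeg.deg_structureModule] at h1 h2
  haveI := h2 (by linarith)
  refine ⟨?_, fun _ => ⟨by linarith, ?_⟩⟩
  · rw [← (CurveCohLib.hhEquiv (k := k) (asIso φ) 0).finrank_eq, SurfAdj.finrank_h0]
  · obtain ⟨q⟩ := DivisorExt.nonempty_quotMod_iso i
    exact ⟨eqToIso (by rw [hker]) ≪≫ e ≪≫ (Scheme.Modules.pushforward i).mapIso (asIso φ).symm ≪≫ q.symm ≪≫
      eqToIso (by rw [hker])⟩

end Coh

end Groth.Agent.SurfRows
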